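import Mathlib.Algebra.BigOperators.Group.Multiset.Basic
import Mathlib.Tactic

/-!
A bounded search over multisets of degrees, by structural recursion on the list of candidates.
-/

set_option autoImplicit false

namespace CfsgLib.MTwentyThreeUnique

/-- What is accumulated along a choice of degrees. -/
structure Acc where
  /-- The first linear form. -/
  s : ℤ
  /-- The second linear form. -/
  o : ℤ
  /-- The sum of squares. -/
  q : ℕ
  /-- The degrees chosen. -/
  l : List ℕ

/-- Add one degree. -/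
def Acc.push (w₁ w₂ : ℕ → ℤ) (d : ℕ) (a : Acc) : Acc :=
  ⟨a.s + w₁ d, a.o + w₂ d, a.q + d * d, d :: a.l⟩

/-- Use the degree `d` some number of times, then continue. -/
def searchStep (w₁ w₂ : ℕ → ℤ) (B : ℕ) (next : ℕ → Acc → Bool) (d : ℕ) : ℕ → Acc → Bool
  | 0, a => next 0 a
  | k + 1, a => (decide (B < a.q + d * d) || searchStep w₁ w₂ B next d k (a.push w₁ w₂ d)) &&
      next (k + 1) a

/-- All choices of `k` further degrees. -/
def search (w₁ w₂ : ℕ → ℤ) (B : ℕ) (leaf : Acc → Bool) : List ℕ → ℕ → Acc → Bool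
  | [], 0, a => leaf a
  | [], _ + 1, _ => true
  | d :: ds, k, a => searchStep w₁ w₂ B (search w₁ w₂ B leaf ds) d k a

theorem search_sound (w₁ w₂ : ℕ → ℤ) (B : ℕ) (leaf : Acc → Bool) :
    ∀ (cands : List ℕ) (k : ℕ) (a : Acc), search w₁ w₂ B leaf cands k a = true →
      ∀ m : Multiset ℕ, m.card = k → (∀ d ∈ m, d ∈ cands) →
        a.q + (m.map fun d => d * d).sum ≤ B →
        ∃ l : List ℕ, (l : Multiset ℕ) = m + (a.l : Multiset ℕ) ∧
          leaf ⟨a.s + (m.map w₁).sum, a.o + (m.map w₂).sum, a.q + (m.map fun d => d * d).sum, l⟩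
            = true := by
  intro cands
  induction cands with
  | nil =>
    intro k a h m hm hc _
    obtain rfl : m = 0 := Multiset.eq_zero_of_forall_notMem fun d hd => by simpa using hc d hd
    subst hm
    refine ⟨a.l, by simp, ?_⟩
    simpa [search] using h
  | cons d ds ih =>
    intro k
    induction k with
    | zero =>
      intro a h m hm hc hq
      obtain rfl := Multiset.card_eq_zero.1 hm
      exact ih 0 a h 0 rfl (fun x hx => absurd hx (Multiset.notMem_zero x)) hq
    | succ k ihk =>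
      intro a h m hm hc hq
      simp only [search, searchStep, Bool.and_eq_true, Bool.or_eq_true, decide_eq_true_eq] at h
      by_cases hd : d ∈ m
      · obtain ⟨m', rfl⟩ := Multiset.exists_cons_of_mem hd
        simp only [Multiset.map_cons, Multiset.sum_cons, Multiset.card_cons] at hq hm ⊢
        have h1 := h.1.resolve_left (by omega)
        obtain ⟨l, hl, hleaf⟩ := ihk (a.push w₁ w₂ d) h1 m' (by omega)
          (fun x hx => hc x (Multiset.mem_cons_of_mem hx)) (by simp only [Acc.push]; omega)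
        refine ⟨l, ?_, ?_⟩
        · rw [hl, Acc.push, ← Multiset.cons_coe, Multiset.add_cons, Multiset.cons_add]
        · simp only [Acc.push] at hleaf
          rw [← add_assoc, ← add_assoc a.o, ← add_assoc a.q]
          exact hleaf
      · exact ih (k + 1) a h.2 m hm
          (fun x hx => (List.mem_cons.1 (hc x hx)).resolve_left fun e => hd (e ▸ hx)) hq

/-- The search from scratch, followed by a choice of the exceptional degree. -/
def profileCheck (w₁ w₂ : ℕ → ℤ) (s₀ o₀ : ℤ) (B : ℕ) (t : ℕ) (v₁ v₂ : ℕ → ℤ)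
    (cands ycands : List ℕ) (k : ℕ) (good : List ℕ → ℕ → Bool) : Bool :=
  search w₁ w₂ B
    (fun a => bif t == 0 then !(a.s == 0 && a.o == 0) || good a.l 0
      else ycands.all fun y => !(a.s + (t : ℤ) * v₁ y == 0 && a.o + (t : ℤ) * v₂ y == 0 &&
        decide (a.q + t * (y * y) ≤ B)) || good a.l y)
    cands k ⟨s₀, o₀, 1, []⟩

theorem profileCheck_sound {w₁ w₂ : ℕ → ℤ} {s₀ o₀ : ℤ} {B : ℕ} {t : ℕ} {v₁ v₂ : ℕ → ℤ}
    {cands ycands : List ℕ} {k : ℕ} {good : List ℕ → ℕ → Bool}
    (h : profileCheck w₁ w₂ s₀ o₀ B t v₁ v₂ cands ycands k good = true)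
    (m : Multiset ℕ) (y : ℕ) (hk : m.card = k) (hc : ∀ d ∈ m, d ∈ cands)
    (hy : t ≠ 0 → y ∈ ycands)
    (h₁ : s₀ + (m.map w₁).sum + (t : ℤ) * v₁ y = 0) (h₂ : o₀ + (m.map w₂).sum + (t : ℤ) * v₂ y = 0)
    (hq : 1 + (m.map fun d => d * d).sum + t * (y * y) ≤ B) :
    ∃ l : List ℕ, (l : Multiset ℕ) = m ∧ good l (if t = 0 then 0 else y) = true := by
  obtain ⟨l, hl, hleaf⟩ := search_sound _ _ _ _ cands k _ h m hk hc
    (le_trans (Nat.le_add_right _ _) hq)
  refine ⟨l, by rw [hl]; simp, ?_⟩
  rcases Nat.eq_zero_or_pos t with ht | ht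
  · subst ht
    simp only [beq_self_eq_true, cond_true] at hleaf
    simp only [Nat.cast_zero, zero_mul, add_zero] at h₁ h₂
    rw [if_pos rfl]
    simpa [h₁, h₂] using hleaf
  · have ht' : t ≠ 0 := by omega
    have hb : (t == 0) = false := by simp [ht']
    simp only [hb, cond_false, List.all_eq_true] at hleaf
    have := hleaf y (hy ht')
    rw [if_neg ht']
    simpa [h₁, h₂, hq] using this

end CfsgLib.MTwentyThreeUnique
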