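import Cfsg.Agent.MTwentyThreeUnique.Pinned

/-!
A simple group of order 10200960: elements of orders 23, 11 and 5 acting on each other by powers.
-/

set_option autoImplicit false
set_option linter.style.haveILetI false
set_option linter.unusedSectionVars false

open Cfsg CfsgLib.Characters CfsgLib.DefectOne CfsgLib.BrauerOrderP

namespace CfsgLib.MTwentyThreeUnique

universe u

theorem exponent_two : ∀ r : Fin 23, r.val ^ 11 % 23 = 1 → r.val ≠ 1 →
    ∃ m : Fin 11, r.val ^ m.val % 23 = 2 := by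
  decide +kernel

theorem exponent_four : ∀ r : Fin 11, r.val ^ 5 % 11 = 1 → r.val ≠ 1 →
    ∃ m : Fin 5, r.val ^ m.val % 11 = 4 := by
  decide +kernel

theorem candsEleven_e : candsEleven.all (fun x => x.1.1 == 5) = true := by
  decide +kernel

variable {G : Type u} [Group G]

theorem conj_pow_iterate {x y : G} {r : ℕ} (h : x * y * x⁻¹ = y ^ r) :
    ∀ i : ℕ, x ^ i * y * (x ^ i)⁻¹ = y ^ r ^ i := by
  intro i
  induction i with
  | zero => simp
  | succ i ih =>
    calc x ^ (i + 1) * y * (x ^ (i + 1))⁻¹ = x * (x ^ i * y * (x ^ i)⁻¹) * x⁻¹ := by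
          rw [pow_succ' x i]; group
      _ = (x * y * x⁻¹) ^ r ^ i := by rw [ih, conj_pow]
      _ = y ^ r ^ (i + 1) := by rw [h, ← pow_mul, ← pow_succ']

/-- The exponent of a conjugation inside a subgroup of prime order. -/
theorem exists_exponent_conj {p : ℕ} [Fact p.Prime] [Finite G] (L : Local p G) {u x : G}
    (hu : u ∈ (L.P : Subgroup G)) (hu1 : u ≠ 1) (hx : x ∈ L.N) :
    ∃ r : Fin p, x * u * x⁻¹ = u ^ r.val := by
  have hne : (⟨u, hu⟩ : (L.P : Subgroup G)) ≠ 1 := fun h => hu1 (congrArg Subtype.val h)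
  obtain ⟨i, hi⟩ := (Submonoid.mem_powers_iff _ _).1
    (mem_powers_of_prime_card (p := p) L.card_P hne
      (g' := (⟨x * u * x⁻¹, L.conj_mem_P hx hu⟩ : (L.P : Subgroup G))))
  have hi' : u ^ i = x * u * x⁻¹ := congrArg Subtype.val hi
  refine ⟨⟨i % p, Nat.mod_lt _ (Fact.out : p.Prime).pos⟩, ?_⟩
  rw [← hi', ← pow_eq_pow_mod i (L.pow_p hu)]

variable [Fintype G] [IsSimpleGroup G] (hG : Nat.card G = 10200960) [Fact (Nat.Prime 23)]
  [Fact (Nat.Prime 11)]
include hG

theorem e_eleven (L11 : Local 11 G) : e L11 = 5 := by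
  classical
  haveI : Fact (Nat.Prime 7) := ⟨by norm_num⟩
  obtain ⟨L7⟩ := exists_local' hG 7 (by norm_num) (by norm_num)
  obtain ⟨S11⟩ := exists_shape L11 (by norm_num)
  have hK11_7 := not_seven_dvd_K11 hG L11
  have hK7_11 := not_eleven_dvd_K7 hG L7
  have h1 := List.all_eq_true.1 eleven_check _ (optionsEleven hG L11)
  simp only [Bool.or_eq_true, beq_iff_eq] at h1
  have h1' := h1.resolve_left (fun h => hK11_7 (Nat.dvd_of_mod_eq_zero h))
  obtain ⟨lx, hlx, hgx⟩ := shapeCheck_of hG S11 (by norm_num) (by norm_num) (by norm_num) h1'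
  rw [(Shape.members_norm (p := 11) (e L11) lx S11.y).2] at hgx
  simp only [Bool.or_eq_true, Bool.not_eq_true', List.all_eq_true, List.contains_iff_mem] at hgx
  have hx : ((e L11, Nat.card L11.K), lx, if excCount 11 (e L11) = 0 then 0 else S11.y)
      ∈ candsEleven := by
    rcases hgx with (h | h) | h
    · rw [xsOk_of hG fun d hd => (S11.exists_of_mem hlx hd).imp fun χ h => h.2] at h
      exact absurd h (by simp)
    · rcases h _ (optionsSeven hG L7) with h' | h'
      · exact absurd (Nat.dvd_of_mod_eq_zero (by simpa using h')) hK7_11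
      · rw [weakCompat_of hG (by norm_num) (by norm_num) hK11_7 S11 hlx] at h'
        exact absurd h' (by simp)
    · exact h
  simpa using List.all_eq_true.1 candsEleven_e _ hx

/-- The elements. -/
theorem exists_elements : ∃ (L : Local 23 G) (a b c : G), a ∈ pNe L ∧ orderOf a = 23 ∧
    orderOf b = 11 ∧ orderOf c = 5 ∧ b * a * b⁻¹ = a ^ 2 ∧ c * b * c⁻¹ = b ^ 4 := by
  classical
  obtain ⟨L⟩ := exists_local' hG 23 (by norm_num) (by norm_num)
  obtain ⟨a', ha'⟩ := exists_mem_ne_one L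
  have ha1 : (a' : G) ≠ 1 := fun h => ha' (Subtype.ext h)
  have hao : orderOf (a' : G) = 23 := L.orderOf_of_mem a'.2 ha1
  have hK : Nat.card L.K = 1 := by rw [K_eq_bot23 hG L, Subgroup.card_bot]
  obtain ⟨⟨b0, hb0⟩, hb0o⟩ := exists_prime_orderOf_dvd_card' (G := L.N) 11 (by
    rw [← card_N L, e_eq23 hG L, hK]; norm_num)
  have hb0o' : orderOf b0 = 11 := by rw [← hb0o, ← Subgroup.orderOf_coe]
  obtain ⟨r, hr⟩ := exists_exponent_conj L a'.2 ha1 hb0
  have hr1 : r.val ≠ 1 := fun h => by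
    rw [h, pow_one] at hr
    have hmem : b0 ∈ Subgroup.centralizer ((L.P : Subgroup G) : Set G) := by
      rw [← L.centralizer_singleton a'.2 ha1, Subgroup.mem_centralizer_singleton_iff]
      exact mul_inv_eq_iff_eq_mul.1 hr
    have := Subgroup.orderOf_dvd_natCard _ hmem
    rw [L.card_centralizer, hK, hb0o'] at this
    norm_num at this
  have hr11 : r.val ^ 11 % 23 = 1 := by
    have h := conj_pow_iterate hr 11
    rw [← hb0o', pow_orderOf_eq_one, one_mul, inv_one, mul_one, hb0o'] at h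
    nth_rewrite 1 [← pow_one (a' : G)] at h
    rw [pow_eq_pow_iff_modEq, hao] at h
    exact h.symm
  obtain ⟨m, hm⟩ := exponent_two r hr11 hr1
  have hab : b0 ^ m.val * (a' : G) * (b0 ^ m.val)⁻¹ = (a' : G) ^ 2 := by
    rw [conj_pow_iterate hr m.val, pow_eq_pow_iff_modEq, hao]
    exact hm.trans (by norm_num)
  have hm0 : m.val ≠ 0 := fun h => by rw [h, pow_zero] at hm; norm_num at hm
  have hbo : orderOf (b0 ^ m.val) = 11 := by
    rw [Nat.Coprime.orderOf_pow (by
      rw [hb0o']; exact ((by norm_num : Nat.Prime 11).coprime_iff_not_dvd).2 fun h => by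
        have := Nat.le_of_dvd (Nat.pos_of_ne_zero hm0) h
        omega), hb0o']
  set b := b0 ^ m.val with hb
  -- the element of order five
  obtain ⟨Q, hQ⟩ : ∃ Q : Sylow 11 G, Subgroup.zpowers b ≤ Q :=
    (IsPGroup.of_card (n := 1) (by rw [Nat.card_zpowers, hbo, pow_one])).exists_le_sylow
  obtain ⟨L11, hL11⟩ := exists_local (G := G) (p := 11) (by rw [hG]; norm_num) (by rw [hG]; norm_num) Q
  have hbP : b ∈ (L11.P : Subgroup G) := hL11 ▸ hQ (Subgroup.mem_zpowers b)
  have hb1 : b ≠ 1 := fun h => by rw [h, orderOf_one] at hbo; norm_num at hbo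
  have he := e_eleven hG L11
  set C := Subgroup.centralizer ((L11.P : Subgroup G) : Set G) with hC
  obtain ⟨n, hn, hnC⟩ : ∃ n ∈ L11.N, n ∉ C := by
    by_contra! h
    have h1 := Subgroup.card_dvd_of_le (h : L11.N ≤ C)
    rw [← card_N L11, he, hC, L11.card_centralizer] at h1
    have hpos : 0 < 11 * Nat.card L11.K := mul_pos (by norm_num) Nat.card_pos
    have := Nat.le_of_dvd hpos h1
    omega
  obtain ⟨s, hs⟩ := exists_exponent_conj L11 hbP hb1 hn
  have hs1 : s.val ≠ 1 := fun h => hnC (by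
    rw [h, pow_one] at hs
    rw [hC, ← L11.centralizer_singleton hbP hb1, Subgroup.mem_centralizer_singleton_iff]
    exact mul_inv_eq_iff_eq_mul.1 hs)
  have hs5 : s.val ^ 5 % 11 = 1 := by
    have hCN : C ≤ L11.N := Subgroup.centralizer_le_normalizer _
    have hidx : (C.subgroupOf L11.N).index = 5 := by
      have h1 := Subgroup.index_mul_card (C.subgroupOf L11.N)
      rw [Nat.card_congr (Subgroup.subgroupOfEquivOfLe hCN).toEquiv, hC, L11.card_centralizer,
        ← card_N L11, he] at h1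
      exact Nat.eq_of_mul_eq_mul_right (mul_pos (by norm_num) Nat.card_pos) h1
    haveI : (C.subgroupOf L11.N).Normal := ⟨fun x hx g => by
      rw [Subgroup.mem_subgroupOf] at hx ⊢
      exact L11.conj_mem_centralizer g.2 hx⟩
    have h5 := Subgroup.pow_index_mem (C.subgroupOf L11.N) (⟨n, hn⟩ : L11.N)
    rw [hidx, Subgroup.mem_subgroupOf] at h5
    have h := conj_pow_iterate hs 5
    rw [hC, ← L11.centralizer_singleton hbP hb1, Subgroup.mem_centralizer_singleton_iff,
      SubmonoidClass.coe_pow] at h5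
    rw [h5, mul_inv_cancel_right] at h
    nth_rewrite 1 [← pow_one b] at h
    rw [pow_eq_pow_iff_modEq, hbo] at h
    exact h.symm
  haveI : Fact (Nat.Prime 5) := ⟨by norm_num⟩
  set o := orderOf n / 5 ^ (orderOf n).factorization 5 with ho
  set c0 := n ^ o with hc0
  have hoff : ¬ 5 ∣ o := Nat.not_dvd_ordCompl (by norm_num) (orderOf_pos n).ne'
  have hsmod : ∀ i : ℕ, s.val ^ i % 11 = s.val ^ (i % 5) % 11 := fun i => by
    conv_lhs => rw [← Nat.div_add_mod i 5, pow_add, pow_mul, Nat.mul_mod, Nat.pow_mod, hs5, one_pow]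
    simp [Nat.mod_mod]
  have ht1 : (s.val ^ o % 11) ≠ 1 ∧ (s.val ^ o) ^ 5 % 11 = 1 := by
    have key : ∀ (r : Fin 11) (j : Fin 5), r.val ^ 5 % 11 = 1 → r.val ≠ 1 → j.val ≠ 0 →
        r.val ^ j.val % 11 ≠ 1 := by decide +kernel
    refine ⟨?_, ?_⟩
    · rw [hsmod]
      exact key s ⟨o % 5, Nat.mod_lt _ (by norm_num)⟩ hs5 hs1 fun h => hoff (Nat.dvd_of_mod_eq_zero h)
    · rw [← pow_mul, mul_comm, pow_mul, Nat.pow_mod, hs5, one_pow, Nat.one_mod]
  have hconj0 : c0 * b * c0⁻¹ = b ^ (s.val ^ o % 11) := by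
    rw [hc0, conj_pow_iterate hs o, pow_eq_pow_mod (s.val ^ o)
      (show b ^ 11 = 1 by rw [← hbo, pow_orderOf_eq_one])]
  have hc0o : orderOf c0 = 5 := by
    have hdvd : orderOf c0 ∣ 5 ^ (orderOf n).factorization 5 := by
      refine orderOf_dvd_of_pow_eq_one ?_
      rw [hc0, ← pow_mul, ho, Nat.div_mul_cancel (Nat.ordProj_dvd _ _), pow_orderOf_eq_one]
    obtain ⟨i, -, hi⟩ := (Nat.dvd_prime_pow (by norm_num)).1 hdvd
    have hne : c0 ≠ 1 := fun h => ht1.1 (by
      rw [h, one_mul, inv_one, mul_one] at hconj0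
      nth_rewrite 1 [← pow_one b] at hconj0
      rw [pow_eq_pow_iff_modEq, hbo] at hconj0
      simpa [Nat.ModEq] using hconj0.symm)
    have hi2 : i < 2 := by
      by_contra hge
      have h := orderOf_dvd_natCard c0
      rw [hG, hi] at h
      have := (pow_dvd_pow 5 (not_lt.1 hge)).trans h
      norm_num at this
    interval_cases i
    · exact absurd (orderOf_eq_one_iff.1 (by simpa using hi)) hne
    · simpa using hi
  have ht5 : (s.val ^ o % 11) ^ 5 % 11 = 1 := by rw [← Nat.pow_mod]; exact ht1.2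
  obtain ⟨j, hj⟩ := exponent_four ⟨_, Nat.mod_lt _ (by norm_num)⟩ ht5 ht1.1
  have hj0 : j.val ≠ 0 := fun h => by rw [h, pow_zero] at hj; norm_num at hj
  refine ⟨L, a', b, c0 ^ j.val, (mem_pNe L).2 ⟨a'.2, ha1⟩, hao, hbo, ?_, hab, ?_⟩
  · rw [Nat.Coprime.orderOf_pow (by
      rw [hc0o]; exact ((by norm_num : Nat.Prime 5).coprime_iff_not_dvd).2 fun h => by
        have := Nat.le_of_dvd (Nat.pos_of_ne_zero hj0) h
        omega), hc0o]
  · rw [conj_pow_iterate hconj0 j.val, pow_eq_pow_iff_modEq, hbo]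
    exact hj.trans (by norm_num)

end CfsgLib.MTwentyThreeUnique
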