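import Cfsg.Agent.MTwentyThreeUnique.TwoBlocks

/-!
In a representation of degree 22 in characteristic two with the trace one at the non-trivial powers
of an element of order 23, that element and an element squaring it act as a diagonal matrix and a
permutation matrix in a suitable basis.
-/

set_option autoImplicit false
set_option linter.style.haveILetI false
set_option linter.unusedSectionVars false

namespace CfsgLib.MTwentyThreeUnique

open MonoidAlgebra

universe u v

theorem succ_mod_eleven : ∀ i : Fin 11, (i + 1).val = (i.val + 1) % 11 := by decide +kernel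

theorem mul_twentytwo_mod : ∀ j : Fin 23, j.val ≠ 0 → 22 * j.val % 23 ≠ 0 := by decide +kernel

variable {G : Type u} [Group G] {k : Type v} [Field k] [CharP k 2]

theorem exists_eigenvector {ι : Type*} [Fintype ι] [DecidableEq ι] (hcard : Fintype.card ι = 22)
    (A : Matrix ι ι k) (h23 : A ^ 23 = 1)
    (htr : ∀ j, 0 < j → j < 23 → (A ^ j).trace = 1) {ω : k} (hω : IsPrimitiveRoot ω 23) :
    ∃ v : ι → k, v ≠ 0 ∧ A.mulVec v = ω • v := by
  classical
  set E : Matrix ι ι k := ∑ j ∈ Finset.range 23, ω ^ (22 * j) • A ^ j with hE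
  have hω1 : ω ^ 23 = 1 := hω.pow_eq_one
  have htrE : E.trace = 1 := by
    rw [hE, Matrix.trace_sum, ← Finset.add_sum_erase _ _ (Finset.mem_range.2 (by norm_num : 0 < 23))]
    have h1 : ∀ j ∈ (Finset.range 23).erase 0,
        (ω ^ (22 * j) • A ^ j).trace = (ω ^ 22) ^ j := fun j hj => by
      obtain ⟨h0, hj⟩ := Finset.mem_erase.1 hj
      rw [Matrix.trace_smul, htr j (Nat.pos_of_ne_zero h0) (Finset.mem_range.1 hj), smul_eq_mul,
        mul_one, pow_mul]
    rw [Finset.sum_congr rfl h1, Nat.mul_zero, pow_zero, pow_zero, one_smul, Matrix.trace_one, hcard]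
    have h22 : ((22 : ℕ) : k) = 0 := by
      rw [show (22 : ℕ) = 2 * 11 by norm_num, Nat.cast_mul]
      simp [CharTwo.two_eq_zero]
    rw [h22, zero_add]
    have hgeom := (hω.pow_of_coprime 22 (by norm_num)).geom_sum_eq_zero (by norm_num : 1 < 23)
    rw [← Finset.add_sum_erase _ _ (Finset.mem_range.2 (by norm_num : 0 < 23)), pow_zero] at hgeom
    exact (CharTwo.add_eq_zero.1 hgeom).symm
  have hAE : A * E = ω • E := by
    rw [hE, Finset.mul_sum, Finset.smul_sum]
    have hs : ∀ j, A * (ω ^ (22 * j) • A ^ j) = ω • (ω ^ (22 * (j + 1)) • A ^ (j + 1)) := fun j => by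
      rw [Matrix.mul_smul, ← pow_succ', smul_smul, mul_comm ω, ← pow_succ,
        show 22 * (j + 1) + 1 = 22 * j + 23 by ring, pow_add ω, hω1, mul_one]
    rw [Finset.sum_congr rfl fun j _ => hs j, ← Finset.smul_sum, ← Finset.smul_sum]
    congr 1
    rw [Finset.sum_range_succ _ 22]
    conv_rhs => rw [Finset.sum_range_succ' _ 22]
    congr 1
    rw [show 22 + 1 = 23 by norm_num, h23, mul_comm 22 23, pow_mul, hω1, one_pow]
    simp
  obtain ⟨p, q, hpq⟩ : ∃ p q, E p q ≠ 0 := by
    by_contra! h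
    have : E = 0 := Matrix.ext h
    rw [this, Matrix.trace_zero] at htrE
    exact zero_ne_one htrE
  refine ⟨fun r => E r q, fun h => hpq (congrFun h p), funext fun r => ?_⟩
  exact congrFun (congrFun hAE r) q

/-- The normal form. -/
theorem exists_normal_form (σ : G →* Matrix (Fin 11 ⊕ Fin 11) (Fin 11 ⊕ Fin 11) k) {ζ : k}
    (hζ : IsPrimitiveRoot ζ 23) {a β : G} (ha : a ^ 23 = 1) (hβ : β ^ 11 = 1)
    (hab : β⁻¹ * a * β = a ^ 2) (htr : ∀ j, 0 < j → j < 23 → (σ (a ^ j)).trace = 1) :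
    ∃ P : Matrix (Fin 11 ⊕ Fin 11) (Fin 11 ⊕ Fin 11) k, IsUnit P.det ∧
      P⁻¹ * σ a * P = Matrix.diagonal (fun p => ζ ^ expo p) ∧
      P⁻¹ * σ β * P = permMat shiftSum := by
  classical
  set A := σ a with hA
  set B := σ β with hB
  have hA23 : A ^ 23 = 1 := by rw [hA, ← map_pow, ha, map_one]
  have hB11 : B ^ 11 = 1 := by rw [hB, ← map_pow, hβ, map_one]
  have htrA : ∀ j, 0 < j → j < 23 → (A ^ j).trace = 1 := fun j h1 h2 => by
    rw [hA, ← map_pow]; exact htr j h1 h2
  have hAB : A * B = B * A ^ 2 := by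
    rw [hA, hB, ← map_pow, ← map_mul, ← map_mul, ← hab]
    congr 1
    group
  have hlt : ∀ p, expo p < 23 := by decide +kernel
  obtain ⟨v0, hv0, hAv0⟩ := exists_eigenvector (by simp) A hA23 htrA hζ
  obtain ⟨w0, hw0, hAw0⟩ := exists_eigenvector (by simp) A hA23 htrA
    (hζ.pow_of_coprime 22 (by norm_num))
  let vec : Fin 11 ⊕ Fin 11 → (Fin 11 ⊕ Fin 11 → k) :=
    Sum.elim (fun i => (B ^ i.val).mulVec v0) (fun i => (B ^ i.val).mulVec w0)
  have hshift : ∀ p, B.mulVec (vec p) = vec (shiftSum p) := by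
    rintro (i | i) <;>
    · show B.mulVec ((B ^ i.val).mulVec _) = (B ^ (i + 1 : Fin 11).val).mulVec _
      rw [Matrix.mulVec_mulVec, ← pow_succ', succ_mod_eleven, ← pow_eq_pow_mod _ hB11]
  have hstep : ∀ (v : Fin 11 ⊕ Fin 11 → k) (e : k), A.mulVec v = e • v →
      A.mulVec (B.mulVec v) = e ^ 2 • B.mulVec v := fun v e h => by
    rw [Matrix.mulVec_mulVec, hAB, ← Matrix.mulVec_mulVec, sq A, ← Matrix.mulVec_mulVec, h,
      Matrix.mulVec_smul, h, smul_smul, Matrix.mulVec_smul, sq]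
  have hind : ∀ (m : ℕ) (v : Fin 11 ⊕ Fin 11 → k) (e : k), A.mulVec v = e • v →
      A.mulVec ((B ^ m).mulVec v) = e ^ 2 ^ m • (B ^ m).mulVec v := by
    intro m
    induction m with
    | zero => intro v e h; simpa using h
    | succ m ih =>
      intro v e h
      rw [pow_succ', ← Matrix.mulVec_mulVec, hstep _ _ (ih v e h), ← pow_mul, pow_succ]
  have heig : ∀ p, A.mulVec (vec p) = ζ ^ expo p • vec p := by
    rintro (i | i)
    · show A.mulVec ((B ^ i.val).mulVec v0) = ζ ^ (2 ^ i.val % 23) • (B ^ i.val).mulVec v0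
      rw [hind _ _ _ hAv0, ← pow_eq_pow_mod _ hζ.pow_eq_one]
    · show A.mulVec ((B ^ i.val).mulVec w0) = ζ ^ (22 * 2 ^ i.val % 23) • (B ^ i.val).mulVec w0
      rw [hind _ _ _ hAw0, ← pow_eq_pow_mod _ hζ.pow_eq_one, ← pow_mul]
  have hne : ∀ p, vec p ≠ 0 := by
    have hinv : ∀ (i : ℕ) (v : Fin 11 ⊕ Fin 11 → k), i ≤ 11 → v ≠ 0 → (B ^ i).mulVec v ≠ 0 :=
      fun i v hi hv h => hv (by
        have := congrArg ((B ^ (11 - i)).mulVec) h
        rwa [Matrix.mulVec_mulVec, ← pow_add, Nat.sub_add_cancel hi, hB11, Matrix.one_mulVec,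
          Matrix.mulVec_zero] at this)
    rintro (i | i)
    · exact hinv _ _ i.2.le hv0
    · exact hinv _ _ i.2.le hw0
  let P : Matrix (Fin 11 ⊕ Fin 11) (Fin 11 ⊕ Fin 11) k := Matrix.of fun q p => vec p q
  have hP : IsUnit P := by
    rw [← Matrix.linearIndependent_cols_iff_isUnit]
    refine Module.End.eigenvectors_linearIndependent' (Matrix.toLin' A) (fun p => ζ ^ expo p)
      (fun p q h => expo_inj (hζ.pow_inj (hlt _) (hlt _) h)) _ fun p => ⟨?_, hne p⟩
    rw [Module.End.mem_genEigenspace_one, Matrix.toLin'_apply]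
    exact heig p
  have hPd := (Matrix.isUnit_iff_isUnit_det P).1 hP
  refine ⟨P, hPd, ?_, ?_⟩
  · have h : A * P = P * Matrix.diagonal (fun p => ζ ^ expo p) := by
      ext q p
      rw [Matrix.mul_diagonal]
      exact (congrFun (heig p) q).trans (mul_comm _ _)
    rw [Matrix.mul_assoc, h, ← Matrix.mul_assoc, Matrix.nonsing_inv_mul _ hPd, Matrix.one_mul]
  · have h : B * P = P * permMat shiftSum := by
      ext q p
      rw [mul_permMat]
      exact congrFun (hshift p) q
    rw [Matrix.mul_assoc, h, ← Matrix.mul_assoc, Matrix.nonsing_inv_mul _ hPd, Matrix.one_mul]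

/-- A representation of degree 22 which is not onto yields the small representation. -/
theorem exists_rho_of_trace (σ : G →* Matrix (Fin 11 ⊕ Fin 11) (Fin 11 ⊕ Fin 11) k) {ζ : k}
    (hζ : IsPrimitiveRoot ζ 23) {a β : G} (ha : a ^ 23 = 1) (hβ : β ^ 11 = 1)
    (hab : β⁻¹ * a * β = a ^ 2) (htr : ∀ j, 0 < j → j < 23 → (σ (a ^ j)).trace = 1)
    (hsq : ∀ g, (σ g).trace ^ 2 = (σ g).trace) (hnot : ¬ Function.Surjective (ext' σ)) :
    ∃ rho : G →* GL (Fin 11) (ZMod 2), rho a ≠ 1 := by
  classical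
  obtain ⟨P, hP, hPa, hPβ⟩ := exists_normal_form σ hζ ha hβ hab htr
  let σ' : G →* Matrix (Fin 11 ⊕ Fin 11) (Fin 11 ⊕ Fin 11) k :=
    { toFun := fun g => P⁻¹ * σ g * P
      map_one' := by rw [map_one, Matrix.mul_one, Matrix.nonsing_inv_mul _ hP]
      map_mul' := fun g h => by
        rw [map_mul, show P⁻¹ * σ g * P * (P⁻¹ * σ h * P) = P⁻¹ * σ g * (P * P⁻¹) * (σ h * P) by
          simp only [Matrix.mul_assoc], Matrix.mul_nonsing_inv _ hP, Matrix.mul_one]
        simp only [Matrix.mul_assoc] }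
  refine exists_rho_of_not_onto σ' hζ hPa hPβ (fun hs => hnot fun M => ?_) fun g => ?_
  · obtain ⟨x, hx⟩ := hs (P⁻¹ * M * P)
    refine ⟨x, ?_⟩
    have hconj : ∀ y, ext' σ' y = P⁻¹ * ext' σ y * P := fun y => by
      induction y using MonoidAlgebra.induction_linear with
      | zero => simp
      | add u v hu hv => rw [map_add, map_add, hu, hv, Matrix.mul_add, Matrix.add_mul]
      | single g c =>
        rw [show single g c = c • (single g (1 : k) : MonoidAlgebra k G) by
          rw [smul_single, smul_eq_mul, mul_one], map_smul, map_smul, ext'_single, ext'_single,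
          Matrix.mul_smul, Matrix.smul_mul]
        rfl
    rw [hconj] at hx
    calc ext' σ x = P * (P⁻¹ * ext' σ x * P) * P⁻¹ := by
          simp only [← Matrix.mul_assoc, Matrix.mul_nonsing_inv _ hP, Matrix.one_mul]
          rw [Matrix.mul_assoc, Matrix.mul_nonsing_inv _ hP, Matrix.mul_one]
      _ = M := by
          rw [hx]
          simp only [← Matrix.mul_assoc, Matrix.mul_nonsing_inv _ hP, Matrix.one_mul]
          rw [Matrix.mul_assoc, Matrix.mul_nonsing_inv _ hP, Matrix.mul_one]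
  · show (P⁻¹ * σ g * P).trace ^ 2 = (P⁻¹ * σ g * P).trace
    rw [Matrix.trace_mul_cycle, Matrix.mul_nonsing_inv _ hP, Matrix.one_mul, hsq]

end CfsgLib.MTwentyThreeUnique
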