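import Cfsg.Agent.MTwentyThreeUnique.Parity
import Cfsg.Agent.MTwentyThreeUnique.NormalForm
import Cfsg.Agent.MTwentyThreeUnique.Elements
import Cfsg.Agent.SmallDegreeP.Lattice
import Cfsg.Agent.TILattice.Basic

/-!
A simple group of order 10200960 has a representation of degree eleven over the field with two
elements in which an element of order 23 is not trivial.
-/

set_option autoImplicit false
set_option linter.style.haveILetI false
set_option linter.unusedSectionVars false

open Cfsg CfsgLib.Characters CfsgLib.DefectOne CfsgLib.BrauerOrderP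
open scoped ComplexConjugate

namespace CfsgLib.MTwentyThreeUnique

universe u

theorem two_power_card : 10200960 ∣ 2 ^ 660 * (2 ^ 660 - 1) := by decide +kernel

theorem trace_sq {k : Type*} [Field k] [CharP k 2] {n : Type*} [Fintype n] [DecidableEq n]
    (M : Matrix n n k) : (M ^ 2).trace = M.trace ^ 2 := by
  have h : (M ^ 2).trace = ∑ p : n × n, M p.1 p.2 * M p.2 p.1 := by
    simp [sq, Matrix.trace, Matrix.mul_apply, Fintype.sum_prod_type]
  rw [h, ← Finset.sum_filter_add_sum_filter_not Finset.univ (fun p : n × n => p.1 = p.2)]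
  have h2 : ∑ p : n × n with ¬ p.1 = p.2, M p.1 p.2 * M p.2 p.1 = 0 := by
    refine Finset.sum_involution (fun p _ => (p.2, p.1)) (fun p _ => ?_) (fun p hp _ he => ?_)
      (fun p hp => ?_) (fun p _ => rfl)
    · rw [mul_comm (M p.2 p.1)]
      exact CharTwo.add_self_eq_zero _
    · exact (Finset.mem_filter.1 hp).2 (congrArg Prod.fst he).symm
    · exact Finset.mem_filter.2 ⟨Finset.mem_univ _, fun e => (Finset.mem_filter.1 hp).2 e.symm⟩
  rw [h2, add_zero, Matrix.trace, CharTwo.sum_sq]
  refine (Finset.sum_bij (fun i _ => (i, i)) (fun i _ => by simp) (fun i _ j _ e => congrArg Prod.fst e)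
    (fun p hp => ⟨p.1, Finset.mem_univ _, Prod.ext rfl (Finset.mem_filter.1 hp).2⟩)
    (fun i _ => by simp [sq])).symm

variable {G : Type u} [Group G] [Fintype G]

/-- A matrix representation of a character. -/
theorem exists_matrix_rep {χ : IrrCharacter G} {m : Type} [Fintype m] [DecidableEq m]
    (h : deg χ = Fintype.card m) :
    ∃ R : G →* Matrix m m ℂ, ∀ g, (R g).trace = (χ : G → ℂ) g := by
  obtain ⟨n, ρ, -, hρ⟩ := χ.2
  have hn : n = Fintype.card m := by
    rw [← h]
    apply Nat.cast_injective (R := ℂ)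
    rw [Blocks.charDegree_cast, ← hρ]
    simp
  subst hn
  let e : Matrix (Fin (Fintype.card m)) (Fin (Fintype.card m)) ℂ ≃ₐ[ℂ] Matrix m m ℂ :=
    Matrix.reindexAlgEquiv ℂ ℂ (Fintype.equivFin m).symm
  let R0 : G →* Matrix (Fin (Fintype.card m)) (Fin (Fintype.card m)) ℂ :=
    { toFun := fun g => LinearMap.toMatrix' (ρ g)
      map_one' := by rw [map_one]; exact LinearMap.toMatrix'_id
      map_mul' := fun g h => by rw [map_mul, LinearMap.toMatrix'_mul] }
  refine ⟨e.toAlgHom.toRingHom.toMonoidHom.comp R0, fun g => ?_⟩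
  show (Matrix.reindex (Fintype.equivFin m).symm (Fintype.equivFin m).symm
    (LinearMap.toMatrix' (ρ g))).trace = _
  rw [← hρ, Representation.character, LinearMap.trace_eq_matrix_trace ℂ
    (Pi.basisFun ℂ (Fin (Fintype.card m))), LinearMap.toMatrix_eq_toMatrix']
  simp only [Matrix.trace, Matrix.diag, Matrix.reindex_apply, Matrix.submatrix_apply, Equiv.symm_symm]
  exact Equiv.sum_comp (Fintype.equivFin m) fun i => LinearMap.toMatrix' (ρ g) i i

variable (B : ValuationSubring ℂ) (h2 : ((2 : ℕ) : B) ∈ IsLocalRing.maximalIdeal B)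
include h2

theorem charP_residue : CharP (IsLocalRing.ResidueField B) 2 := by
  refine (CharP.charP_iff_prime_eq_zero Nat.prime_two).2 ?_
  rw [← map_natCast (IsLocalRing.residue B), IsLocalRing.residue_eq_zero_iff]
  exact h2

omit h2 in
/-- An integral model. -/
theorem exists_lift {m : Type} [Fintype m] [DecidableEq m] (R : G →* Matrix m m ℂ) :
    ∃ σ : G →* Matrix m m B, ∀ g, (((σ g).trace : B) : ℂ) = (R g).trace := by
  obtain ⟨Q, Q', σ, hQQ', -, hσ⟩ := SmallDegreeP.exists_integral B R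
  refine ⟨σ, fun g => ?_⟩
  have h := congrArg Matrix.trace (hσ g)
  rw [Matrix.trace_mul_cycle, hQQ', Matrix.one_mul] at h
  rw [← h]
  simp [SmallDegreeP.inclMat, Matrix.trace]

/-- A primitive root of unity of order 23 in the residue field. -/
theorem exists_zeta : ∃ ζ : IsLocalRing.ResidueField B, IsPrimitiveRoot ζ 23 := by
  haveI := charP_residue B h2
  obtain ⟨w, hw⟩ : ∃ w : ℂ, IsPrimitiveRoot w 23 := ⟨_, Complex.isPrimitiveRoot_exp 23 (by norm_num)⟩
  have hmem : w ∈ B := by
    rw [← B.valuation_le_one_iff]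
    have h : B.valuation w ^ 23 = 1 := by rw [← map_pow, hw.pow_eq_one, map_one]
    exact ((pow_eq_one_iff.1 h).resolve_right (by norm_num)).le
  refine ⟨IsLocalRing.residue B ⟨w, hmem⟩, ?_⟩
  have h23 : IsLocalRing.residue B (⟨w, hmem⟩ : B) ^ 23 = 1 := by
    rw [← map_pow, show (⟨w, hmem⟩ : B) ^ 23 = 1 from Subtype.ext hw.pow_eq_one, map_one]
  haveI : Fact (Nat.Prime 23) := ⟨by norm_num⟩
  refine IsPrimitiveRoot.iff_orderOf.2 (orderOf_eq_prime h23 fun h1 => ?_)
  have hsum : ∑ i ∈ Finset.range 23, (⟨w, hmem⟩ : B) ^ i = 0 := Subtype.ext (by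
    rw [AddSubmonoidClass.coe_finset_sum]
    simpa using hw.geom_sum_eq_zero (by norm_num : 1 < 23))
  have h := congrArg (IsLocalRing.residue B) hsum
  rw [map_sum, map_zero] at h
  simp only [map_pow, h1, one_pow, Finset.sum_const, Finset.card_range, nsmul_eq_mul, mul_one] at h
  rw [CharP.cast_eq_zero_iff (IsLocalRing.ResidueField B) 2] at h
  norm_num at h

variable [IsSimpleGroup G] (hG : Nat.card G = 10200960) [Fact (Nat.Prime 23)]
include hG

omit h2

/-- A Galois stable character with the sum `-22` on a Sylow subgroup of order 23. -/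
theorem value_neg_one (L : Local 23 G) {θ : G → ℂ}
    (hfix : ∀ k : ℕ, k.Coprime (Nat.card G) → ∀ g, θ (g ^ k) = θ g)
    (hsum : ∑ u ∈ pNe L, θ u = -22) {u : G} (hu : u ∈ pNe L) : θ u = -1 := by
  obtain ⟨hu', hu1⟩ := (mem_pNe L).1 hu
  have hall : ∀ v ∈ pNe L, θ v = θ u := by
    intro v hv
    obtain ⟨hv', hv1⟩ := (mem_pNe L).1 hv
    have hne : (⟨u, hu'⟩ : (L.P : Subgroup G)) ≠ 1 := fun h => hu1 (congrArg Subtype.val h)
    obtain ⟨i, hi⟩ := (Submonoid.mem_powers_iff _ _).1
      (mem_powers_of_prime_card (p := 23) L.card_P hne (g' := (⟨v, hv'⟩ : (L.P : Subgroup G))))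
    have hi' : u ^ i = v := congrArg Subtype.val hi
    obtain ⟨k, hk1, hk2⟩ := Nat.chineseRemainder (show Nat.Coprime 23 443520 by norm_num) i 1
    have hik : ¬ 23 ∣ i := fun h => hv1 (by
      rw [← hi', orderOf_dvd_iff_pow_eq_one.1 ((L.orderOf_of_mem hu' hu1).symm ▸ h)])
    have hcop : k.Coprime (Nat.card G) := by
      rw [hG, show (10200960 : ℕ) = 23 * 443520 by norm_num]
      refine Nat.Coprime.mul_right ?_ ?_
      · exact ((by norm_num : Nat.Prime 23).coprime_iff_not_dvd.2 fun h =>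
          hik (hk1.dvd_iff dvd_rfl |>.1 h)).symm
      · rw [Nat.Coprime, hk2.gcd_eq, Nat.gcd_one_left]
    rw [← hfix k hcop u, show u ^ k = v by
      rw [← hi', pow_eq_pow_iff_modEq, L.orderOf_of_mem hu' hu1]; exact hk1]
  rw [Finset.sum_congr rfl hall, Finset.sum_const, card_pNe, nsmul_eq_mul] at hsum
  push_cast at hsum
  linear_combination hsum / 22

include h2

/-- From an integral representation of degree 22 with rational trace. -/
theorem rho_of_reduction (L : Local 23 G) {a b : G} (ha : a ∈ pNe L) (hb : orderOf b = 11)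
    (hab : b * a * b⁻¹ = a ^ 2) {θ : G → ℂ}
    (hfix : ∀ k : ℕ, k.Coprime (Nat.card G) → ∀ g, θ (g ^ k) = θ g)
    (hint : ∀ g, ∃ z : ℤ, θ g = z) (hsum : ∑ u ∈ pNe L, θ u = -22)
    (σ : G →* Matrix (Fin 11 ⊕ Fin 11) (Fin 11 ⊕ Fin 11) (IsLocalRing.ResidueField B))
    (hσ : ∀ g, ∀ z : ℤ, θ g = z → (σ g).trace = z)
    (hnot : ¬ Function.Surjective (ext' σ)) :
    ∃ rho : G →* GL (Fin 11) (ZMod 2), rho a ≠ 1 := by
  haveI := charP_residue B h2
  obtain ⟨ζ, hζ⟩ := exists_zeta B h2
  obtain ⟨ha', ha1⟩ := (mem_pNe L).1 ha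
  refine exists_rho_of_trace σ hζ (a := a) (β := b⁻¹) (L.pow_p ha')
    (by rw [inv_pow, ← hb, pow_orderOf_eq_one, inv_one]) (by rw [inv_inv]; exact hab)
    (fun j hj0 hj => ?_) (fun g => ?_) hnot
  · have hj1 : a ^ j ≠ 1 := fun h => by
      have h' := orderOf_dvd_of_pow_eq_one h
      rw [L.orderOf_of_mem ha' ha1] at h'
      have := Nat.le_of_dvd hj0 h'
      omega
    have hv := value_neg_one hG L hfix hsum ((mem_pNe L).2 ⟨pow_mem ha' j, hj1⟩)
    rw [hσ (a ^ j) (-1) (by rw [hv]; norm_num), Int.cast_neg, Int.cast_one, CharTwo.neg_eq]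
  · obtain ⟨z, hz⟩ := hint g
    rw [hσ g z hz]
    rcases Int.even_or_odd' z with ⟨w, rfl | rfl⟩ <;> simp [CharTwo.two_eq_zero]

omit h2

variable [Fact (Nat.Prime 11)] [Fact (Nat.Prime 5)]

/-- The case of the degrees of the Mathieu group. -/
theorem rho_of_pinned {L11 : Local 11 G} {L5 : Local 5 G} (hP : Pinned L11 L5) (L : Local 23 G)
    {a b : G} (ha : a ∈ pNe L) (hb : orderOf b = 11) (hab : b * a * b⁻¹ = a ^ 2) :
    ∃ rho : G →* GL (Fin 11) (ZMod 2), rho a ≠ 1 := by
  classical
  obtain ⟨B, h2⟩ := TILattice.exists_valuationSubring_p 2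
  haveI := charP_residue B h2
  obtain ⟨χ, hχ⟩ := exists_deg hP.degs (d := 22) (by decide)
  obtain ⟨R, hR⟩ := exists_matrix_rep (m := Fin 11 ⊕ Fin 11) (χ := χ) (by simpa using hχ)
  obtain ⟨σ0, hσ0⟩ := exists_lift B R
  set σ := (IsLocalRing.residue B).mapMatrix.toMonoidHom.comp σ0 with hσ
  have htr : ∀ g, ∀ z : ℤ, (χ : G → ℂ) g = z → (σ g).trace = z := by
    intro g z hz
    have h : (σ0 g).trace = (z : B) := Subtype.ext (by rw [hσ0, hR, hz]; simp)
    rw [show (σ g).trace = IsLocalRing.residue B (σ0 g).trace from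
      (AddMonoidHom.map_trace (IsLocalRing.residue B).toAddMonoidHom (σ0 g)).symm, h, map_intCast]
  refine rho_of_reduction B h2 hG L ha hb hab (fun k hk g => pow_value hP.degs hχ hk g)
    (exists_int_value hP.degs hχ) ?_ σ htr fun hs => ?_
  · rw [sum_values_eq hG L χ, show deg χ = 22 from hχ, show s23 22 = -22 by decide]
    norm_num
  -- the image is not everything
  set t : G → IsLocalRing.ResidueField B := fun g => (σ g).trace with ht
  set π : G → G := fun g => g ^ 2 ^ 660 with hπ
  obtain ⟨idx, hidx⟩ : ∃ idx : ConjClasses G → ℕ, Function.Injective idx := by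
    haveI := Fintype.ofFinite (ConjClasses G)
    exact ⟨fun c => (Fintype.equivFin _ c).val,
      Fin.val_injective.comp (Fintype.equivFin _).injective⟩
  set f : G → IsLocalRing.ResidueField B := fun g =>
    if idx (ConjClasses.mk (π g)) < idx (ConjClasses.mk (π g)⁻¹) then t g else 0 with hf
  have ht01 : ∀ g, t g = 0 ∨ t g = 1 := by
    intro g
    obtain ⟨z, hz⟩ := exists_int_value hP.degs hχ g
    simp only [ht, htr g z hz]
    rcases Int.even_or_odd' z with ⟨w, rfl | rfl⟩ <;> simp [CharTwo.two_eq_zero]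
  have htpow : ∀ (n : ℕ) g, t (g ^ 2 ^ n) = t g := by
    intro n
    induction n with
    | zero => simp
    | succ n ih =>
      intro g
      rw [pow_succ, pow_mul]
      simp only [ht, map_pow]
      rw [trace_sq]
      have h := ih g
      simp only [ht, map_pow] at h
      rw [h]
      rcases ht01 g with h' | h' <;> simp only [ht] at h' <;> rw [h'] <;> norm_num
  have htconj : ∀ g h, t (h * g * h⁻¹) = t g := fun g h => by
    simp only [ht, map_mul]
    rw [Matrix.trace_mul_cycle, ← map_mul, inv_mul_cancel, map_one, Matrix.one_mul]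
  have htinv : ∀ g, t g⁻¹ = t g := fun g => by
    obtain ⟨z, hz⟩ := exists_int_value hP.degs hχ g
    simp only [ht]
    rw [htr g z hz, htr g⁻¹ z (by rw [character_inv (isCharacter_of_isIrr χ.2), hz, map_intCast])]
  have hππ : ∀ g, π (π g) = π g := fun g => by
    simp only [hπ]
    rw [← pow_mul, pow_eq_pow_iff_modEq]
    refine Nat.ModEq.of_dvd (orderOf_dvd_natCard g) ?_
    rw [hG]
    decide +kernel
  have hodd : ∀ g, Odd (orderOf (π g)) := fun g => by
    have hd : orderOf (π g) ∣ 2 ^ 660 - 1 := by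
      refine orderOf_dvd_of_pow_eq_one ?_
      simp only [hπ]
      rw [← pow_mul, ← orderOf_dvd_iff_pow_eq_one]
      exact (orderOf_dvd_natCard g).trans (hG ▸ two_power_card)
    exact (show Odd (2 ^ 660 - 1) by decide +kernel).of_dvd_nat hd
  refine trace_not_symmetrized (ext' σ) hs f (fun g h => ?_) (fun g => ?_) (N := 660) (by norm_num)
    (fun g => ?_) fun g => ?_
  · simp only [hf]
    rw [show π (h * g * h⁻¹) = h * π g * h⁻¹ from conj_pow, htconj,
      show ConjClasses.mk (h * π g * h⁻¹) = ConjClasses.mk (π g) from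
        ConjClasses.mk_eq_mk_iff_isConj.2 (isConj_iff.2 ⟨h, rfl⟩).symm,
      show ConjClasses.mk (h * π g * h⁻¹)⁻¹ = ConjClasses.mk (π g)⁻¹ from
        ConjClasses.mk_eq_mk_iff_isConj.2 (isConj_iff.2 ⟨h, by group⟩).symm]
  · simp only [hf]
    split_ifs
    · exact ht01 g
    · exact Or.inl rfl
  · simp only [hf]
    rw [show g ^ 2 ^ 660 = π g from rfl, hππ, show t (π g) = t g from htpow 660 g]
  · rw [ext'_single]
    show t g = f g + f g⁻¹
    simp only [hf]
    rw [show π g⁻¹ = (π g)⁻¹ from inv_pow g _, inv_inv, htinv]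
    by_cases he : idx (ConjClasses.mk (π g)) = idx (ConjClasses.mk (π g)⁻¹)
    · rw [if_neg (by omega), if_neg (by omega), add_zero]
      obtain ⟨z, hz⟩ := even_value hG hP hχ (hodd g) (ConjClasses.mk_eq_mk_iff_isConj.1 (hidx he))
      rw [← htpow 660 g]
      show (σ (π g)).trace = 0
      rw [htr (π g) (2 * z) (by rw [hz]; push_cast; ring)]
      simp [CharTwo.two_eq_zero]
    · rcases lt_or_gt_of_ne he with h | h
      · rw [if_pos h, if_neg (by omega), add_zero]
      · rw [if_neg (by omega), if_pos h, zero_add]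

/-- The case of a character of degree eleven. -/
theorem rho_of_eleven {χ : IrrCharacter G} (hχ : deg χ = 11) (L : Local 23 G)
    {a b : G} (ha : a ∈ pNe L) (hb : orderOf b = 11) (hab : b * a * b⁻¹ = a ^ 2) :
    ∃ rho : G →* GL (Fin 11) (ZMod 2), rho a ≠ 1 := by
  classical
  obtain ⟨B, h2⟩ := TILattice.exists_valuationSubring_p 2
  haveI := charP_residue B h2
  obtain ⟨S⟩ := exists_shape L (by norm_num)
  have he := e_eq23 hG L
  have hmem : ∀ ψ : IrrCharacter G, deg ψ = 11 → ψ ∈ S.E := by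
    intro ψ hψ
    have hin : ψ ∈ blk L := by
      by_contra hn
      have := Nat.mod_eq_zero_of_dvd ((res_mod hG L ψ).2.2 hn)
      omega
    rw [S.blk_eq, Finset.mem_insert, Finset.mem_union] at hin
    rcases hin with h | h | h
    · rw [h, deg_one S.one_eq] at hψ; norm_num at hψ
    · have := S.res_C ψ h
      simp only [cres, Bool.or_eq_true, beq_iff_eq] at this
      omega
    · exact h
  have hy : S.y = 11 := (S.deg_E χ (hmem χ hχ)).symm.trans hχ
  obtain ⟨χ1, χ2, hne, hE⟩ := Finset.card_eq_two.1 (show S.E.card = 2 by rw [S.card_E, he]; decide)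
  have hd1 : deg χ1 = 11 := (S.deg_E χ1 (by simp [hE])).trans hy
  have hd2 : deg χ2 = 11 := (S.deg_E χ2 (by simp [hE])).trans hy
  set θ : G → ℂ := fun g => (χ1 : G → ℂ) g + (χ2 : G → ℂ) g with hθ
  have hfix : ∀ k : ℕ, k.Coprime (Nat.card G) → ∀ g, θ (g ^ k) = θ g := by
    intro k hk g
    let F : IrrCharacter G → IrrCharacter G := fun ψ => ⟨_, GaloisConj.isIrrCharacter_pow ψ.2 hk⟩
    have hFv : ∀ ψ : IrrCharacter G, (F ψ : G → ℂ) g = (ψ : G → ℂ) (g ^ k) := fun ψ => rfl
    have hFd : ∀ ψ : IrrCharacter G, deg (F ψ) = deg ψ := fun ψ => by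
      apply Nat.cast_injective (R := ℂ)
      rw [Blocks.charDegree_cast, Blocks.charDegree_cast]
      exact congrArg (ψ : G → ℂ) (one_pow k)
    obtain ⟨j, -, hj⟩ := Nat.exists_mul_mod_eq_one_of_coprime hk (by rw [hG]; norm_num)
    have hFinj : Function.Injective F := by
      intro φ ψ h
      refine Subtype.ext (funext fun x => ?_)
      have h' := congrFun (congrArg Subtype.val h) (x ^ j)
      have hx : (x ^ j) ^ k = x := by
        rw [← pow_mul, mul_comm, pow_eq_pow_mod (k * j) (pow_card_eq_one' (x := x)), hj, pow_one]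
      simpa [F, hx] using h'
    have himg : S.E.image F = S.E := by
      refine Finset.eq_of_subset_of_card_le (fun φ hφ => ?_) ?_
      · obtain ⟨ψ, hψ, rfl⟩ := Finset.mem_image.1 hφ
        exact hmem _ ((hFd ψ).trans ((S.deg_E ψ hψ).trans hy))
      · rw [Finset.card_image_of_injective _ hFinj]
    have h : ∑ ψ ∈ S.E.image F, (ψ : G → ℂ) g = ∑ ψ ∈ S.E, (ψ : G → ℂ) g := by rw [himg]
    rw [Finset.sum_image hFinj.injOn, hE, Finset.sum_pair hne, Finset.sum_pair hne] at h
    exact h
  have hθc : Cfsg.IsCharacter G θ :=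
    isCharacter_add (isCharacter_of_isIrr χ1.2) (isCharacter_of_isIrr χ2.2)
  have hint : ∀ g, ∃ z : ℤ, θ g = z := fun g => by
    obtain ⟨q, hq⟩ := rat_of_pow_invariant hθc g fun k hk => hfix k hk g
    obtain ⟨z, hz⟩ := GaloisAverage.exists_int_of_isIntegral_ratCast (q := q)
      (hq ▸ character_isIntegral hθc g)
    exact ⟨z, hq.trans hz⟩
  have hsum : ∑ u ∈ pNe L, θ u = -22 := by
    simp only [hθ, Finset.sum_add_distrib, sum_values_eq hG L, hd1, hd2]
    rw [show s23 11 = -11 by decide]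
    norm_num
  obtain ⟨R1, hR1⟩ := exists_matrix_rep (m := Fin 11) (χ := χ1) (by simpa using hd1)
  obtain ⟨R2, hR2⟩ := exists_matrix_rep (m := Fin 11) (χ := χ2) (by simpa using hd2)
  obtain ⟨σ1, hσ1⟩ := exists_lift B R1
  obtain ⟨σ2, hσ2⟩ := exists_lift B R2
  set r1 := (IsLocalRing.residue B).mapMatrix.toMonoidHom.comp σ1 with hr1
  set r2 := (IsLocalRing.residue B).mapMatrix.toMonoidHom.comp σ2 with hr2
  let σ : G →* Matrix (Fin 11 ⊕ Fin 11) (Fin 11 ⊕ Fin 11) (IsLocalRing.ResidueField B) :=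
    { toFun := fun g => Matrix.fromBlocks (r1 g) 0 0 (r2 g)
      map_one' := by rw [map_one, map_one, Matrix.fromBlocks_one]
      map_mul' := fun g h => by simp [Matrix.fromBlocks_multiply] }
  refine rho_of_reduction B h2 hG L ha hb hab hfix hint hsum σ (fun g z hz => ?_) fun hs => ?_
  · have h : (σ1 g).trace + (σ2 g).trace = (z : B) := Subtype.ext (by
      push_cast
      rw [hσ1, hσ2, hR1, hR2]
      exact hz)
    show (Matrix.fromBlocks (r1 g) 0 0 (r2 g)).trace = _
    rw [show (Matrix.fromBlocks (r1 g) 0 0 (r2 g)).trace = (r1 g).trace + (r2 g).trace by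
      simp [Matrix.trace, Fintype.sum_sum_type],
      show (r1 g).trace = IsLocalRing.residue B (σ1 g).trace from
        (AddMonoidHom.map_trace (IsLocalRing.residue B).toAddMonoidHom (σ1 g)).symm,
      show (r2 g).trace = IsLocalRing.residue B (σ2 g).trace from
        (AddMonoidHom.map_trace (IsLocalRing.residue B).toAddMonoidHom (σ2 g)).symm,
      ← map_add, h, map_intCast]
  · obtain ⟨x, hx⟩ := hs (Matrix.single (Sum.inl 0) (Sum.inr 0) 1)
    have hzero : ∀ y, ext' σ y (Sum.inl 0) (Sum.inr 0) = 0 := fun y => by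
      induction y using MonoidAlgebra.induction_linear with
      | zero => simp
      | add u v hu hv => rw [map_add, Matrix.add_apply, hu, hv, add_zero]
      | single g c =>
        rw [show MonoidAlgebra.single g c = c •
            (MonoidAlgebra.single g 1 : MonoidAlgebra (IsLocalRing.ResidueField B) G) by
          rw [MonoidAlgebra.smul_single, smul_eq_mul, mul_one], map_smul, ext'_single]
        simp [σ]
    have := hzero x
    rw [hx] at this
    simp at this

/-- The small representation, with elements of orders 23, 11 and 5. -/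
theorem exists_rho : ∃ (rho : G →* GL (Fin 11) (ZMod 2)) (a b c : G), Function.Injective rho ∧
    orderOf a = 23 ∧ orderOf b = 11 ∧ orderOf c = 5 ∧ b * a * b⁻¹ = a ^ 2 ∧
      c * b * c⁻¹ = b ^ 4 := by
  obtain ⟨L, a, b, c, ha, hao, hbo, hco, hab, hcb⟩ := exists_elements hG
  obtain ⟨L11⟩ := exists_local' hG 11 (by norm_num) (by norm_num)
  obtain ⟨L5⟩ := exists_local' hG 5 (by norm_num) (by norm_num)
  obtain ⟨rho, hrho⟩ : ∃ rho : G →* GL (Fin 11) (ZMod 2), rho a ≠ 1 := by
    rcases eleven_or_degrees hG L11 L5 with ⟨χ, hχ⟩ | hP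
    · exact rho_of_eleven hG hχ L ha hbo hab
    · exact rho_of_pinned hG hP L ha hbo hab
  refine ⟨rho, a, b, c, ?_, hao, hbo, hco, hab, hcb⟩
  rw [← MonoidHom.ker_eq_bot_iff]
  exact (MonoidHom.normal_ker rho).eq_bot_or_eq_top.resolve_right fun h =>
    hrho (MonoidHom.mem_ker.1 (h ▸ Subgroup.mem_top a))

end CfsgLib.MTwentyThreeUnique
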