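import Cfsg.Agent.BrauerOrderP.BlockSum
import Cfsg.Agent.BrauerOrderP.Involutions
import Cfsg.Agent.ClassPairs.Basic
import Cfsg.Agent.LargePrime.Degrees

/-!
The principal block at a Sylow subgroup of prime order, with an arbitrary complement `K`, summarised
by one integer per character: the sum of its values on the non-trivial elements of the Sylow
subgroup.
-/

set_option autoImplicit false
set_option linter.style.haveILetI false
set_option linter.unusedSectionVars false

namespace CfsgLib.MTwentyThreeUnique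

open Cfsg CfsgLib.Characters CfsgLib.DefectOne CfsgLib.BrauerOrderP
open scoped ComplexConjugate

universe u

variable {G : Type u} [Group G] [Fintype G] {p : ℕ} [Fact p.Prime] (L : Local p G)

/-- The characters over the trivial orbit of the complement. -/
noncomputable def blk : Finset (IrrCharacter G) :=
  letI : DecidablePred fun χ : IrrCharacter G => InB L χ := fun _ => Classical.propDecidable _
  Finset.univ.filter fun χ => InB L χ

theorem mem_blk {χ : IrrCharacter G} : χ ∈ blk L ↔ InB L χ := by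
  simp [blk]

/-- The sum of the coefficients, which is the sum of the values on the non-trivial elements. -/
noncomputable def sv (χ : IrrCharacter G) : ℤ :=
  haveI := L.finite_lam
  letI := Fintype.ofFinite L.Lam
  ∑ l, coef L χ l

theorem sv_eq [Fintype L.Lam] (χ : IrrCharacter G) : sv L χ = ∑ l, coef L χ l := by
  rw [sv]
  congr 1
  ext; simp

theorem card_blk : (blk L).card = e L + Nat.card (L.ColOver (O0 L)) := by
  classical
  have h1 := L.counting.2.2.1 (O0 L)
  rw [Nat.card_eq_fintype_card, Fintype.card_subtype] at h1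
  exact Eq.trans (congrArg Finset.card (Finset.ext fun χ => by simp [mem_blk])) h1

/-- The degree plus the sum of the values is divisible by the prime. -/
theorem exists_fixed {χ : IrrCharacter G} (h : χ ∈ blk L) :
    ∃ m : ℕ, (Cfsg.charDegree (χ : G → ℂ) : ℤ) + sv L χ = p * m := by
  haveI := L.finite_lam
  letI := Fintype.ofFinite L.Lam
  obtain ⟨m, hm⟩ := exists_fixed_dim L ((mem_blk L).1 h)
  refine ⟨m, ?_⟩
  rw [← Blocks.charDegree_cast] at hm
  rw [sv_eq]
  exact_mod_cast hm

theorem sv_cases {χ : IrrCharacter G} (h : χ ∈ blk L) :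
    sv L χ = (p - 1 : ℕ) ∨ sv L χ = -((p - 1 : ℕ) : ℤ) ∨ sv L χ = e L ∨ sv L χ = -(e L : ℤ) := by
  haveI := L.finite_lam
  letI := Fintype.ofFinite L.Lam
  rw [sv_eq]
  rcases isConst_or_isUnit L ((mem_blk L).1 h) with ⟨a, ha⟩ | ⟨q, a, ha⟩
  · rcases ha.1 with r | r <;> rw [ha.sum_coef, r]
    · left; ring
    · right; left; ring
  · rcases ha.1 with r | r <;> rw [ha.sum_coef, r]
    · right; right; left; ring
    · right; right; right; ring

/-- The values at `u * k` do not depend on `k`. -/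
theorem value_indep {χ : IrrCharacter G} (h : χ ∈ blk L) {u : G} (hu : u ∈ (L.P : Subgroup G))
    (hu1 : u ≠ 1) {k : G} (hk : k ∈ L.K) : (χ : G → ℂ) (u * k) = (χ : G → ℂ) u := by
  haveI := L.finite_lam
  letI := Fintype.ofFinite L.Lam
  have hv : (⟨u, hu⟩ : (L.P : Subgroup G)) ≠ 1 := fun e => hu1 (congrArg Subtype.val e)
  exact (value L ((mem_blk L).1 h) hv ⟨k, hk⟩).trans (value_one L ((mem_blk L).1 h) hv).symm

/-- The non-trivial elements of the Sylow subgroup. -/
noncomputable def pNe : Finset G :=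
  letI : DecidablePred fun u : G => u ∈ (L.P : Subgroup G) ∧ u ≠ 1 :=
    fun _ => Classical.propDecidable _
  Finset.univ.filter fun u => u ∈ (L.P : Subgroup G) ∧ u ≠ 1

theorem mem_pNe {u : G} : u ∈ pNe L ↔ u ∈ (L.P : Subgroup G) ∧ u ≠ 1 := by
  simp [pNe]

theorem dvd_orderOf_mul {u k : G} (hu : u ∈ pNe L) (hk : k ∈ L.K) : p ∣ orderOf (u * k) :=
  (L.dvd_orderOf_iff ((mem_pNe L).1 hu).1 hk).2 ((mem_pNe L).1 hu).2

theorem sum_values {χ : IrrCharacter G} (h : χ ∈ blk L) :
    ∑ u ∈ pNe L, (χ : G → ℂ) u = sv L χ := by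
  classical
  haveI := L.finite_lam
  letI := Fintype.ofFinite L.Lam
  haveI := L.isMulCommutative
  haveI := Fintype.ofFinite (L.P : Subgroup G)
  rw [Finset.sum_bij' (t := (Finset.univ : Finset (L.P : Subgroup G)).erase 1)
    (g := fun v => -∑ l : L.Lam, (coef L χ l : ℂ) * (l.1 v : ℂ))
    (fun u hu => ⟨u, ((mem_pNe L).1 hu).1⟩) (fun v _ => (v : G))
    (fun u hu => Finset.mem_erase.2 ⟨fun e => ((mem_pNe L).1 hu).2 (congrArg Subtype.val e),
      Finset.mem_univ _⟩)
    (fun v hv => (mem_pNe L).2 ⟨v.2, fun e => (Finset.mem_erase.1 hv).1 (Subtype.ext e)⟩)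
    (fun u hu => rfl) (fun v hv => rfl)
    (fun u hu => value_one L ((mem_blk L).1 h)
      (u := ⟨u, ((mem_pNe L).1 hu).1⟩) fun e => ((mem_pNe L).1 hu).2 (congrArg Subtype.val e))]
  rw [Finset.sum_neg_distrib, Finset.sum_comm, sv_eq, Int.cast_sum, ← Finset.sum_neg_distrib]
  refine Finset.sum_congr rfl fun l _ => ?_
  rw [← Finset.mul_sum]
  have h5 := sum_hom_units_eq_zero ((Units.coeHom ℂ).comp l.1) fun he => l.2
    (MonoidHom.ext fun v => Units.ext (DFunLike.congr_fun he v))
  simp only [MonoidHom.comp_apply, Units.coeHom_apply] at h5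
  rw [Finset.sum_erase_eq_sub (Finset.mem_univ _), h5]
  simp

/-- Outside the block the values at `u * k` sum to zero. -/
theorem sum_K_out [Fintype L.K] {χ : IrrCharacter G} (h : χ ∉ blk L) {u : G} (hu : u ∈ pNe L) :
    ∑ k : L.K, (χ : G → ℂ) (u * k) = 0 := by
  classical
  haveI := L.finite_lam
  letI := Fintype.ofFinite L.Lam
  obtain ⟨hu', hu1⟩ := (mem_pNe L).1 hu
  have hv : (⟨u, hu'⟩ : (L.P : Subgroup G)) ≠ 1 := fun e => hu1 (congrArg Subtype.val e)
  simp only [show ∀ k : L.K, (χ : G → ℂ) (u * k) = _ from fun k => value_general L χ hv k,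
    Finset.sum_neg_distrib, neg_eq_zero]
  rw [Finset.sum_comm]
  refine Finset.sum_eq_zero fun φ _ => ?_
  rw [← Finset.sum_mul]
  by_cases hφ : φ = oneK L
  · refine mul_eq_zero_of_right _ (Finset.sum_eq_zero fun l _ => mul_eq_zero_of_left ?_ _)
    rw [hφ, ← coef_cast, Int.cast_eq_zero]
    by_contra hne
    exact h ((mem_blk L).2 ⟨_, hne⟩)
  · refine mul_eq_zero_of_left ?_ _
    have h2 := classInner_isIrr_ne φ.2 (oneK L).2 (fun e => hφ (Subtype.ext e))
    rw [Cfsg.classInner] at h2
    simp only [oneK_apply, map_one, mul_one] at h2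
    exact (mul_eq_zero.1 h2).resolve_left (inv_ne_zero natCard_ne_zero)

/-- The column relation with any element outside the sections of `P`. -/
theorem orth (g : G) (hg : ∀ u ∈ pNe L, ∀ k ∈ L.K, ¬ IsConj g (u * k)) :
    ∑ χ ∈ blk L, (χ : G → ℂ) g * (sv L χ : ℂ) = 0 := by
  classical
  haveI := Fintype.ofFinite L.K
  have h1 : ∑ χ : IrrCharacter G,
      (χ : G → ℂ) g * conj (∑ u ∈ pNe L, ∑ k : L.K, (χ : G → ℂ) (u * k)) = 0 := by
    simp only [map_sum, Finset.mul_sum]
    rw [Finset.sum_comm]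
    refine Finset.sum_eq_zero fun u hu => ?_
    rw [Finset.sum_comm]
    exact Finset.sum_eq_zero fun k _ => sum_irr_mul_conj_of_not_isConj (hg u hu k k.2)
  rw [← Finset.sum_subset (Finset.subset_univ (blk L)) (fun χ _ hχ => ?_)] at h1
  · have h2 : ∀ χ ∈ blk L, (χ : G → ℂ) g *
        conj (∑ u ∈ pNe L, ∑ k : L.K, (χ : G → ℂ) (u * k)) =
        (Nat.card L.K : ℂ) * ((χ : G → ℂ) g * (sv L χ : ℂ)) := by
      intro χ hχ
      rw [Finset.sum_congr rfl fun u hu => Finset.sum_congr rfl fun (k : L.K) _ =>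
        value_indep L hχ ((mem_pNe L).1 hu).1 ((mem_pNe L).1 hu).2 k.2]
      simp only [Finset.sum_const, Finset.card_univ, nsmul_eq_mul, ← Finset.mul_sum,
        sum_values L hχ, map_mul, map_natCast, map_intCast, Nat.card_eq_fintype_card]
      ring
    rw [Finset.sum_congr rfl h2, ← Finset.mul_sum, mul_eq_zero] at h1
    exact h1.resolve_left natCard_ne_zero
  · rw [Finset.sum_eq_zero fun u hu => sum_K_out L hχ hu, map_zero, mul_zero]

theorem not_isConj_of_regular {g : G} (hg : ¬ p ∣ orderOf g) :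
    ∀ u ∈ pNe L, ∀ k ∈ L.K, ¬ IsConj g (u * k) := by
  intro u hu k hk hc
  refine hg ?_
  obtain ⟨c, hc⟩ := isConj_iff.1 hc
  rw [show orderOf g = orderOf (c * g * c⁻¹) from (MulEquiv.orderOf_eq (MulAut.conj c) g).symm, hc]
  exact dvd_orderOf_mul L hu hk

/-- The degree relation. -/
theorem sum_deg : ∑ χ ∈ blk L, (Cfsg.charDegree (χ : G → ℂ) : ℤ) * sv L χ = 0 := by
  have h := orth L 1 (not_isConj_of_regular L (by
    rw [orderOf_one, Nat.dvd_one]; exact (Fact.out : p.Prime).ne_one))
  simp only [← Blocks.charDegree_cast] at h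
  exact_mod_cast h

/-- A character of the block is not zero on the whole section of `u`. -/
theorem exists_ne_zero {χ : IrrCharacter G} (h : χ ∈ blk L) : ∃ u ∈ pNe L, (χ : G → ℂ) u ≠ 0 := by
  by_contra hc
  push Not at hc
  have h1 := sum_values L h
  rw [Finset.sum_eq_zero hc, eq_comm, Int.cast_eq_zero] at h1
  rcases sv_cases L h with r | r | r | r <;> rw [r] at h1
  all_goals
    have h2 := (Fact.out : p.Prime).two_le
    have h3 := e_pos L
    omega

/-- No element of `C(P)` has order divisible by `r` if a character of the block has defect zero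
at `r`. -/
theorem not_dvd_orderOf {r : ℕ} (hr : r.Prime) {χ : IrrCharacter G} (h : χ ∈ blk L)
    (hfull : ¬ r ∣ Nat.card G / Cfsg.charDegree (χ : G → ℂ)) {k : G} (hk : k ∈ L.K) :
    ¬ r ∣ orderOf k := by
  intro hd
  obtain ⟨u, hu, hne⟩ := exists_ne_zero L h
  obtain ⟨hu', hu1⟩ := (mem_pNe L).1 hu
  refine hne ?_
  rw [← value_indep L h hu' hu1 hk]
  refine BrauerOrderP.eq_zero_of_full_part hr χ hfull (hd.trans ?_)
  have hco : Nat.Coprime (orderOf u) (orderOf k) := by
    rw [L.orderOf_of_mem hu' hu1]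
    exact (Fact.out : p.Prime).coprime_iff_not_dvd.2 (L.not_dvd_orderOf hk)
  rw [(L.commute hu' hk).orderOf_mul_eq_mul_orderOf_of_coprime hco]
  exact dvd_mul_left _ _

theorem not_dvd_card_K {r : ℕ} [hr : Fact r.Prime] {χ : IrrCharacter G} (h : χ ∈ blk L)
    (hfull : ¬ r ∣ Nat.card G / Cfsg.charDegree (χ : G → ℂ)) : ¬ r ∣ Nat.card L.K := by
  intro hd
  obtain ⟨k, hk⟩ := exists_prime_orderOf_dvd_card' r hd
  exact not_dvd_orderOf L hr.out h hfull k.2 (by rw [Subgroup.orderOf_coe, hk])

/-- The trivial character. -/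
theorem exists_one : ∃ χ ∈ blk L, (χ : G → ℂ) = (fun _ => 1) ∧ sv L χ = (p - 1 : ℕ) := by
  haveI := L.finite_lam
  letI := Fintype.ofFinite L.Lam
  obtain ⟨χ, h1, h2⟩ := one_isConst L
  refine ⟨χ, (mem_blk L).2 h2.inB, h1, ?_⟩
  rw [sv_eq, h2.sum_coef, mul_one]

/-- Characters outside the block have degree divisible by `p` when `K` is trivial. -/
theorem dvd_degree_out (hK : L.K = ⊥) {χ : IrrCharacter G} (h : χ ∉ blk L) :
    p ∣ Cfsg.charDegree (χ : G → ℂ) := by
  haveI := L.finite_lam
  letI := Fintype.ofFinite L.Lam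
  exact BrauerOrderP.dvd_degree_out hK fun hh => h ((mem_blk L).2 hh)

section Involution

/-- The block at an involution, when no element inverts `u`. -/
theorem sum_involution [DecidableEq G]
    (hinv : ∀ u ∈ pNe L, ∀ x : G, x * u * x⁻¹ ≠ u⁻¹)
    {s : G} (hs : s * s = 1) :
    ∑ χ ∈ blk L, (χ : G → ℂ) s * (χ : G → ℂ) s / (χ : G → ℂ) 1 * (sv L χ : ℂ) = 0 := by
  classical
  haveI := Fintype.ofFinite L.K
  have hzero : ∀ u ∈ pNe L, ∀ k : L.K, ∑ χ : IrrCharacter G,
      conj ((χ : G → ℂ) (u * k)) * ((χ : G → ℂ) s * (χ : G → ℂ) s / (χ : G → ℂ) 1) = 0 := by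
    intro u hu k
    have h := ClassPairs.card_pairs s s {u * (k : G)}
    simp only [Finset.mem_singleton, Finset.sum_singleton] at h
    rw [Finset.sum_eq_zero fun a _ => Finset.sum_eq_zero fun b _ => if_neg fun hab => ?_] at h
    · exact (mul_eq_zero.1 h.symm).resolve_left natCard_ne_zero
    · obtain ⟨hu', hu1⟩ := (mem_pNe L).1 hu
      set x := a * s * a⁻¹ with hx
      set y := b * s * b⁻¹ with hy
      have hxx : x * x = 1 := by
        rw [hx, show a * s * a⁻¹ * (a * s * a⁻¹) = a * (s * s) * a⁻¹ by group, hs, mul_one,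
          mul_inv_cancel]
      have hyy : y * y = 1 := by
        rw [hy, show b * s * b⁻¹ * (b * s * b⁻¹) = b * (s * s) * b⁻¹ by group, hs, mul_one,
          mul_inv_cancel]
      have hconj : x * (u * k) * x⁻¹ = (u * (k : G))⁻¹ := by
        clear_value x y
        rw [← hab, mul_inv_rev, inv_eq_of_mul_eq_one_right hxx, inv_eq_of_mul_eq_one_right hyy,
          ← mul_assoc x x, hxx, one_mul]
      obtain ⟨e', h1, h2⟩ := L.exists_exponent
      refine hinv u hu x ?_
      have hpe := congrArg (· ^ e') hconj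
      simp only [_root_.conj_pow, inv_pow, L.pow_exponent h1 h2 hu' k.2] at hpe
      exact hpe
  have h1 : ∑ χ : IrrCharacter G, conj (∑ u ∈ pNe L, ∑ k : L.K, (χ : G → ℂ) (u * k)) *
      ((χ : G → ℂ) s * (χ : G → ℂ) s / (χ : G → ℂ) 1) = 0 := by
    simp only [map_sum, Finset.sum_mul]
    rw [Finset.sum_comm]
    refine Finset.sum_eq_zero fun u hu => ?_
    rw [Finset.sum_comm]
    exact Finset.sum_eq_zero fun k _ => hzero u hu k
  rw [← Finset.sum_subset (Finset.subset_univ (blk L)) (fun χ _ hχ => ?_)] at h1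
  · have h2 : ∀ χ ∈ blk L, conj (∑ u ∈ pNe L, ∑ k : L.K, (χ : G → ℂ) (u * k)) *
        ((χ : G → ℂ) s * (χ : G → ℂ) s / (χ : G → ℂ) 1) =
        (Nat.card L.K : ℂ) * ((χ : G → ℂ) s * (χ : G → ℂ) s / (χ : G → ℂ) 1 * (sv L χ : ℂ)) := by
      intro χ hχ
      rw [Finset.sum_congr rfl fun u hu => Finset.sum_congr rfl fun (k : L.K) _ =>
        value_indep L hχ ((mem_pNe L).1 hu).1 ((mem_pNe L).1 hu).2 k.2]
      simp only [Finset.sum_const, Finset.card_univ, nsmul_eq_mul, ← Finset.mul_sum,
        sum_values L hχ, map_mul, map_natCast, map_intCast, Nat.card_eq_fintype_card]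
      ring
    rw [Finset.sum_congr rfl h2, ← Finset.mul_sum, mul_eq_zero] at h1
    exact h1.resolve_left natCard_ne_zero
  · rw [Finset.sum_eq_zero fun u hu => sum_K_out L hχ hu, map_zero, zero_mul]

/-- With an odd inertial index no element inverts a non-trivial element of `P`. -/
theorem not_inverts (hp : p ≠ 2) (he : e L % 2 = 1) :
    ∀ u ∈ pNe L, ∀ x : G, x * u * x⁻¹ ≠ u⁻¹ := by
  intro u hu x hx
  obtain ⟨hu', hu1⟩ := (mem_pNe L).1 hu
  have hxN : x ∈ L.N := L.mem_N_of_conj hu' hu1 (hx ▸ inv_mem hu')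
  set C := Subgroup.centralizer ({u} : Set G) with hC
  have hCN : C ≤ L.N := by
    intro g hg
    refine L.mem_N_of_conj hu' hu1 ?_
    rw [Subgroup.mem_centralizer_singleton_iff.1 hg, mul_inv_cancel_right]
    exact hu'
  have hCcard : Nat.card C = p * Nat.card L.K := by
    rw [hC, L.centralizer_singleton hu' hu1, L.card_centralizer]
  have hNc : C.relIndex L.N = e L := by
    have h1 : C.relIndex L.N * Nat.card C = Nat.card L.N := by
      rw [Subgroup.relIndex, ← Nat.card_congr (Subgroup.subgroupOfEquivOfLe hCN).toEquiv]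
      exact Subgroup.index_mul_card _
    rw [hCcard, ← card_N L] at h1
    exact Nat.eq_of_mul_eq_mul_right
      (mul_pos (Fact.out : p.Prime).pos (Nat.card_pos (α := L.K))) h1
  have hxC : x ∉ C := fun hc => by
    rw [Subgroup.mem_centralizer_singleton_iff] at hc
    rw [hc, mul_inv_cancel_right] at hx
    have h2 : u ^ 2 = 1 := by rw [sq]; nth_rewrite 2 [hx]; exact mul_inv_cancel u
    have h3 := orderOf_dvd_of_pow_eq_one h2
    rw [L.orderOf_of_mem hu' hu1] at h3
    exact hp ((Nat.prime_dvd_prime_iff_eq Fact.out Nat.prime_two).1 h3)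
  have hx2 : x * x ∈ C := by
    rw [Subgroup.mem_centralizer_singleton_iff]
    have hh : x * u⁻¹ * x⁻¹ = u := by
      have h := congrArg (fun g : G => g⁻¹) hx
      simpa [mul_assoc] using h
    calc x * x * u = x * (x * u * x⁻¹) * x := by group
      _ = x * u⁻¹ * x := by rw [hx]
      _ = x * u⁻¹ * x⁻¹ * (x * x) := by group
      _ = u * (x * x) := by rw [hh]
  haveI : (C.subgroupOf L.N).Normal := by
    refine ⟨fun c hc n => ?_⟩
    rw [Subgroup.mem_subgroupOf] at hc ⊢
    rw [hC, L.centralizer_singleton hu' hu1] at hc ⊢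
    simp only [Subgroup.coe_mul, InvMemClass.coe_inv]
    exact L.conj_mem_centralizer n.2 hc
  let q : L.N ⧸ C.subgroupOf L.N := QuotientGroup.mk ⟨x, hxN⟩
  have hq2 : q ^ 2 = 1 := by
    rw [← QuotientGroup.mk_pow, QuotientGroup.eq_one_iff, Subgroup.mem_subgroupOf, sq]
    exact hx2
  have hq1 : q ≠ 1 := fun h => hxC (by
    rwa [QuotientGroup.eq_one_iff, Subgroup.mem_subgroupOf] at h)
  have h4 : orderOf q = 2 := orderOf_eq_prime hq2 hq1
  have h5 : 2 ∣ e L := by
    rw [← h4, ← hNc, Subgroup.relIndex, Subgroup.index_eq_card]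
    exact orderOf_dvd_natCard q
  omega

end Involution

end CfsgLib.MTwentyThreeUnique
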