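import Cfsg.Agent.MTwentyThreeUnique.Squares

/-!
A simple group of order 10200960 with the degrees of the Mathieu group: the character of degree 22
has even values at the real elements of odd order.
-/

set_option autoImplicit false
set_option linter.style.haveILetI false
set_option linter.unusedSectionVars false

open Cfsg CfsgLib.Characters CfsgLib.DefectOne CfsgLib.BrauerOrderP

namespace CfsgLib.MTwentyThreeUnique

universe u

variable {G : Type u} [Group G] [Fintype G]

/-- An element whose order is divisible by a prime with odd inertial index is not real. -/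
theorem not_real_of_odd {p : ℕ} [Fact p.Prime] (L : Local p G) (hp : p ≠ 2) (he : e L % 2 = 1)
    {g : G} (hd : p ∣ orderOf g) : ¬ IsConj g g⁻¹ := by
  intro hr
  obtain ⟨c, hc⟩ := L.exists_conj_centralizer hd
  obtain ⟨u, hu, k, hk, huk⟩ := L.decomp _ hc
  have hgc : IsConj g (c * g * c⁻¹) := isConj_iff.2 ⟨c, rfl⟩
  have hgc' : IsConj g⁻¹ (c * g * c⁻¹)⁻¹ := isConj_iff.2 ⟨c, by group⟩
  obtain ⟨x, hx⟩ := isConj_iff.1 ((hgc.symm.trans hr).trans hgc')
  have hu1 : u ≠ 1 := (L.dvd_orderOf_iff hu hk).1 (by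
    rw [← huk]
    have := (MulAut.conj c).orderOf_eq g
    rw [MulAut.conj_apply] at this
    rwa [this])
  rw [huk] at hx
  obtain ⟨a, ha, ha'⟩ := L.exists_exponent
  have h1 := congrArg (· ^ a) hx
  simp only [conj_pow, inv_pow, L.pow_exponent ha ha' hu hk] at h1
  exact not_inverts L hp he u ((mem_pNe L).2 ⟨hu, hu1⟩) x h1

/-- Real products of elements of order 5 and of its centralizer part have trivial second part. -/
theorem five_real [Fact (Nat.Prime 5)] (L : Local 5 G) (he : e L = 4) (hK : Nat.card L.K = 3)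
    {u k : G} (hu : u ∈ pNe L) (hk : k ∈ L.K) (hr : IsConj (u * k) (u * k)⁻¹) : k = 1 := by
  classical
  haveI : Fact (Nat.Prime 3) := ⟨by norm_num⟩
  haveI : IsCyclic L.K := isCyclic_of_prime_card hK
  obtain ⟨hu', hu1⟩ := (mem_pNe L).1 hu
  have hK3 : ∀ x ∈ L.K, x ^ 3 = 1 := fun x hx =>
    orderOf_dvd_iff_pow_eq_one.1 (hK ▸ Subgroup.orderOf_dvd_natCard _ hx)
  by_contra hk1
  -- the elements of K are the powers of k
  have hall : ∀ y ∈ L.K, y = 1 ∨ y = k ∨ y = k⁻¹ := by
    intro y hy
    have hne : (⟨k, hk⟩ : L.K) ≠ 1 := fun h => hk1 (congrArg Subtype.val h)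
    obtain ⟨i, hi⟩ := (Submonoid.mem_powers_iff _ _).1
      (mem_powers_of_prime_card (p := 3) hK hne (g' := (⟨y, hy⟩ : L.K)))
    have hi' : k ^ i = y := congrArg Subtype.val hi
    rw [← hi', ← Nat.div_add_mod i 3, pow_add, pow_mul, hK3 k hk, one_pow, one_mul]
    have : i % 3 < 3 := Nat.mod_lt _ (by norm_num)
    interval_cases i % 3
    · exact Or.inl (pow_zero k)
    · exact Or.inr (Or.inl (pow_one k))
    · exact Or.inr (Or.inr (eq_inv_of_mul_eq_one_left (by rw [← pow_succ, hK3 k hk])))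
  obtain ⟨x, hx⟩ := isConj_iff.1 hr
  obtain ⟨a, ha, ha'⟩ := L.exists_exponent
  have hxu : x * u * x⁻¹ = u⁻¹ := by
    have h1 := congrArg (· ^ a) hx
    simpa only [conj_pow, inv_pow, L.pow_exponent ha ha' hu' hk] using h1
  have hxN : x ∈ L.N := L.mem_N_of_conj hu' hu1 (hxu ▸ inv_mem hu')
  have hxk : x * k * x⁻¹ = k⁻¹ := by
    have h2 : u⁻¹ * (x * k * x⁻¹) = u⁻¹ * k⁻¹ := by
      rw [← hxu]
      calc x * u * x⁻¹ * (x * k * x⁻¹) = x * (u * k) * x⁻¹ := by group
        _ = (u * k)⁻¹ := hx
        _ = x * u * x⁻¹ * k⁻¹ := by rw [hxu, ← mul_inv_rev, (L.commute hu' hk).eq]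
    exact mul_left_cancel h2
  have hu2 : u ^ 2 ∈ pNe L := (mem_pNe L).2 ⟨pow_mem hu' 2, fun e => hu1 (by
    have h5 := L.pow_p hu'
    rwa [show 5 = 2 + 2 + 1 by norm_num, pow_succ, pow_add, e, one_mul, one_mul] at h5)⟩
  obtain ⟨n, hn⟩ := isConj_iff.1 (isConj_of_full L he hu hu2)
  have hnN : n ∈ L.N := L.mem_N_of_conj hu' hu1 (hn ▸ pow_mem hu' 2)
  have hn2 : n * n * u * (n * n)⁻¹ = u⁻¹ := by
    calc n * n * u * (n * n)⁻¹ = n * (n * u * n⁻¹) * n⁻¹ := by group
      _ = (n * u * n⁻¹) ^ 2 := by rw [hn, ← conj_pow (a := n) (b := u) (i := 2), hn]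
      _ = u⁻¹ := by
        rw [hn, ← pow_mul]
        refine eq_inv_of_mul_eq_one_left ?_
        rw [← pow_succ]
        exact L.pow_p hu'
  have hnk : n * n * k * (n * n)⁻¹ = k := by
    rw [show n * n * k * (n * n)⁻¹ = n * (n * k * n⁻¹) * n⁻¹ by group]
    rcases hall _ (L.conj_mem_K hnN hk) with h | h | h
    · exact absurd (conj_eq_one_iff.1 h) hk1
    · rw [h, h]
    · rw [h, show n * k⁻¹ * n⁻¹ = (n * k * n⁻¹)⁻¹ by group, h, inv_inv]
  have hz : (n * n)⁻¹ * x ∈ Subgroup.centralizer ((L.P : Subgroup G) : Set G) := by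
    rw [← L.centralizer_singleton hu' hu1, Subgroup.mem_centralizer_singleton_iff]
    calc (n * n)⁻¹ * x * u = (n * n)⁻¹ * (x * u * x⁻¹) * x := by group
      _ = (n * n)⁻¹ * (n * n * u * (n * n)⁻¹) * x := by rw [hxu, hn2]
      _ = u * ((n * n)⁻¹ * x) := by group
  obtain ⟨v, hv, k', hk', hd⟩ := L.decomp _ hz
  have hzk : Commute ((n * n)⁻¹ * x) k := by
    rw [hd]
    refine (L.commute hv hk).mul_left ?_
    rcases hall _ hk' with rfl | rfl | rfl
    · exact Commute.one_left k
    · exact Commute.refl k'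
    · exact (Commute.refl k).inv_left
  have h3 : x * k * x⁻¹ = k := by
    have hxe : x = n * n * ((n * n)⁻¹ * x) := by group
    generalize hw : (n * n)⁻¹ * x = w at hzk hxe
    rw [hxe, mul_inv_rev, show n * n * w * k * (w⁻¹ * (n * n)⁻¹) =
      n * n * (w * k * w⁻¹) * (n * n)⁻¹ by group, hzk.eq,
      mul_inv_cancel_right, hnk]
  rw [h3] at hxk
  have h4 : k ^ 2 = 1 := by rw [sq]; nth_rewrite 2 [hxk]; exact mul_inv_cancel k
  exact hk1 (by have h5 := hK3 k hk; rwa [pow_succ k 2, h4, one_mul] at h5)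

variable [IsSimpleGroup G] (hG : Nat.card G = 10200960)
include hG

variable [Fact (Nat.Prime 11)] [Fact (Nat.Prime 5)] {L11 : Local 11 G} {L5 : Local 5 G}
  (hP : Pinned L11 L5)
include hP

/-- The value at an element of three-power order other than 1. -/
theorem three_value {χ : IrrCharacter G} (hχ : deg χ = 22) {g : G} (hg1 : g ≠ 1)
    (hg : orderOf g ∣ 9) : (χ : G → ℂ) g = 4 ∨ (χ : G → ℂ) g = -3 := by
  classical
  haveI : Fact (Nat.Prime 3) := ⟨by norm_num⟩
  haveI : Fact (Nat.Prime 7) := ⟨by norm_num⟩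
  have h3 : 3 ∣ orderOf g := by
    rcases (Nat.dvd_prime_pow (show Nat.Prime 3 by norm_num)).1
      (show orderOf g ∣ 3 ^ 2 by simpa using hg) with ⟨i, -, hi⟩
    rcases Nat.eq_zero_or_pos i with rfl | hpos
    · exact absurd (orderOf_eq_one_iff.1 (by simpa using hi)) hg1
    · rw [hi]; exact dvd_pow_self 3 (by omega)
  have hreg : ∀ p : ℕ, p.Prime → p ≠ 3 → ¬ p ∣ orderOf g := fun p hp hne hd =>
    hne ((Nat.prime_dvd_prime_iff_eq hp (by norm_num)).1
      (hp.dvd_of_dvd_pow (show p ∣ 3 ^ 2 from hd.trans (by simpa using hg))))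
  have hsing : ∀ d, d % 9 = 0 → ∀ φ : IrrCharacter G, deg φ = d → (φ : G → ℂ) g = 0 :=
    fun d hd φ hφ => InvolutionCount.char_eq_zero_of_dvd_orderOf φ (p := 3) (by
      rw [hG, show (10200960 : ℕ).factorization 3 = 2 by
        rw [show (10200960 : ℕ) = 3 ^ 2 * 1133440 by norm_num,
          Nat.factorization_mul (by norm_num) (by norm_num), Finsupp.add_apply,
          Nat.Prime.factorization_pow (by norm_num), Finsupp.single_eq_same,
          Nat.factorization_eq_zero_of_not_dvd (show ¬ 3 ∣ 1133440 by norm_num)],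
        show Cfsg.charDegree (φ : G → ℂ) = d from hφ]
      exact Nat.dvd_of_mod_eq_zero (by simpa using hd)) h3
  obtain ⟨φ, ψ, hφ, hψ, hψb, hsq⟩ := squares hG hP hχ
  -- squaring fixes the value
  have hgg : (χ : G → ℂ) (g * g) = (χ : G → ℂ) g := by
    have h := pow_value hP.degs hχ (k := 29) (by rw [hG]; exact eq_41_values.2) g
    rwa [show g ^ 29 = g * g by
      rw [← sq, show 29 = 9 * 3 + 2 by norm_num, pow_add, pow_mul,
        orderOf_dvd_iff_pow_eq_one.1 hg, one_pow, one_mul]] at h
  obtain ⟨e1, e2⟩ := hsq g hgg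
  -- the block at 7
  obtain ⟨L7⟩ := exists_local' hG 7 (by norm_num) (by norm_num)
  obtain ⟨S7⟩ := exists_shape L7 (by norm_num)
  obtain ⟨hC7, hy7⟩ := seven_block hG hP L7 S7
  obtain ⟨a, ha, hda⟩ : ∃ a ∈ S7.C, deg a = 2024 := by
    have : (2024 : ℕ) ∈ S7.C.val.map deg := by rw [hC7]; simp
    obtain ⟨a, ha, h⟩ := Multiset.mem_map.1 this
    exact ⟨a, ha, h⟩
  have hcard7 : S7.C.card = 2 := by rw [S7.card_C, e_seven hG hP L7]; decide
  have hother : ∀ b ∈ S7.C, b ≠ a → deg b = 1035 := by
    intro b hb hne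
    have : deg b ∈ S7.C.val.map deg := Multiset.mem_map_of_mem _ hb
    rw [hC7] at this
    simp only [Multiset.mem_coe, List.mem_cons, List.not_mem_nil, or_false] at this
    exact this.resolve_right fun h => hne (eq_of_deg hP.degs (by decide +kernel) h hda)
  have ht : (a : G → ℂ) g = -1 := by
    have h := orth L7 g (not_isConj_of_regular L7 (hreg 7 (by norm_num) (by norm_num)))
    rw [S7.sum_blk, S7.one_eq, S7.sv_one, Finset.sum_eq_single a, S7.sv_C a ha, hda,
      Finset.sum_eq_zero (s := S7.E) fun b hb => by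
        rw [hsing 990 (by norm_num) b ((S7.deg_E b hb).trans hy7), zero_mul]] at h
    · rw [show csign 7 2024 = 6 by decide] at h
      push_cast at h
      linear_combination h / 6
    · intro b hb hne
      rw [hsing 1035 (by norm_num) b (hother b hb hne), zero_mul]
    · exact fun h => absurd ha h
  -- the block at 11
  obtain ⟨S11⟩ := exists_shape L11 (by norm_num)
  obtain ⟨hC11, hy11⟩ := eleven_block hG hP S11
  have hφC : φ ∈ S11.C := by
    have : (230 : ℕ) ∈ S11.C.val.map deg := by rw [hC11]; simp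
    obtain ⟨b, hb, h⟩ := Multiset.mem_map.1 this
    rwa [eq_of_deg hP.degs (by decide +kernel) hφ h]
  have h896 : ∀ b, deg b = 896 → b ∈ S11.E := by
    intro b hb
    have hsub : S11.E = Finset.univ.filter fun b : IrrCharacter G => deg b = 896 := by
      refine Finset.eq_of_subset_of_card_le (fun b hb => Finset.mem_filter.2
        ⟨Finset.mem_univ _, (S11.deg_E b hb).trans hy11⟩) ?_
      have := card_le_countP hP.degs (s := Finset.univ.filter fun b : IrrCharacter G => deg b = 896)
        (fun d => d == 896) fun b hb => by simp [(Finset.mem_filter.1 hb).2]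
      rw [show trueDegs.countP (fun d => d == 896) = 2 by decide +kernel] at this
      rw [S11.card_E, hP.e11, show excCount 11 5 = 2 by decide]
      exact this
    rw [hsub]
    exact Finset.mem_filter.2 ⟨Finset.mem_univ _, hb⟩
  have h11 : 2 * (1 - (φ : G → ℂ) g) = ∑ b ∈ S11.E, (b : G → ℂ) g := by
    have h := orth L11 g (not_isConj_of_regular L11 (hreg 11 (by norm_num) (by norm_num)))
    rw [S11.sum_blk, S11.one_eq, S11.sv_one, Finset.sum_eq_single φ, S11.sv_C φ hφC, hφ,
      Finset.sum_congr rfl (s₂ := S11.E) (g := fun b => (b : G → ℂ) g * ((-5 : ℤ) : ℂ))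
        fun b hb => by rw [S11.sv_E b hb, S11.deg_E b hb, hy11, hP.e11]; rfl,
      ← Finset.sum_mul] at h
    · rw [show csign 11 230 = -10 by decide] at h
      push_cast at h
      linear_combination h / 5
    · intro b hb hne
      have hd : deg b ∈ S11.C.val.map deg := Multiset.mem_map_of_mem _ hb
      rw [hC11] at hd
      simp only [Multiset.mem_coe, List.mem_cons, List.not_mem_nil, or_false] at hd
      rcases hd with hd | hd | hd | hd
      · rw [hsing 1035 (by norm_num) b hd, zero_mul]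
      · exact absurd (eq_of_deg hP.degs (by decide +kernel) hd hφ) hne
      · rw [hsing 45 (by norm_num) b hd, zero_mul]
      · rw [hsing 45 (by norm_num) b hd, zero_mul]
    · exact fun h => absurd hφC h
  -- the block at 5
  obtain ⟨S5⟩ := exists_shape L5 (by norm_num)
  obtain ⟨hC5, hE5⟩ := five_block hG hP S5
  have hψC : ψ ∈ S5.C := by
    rw [S5.blk_eq, hE5, Finset.union_empty, Finset.mem_insert] at hψb
    refine hψb.resolve_left fun e => ?_
    rw [e, deg_one S5.one_eq] at hψ
    norm_num at hψ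
  have hC5set : S5.C = insert ψ (insert a S11.E) := by
    have haE : a ∉ S11.E := fun h => by
      have := S11.deg_E a h
      rw [hda, hy11] at this
      norm_num at this
    have hψE : ψ ∉ insert a S11.E := fun h => by
      rcases Finset.mem_insert.1 h with h | h
      · rw [h, hda] at hψ; norm_num at hψ
      · have := S11.deg_E ψ h
        rw [hψ, hy11] at this
        norm_num at this
    refine Finset.eq_of_subset_of_card_le (fun b hb => ?_) ?_
    · have hd : deg b ∈ S5.C.val.map deg := Multiset.mem_map_of_mem _ hb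
      rw [hC5] at hd
      simp only [Multiset.mem_coe, List.mem_cons, List.not_mem_nil, or_false] at hd
      rcases hd with hd | hd | hd | hd
      · refine Finset.mem_insert.2 (Or.inl ?_)
        by_contra hne
        have h2 : ({b, ψ} : Finset (IrrCharacter G)).card ≤
            (S5.C.filter fun c => deg c = 231).card := Finset.card_le_card fun c hc => by
          rcases Finset.mem_insert.1 hc with rfl | hc
          · exact Finset.mem_filter.2 ⟨hb, hd⟩
          · rw [Finset.mem_singleton.1 hc]; exact Finset.mem_filter.2 ⟨hψC, hψ⟩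
        have h3 : (S5.C.filter fun c => deg c = 231).card =
            ((S5.C.val.map deg).filter fun d => d = 231).card := by
          rw [Multiset.filter_map, Multiset.card_map, ← Finset.card_val, Finset.filter_val]
          rfl
        rw [Finset.card_pair hne, h3, hC5] at h2
        revert h2
        decide +kernel
      · exact Finset.mem_insert_of_mem (Finset.mem_insert_of_mem (h896 b hd))
      · exact Finset.mem_insert_of_mem (Finset.mem_insert_of_mem (h896 b hd))
      · exact Finset.mem_insert_of_mem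
          (Finset.mem_insert.2 (Or.inl (eq_of_deg hP.degs (by decide +kernel) hd hda)))
    · rw [Finset.card_insert_of_notMem hψE, Finset.card_insert_of_notMem haE, S11.card_E,
        S5.card_C, hP.e11, hP.e5]
      decide
  have h5 : 1 + (ψ : G → ℂ) g + ∑ b ∈ S11.E, (b : G → ℂ) g - (a : G → ℂ) g = 0 := by
    have h := orth L5 g (not_isConj_of_regular L5 (hreg 5 (by norm_num) (by norm_num)))
    rw [S5.sum_blk, S5.one_eq, S5.sv_one, hE5, Finset.sum_empty, add_zero,
      Finset.sum_congr rfl fun b hb => by rw [S5.sv_C b hb], hC5set,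
      Finset.sum_insert (fun h => by
        rcases Finset.mem_insert.1 h with h | h
        · rw [h, hda] at hψ; norm_num at hψ
        · have := S11.deg_E ψ h; rw [hψ, hy11] at this; norm_num at this),
      Finset.sum_insert (fun h => by
        have := S11.deg_E a h; rw [hda, hy11] at this; norm_num at this),
      Finset.sum_congr rfl (s₂ := S11.E) (g := fun b => (b : G → ℂ) g * ((4 : ℤ) : ℂ))
        fun b hb => by rw [S11.deg_E b hb, hy11]; rfl,
      ← Finset.sum_mul, hψ, hda, show csign 5 231 = 4 by decide, show csign 5 2024 = -4 by decide]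
      at h
    push_cast at h
    linear_combination h / 4
  have hquad : ((χ : G → ℂ) g - 4) * ((χ : G → ℂ) g + 3) = 0 := by
    linear_combination (-1 : ℂ) * e1 - 2 * (h5 + h11 + ht + 2 * e2)
  rcases mul_eq_zero.1 hquad with h | h
  · exact Or.inl (sub_eq_zero.1 h)
  · exact Or.inr (eq_neg_of_add_eq_zero_left h)

theorem three_value_even {χ : IrrCharacter G} (hχ : deg χ = 22) {g : G} (hg1 : g ≠ 1)
    (hg : orderOf g ∣ 9) : (χ : G → ℂ) g = 4 := by
  classical
  refine (three_value hG hP hχ hg1 hg).resolve_right fun hv => ?_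
  set H := Subgroup.zpowers g with hH
  haveI := Fintype.ofFinite H
  obtain ⟨m, hm⟩ := classInner_characters (isCharacter_restrict H
    (isCharacter_of_isIrr χ.2)) (isCharacter_of_isIrr (isIrr_one (G := H)))
  rw [Cfsg.classInner] at hm
  simp only [map_one, mul_one] at hm
  have hcard : Nat.card H = orderOf g := Nat.card_zpowers g
  set T := ((Finset.univ : Finset H).erase 1).filter fun x : H => (χ : G → ℂ) x = -3 with hT
  have hpos : 0 < T.card := Finset.card_pos.2 ⟨⟨g, Subgroup.mem_zpowers g⟩, Finset.mem_filter.2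
    ⟨Finset.mem_erase.2 ⟨fun e => hg1 (congrArg Subtype.val e), Finset.mem_univ _⟩, hv⟩⟩
  have hlt : T.card + 1 ≤ orderOf g := by
    rw [← hcard, Nat.card_eq_fintype_card, ← Finset.card_univ,
      ← Finset.card_erase_add_one (Finset.mem_univ (1 : H))]
    exact Nat.add_le_add_right (Finset.card_le_card (Finset.filter_subset _ _)) 1
  have hval : ∀ x ∈ (Finset.univ : Finset H).erase 1,
      (χ : G → ℂ) x = 4 - 7 * (if (χ : G → ℂ) x = -3 then 1 else 0) := by
    intro x hx
    have hx1 : (x : G) ≠ 1 := fun e => Finset.ne_of_mem_erase hx (Subtype.ext e)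
    rcases three_value hG hP hχ hx1 (((hcard ▸ Subgroup.orderOf_dvd_natCard H x.2) :
      orderOf (x : G) ∣ orderOf g).trans hg) with h | h <;> rw [h] <;> norm_num
  have hsum : ∑ x : H, (χ : G → ℂ) x = 22 + 4 * ((orderOf g - 1 : ℕ) : ℂ) - 7 * (T.card : ℂ) := by
    rw [← Finset.add_sum_erase _ _ (Finset.mem_univ (1 : H)), OneMemClass.coe_one,
      ← Blocks.charDegree_cast, show Cfsg.charDegree (χ : G → ℂ) = 22 from hχ,
      Finset.sum_congr rfl hval, Finset.sum_sub_distrib, ← Finset.mul_sum, Finset.sum_boole,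
      Finset.sum_const, Finset.card_erase_of_mem (Finset.mem_univ _), Finset.card_univ,
      ← Nat.card_eq_fintype_card, hcard, nsmul_eq_mul, ← hT]
    push_cast
    ring
  have hnat : (22 : ℤ) + 4 * ((orderOf g - 1 : ℕ) : ℤ) - 7 * (T.card : ℤ) = orderOf g * (m : ℤ) := by
    have h0 : (orderOf g : ℂ) ≠ 0 := Nat.cast_ne_zero.2 (orderOf_pos g).ne'
    have h : (((22 : ℤ) + 4 * ((orderOf g - 1 : ℕ) : ℤ) - 7 * (T.card : ℤ) : ℤ) : ℂ) =
        ((orderOf g * (m : ℤ) : ℤ) : ℂ) := by
      push_cast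
      rw [← hm, hcard, hsum]
      field_simp
    exact_mod_cast h
  rcases (Nat.dvd_prime_pow (show Nat.Prime 3 by norm_num)).1
    (show orderOf g ∣ 3 ^ 2 by simpa using hg) with ⟨i, hi2, hi⟩
  obtain rfl | rfl | rfl : i = 0 ∨ i = 1 ∨ i = 2 := by omega
  · exact hg1 (orderOf_eq_one_iff.1 (by simpa using hi))
  all_goals rw [hi] at hnat hlt
  all_goals norm_num at hnat hlt
  all_goals omega

/-- At real elements of odd order the values are even. -/
theorem even_value {χ : IrrCharacter G} (hχ : deg χ = 22) {g : G} (hodd : Odd (orderOf g))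
    (hr : IsConj g g⁻¹) : ∃ z : ℤ, (χ : G → ℂ) g = 2 * (z : ℂ) := by
  classical
  haveI : Fact (Nat.Prime 7) := ⟨by norm_num⟩
  haveI : Fact (Nat.Prime 23) := ⟨by norm_num⟩
  obtain ⟨L7⟩ := exists_local' hG 7 (by norm_num) (by norm_num)
  obtain ⟨L23⟩ := exists_local' hG 23 (by norm_num) (by norm_num)
  have h7 : ¬ 7 ∣ orderOf g := fun h =>
    not_real_of_odd L7 (by norm_num) (by rw [e_seven hG hP L7]) h hr
  have h23 : ¬ 23 ∣ orderOf g := fun h =>
    not_real_of_odd L23 (by norm_num) (by rw [e_eq23 hG L23]) h hr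
  have h11 : ¬ 11 ∣ orderOf g := fun h =>
    not_real_of_odd L11 (by norm_num) (by rw [hP.e11]) h hr
  by_cases h5 : 5 ∣ orderOf g
  · obtain ⟨c, hc⟩ := L5.exists_conj_centralizer h5
    obtain ⟨u, hu, k, hk, huk⟩ := L5.decomp _ hc
    have hu1 : u ≠ 1 := (L5.dvd_orderOf_iff hu hk).1 (by
      rw [← huk]
      have := (MulAut.conj c).orderOf_eq g
      rw [MulAut.conj_apply] at this
      rwa [this])
    have hgc : IsConj g (u * k) := huk ▸ isConj_iff.2 ⟨c, rfl⟩
    have hgc' : IsConj g⁻¹ (u * k)⁻¹ := huk ▸ isConj_iff.2 ⟨c, by group⟩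
    have hu' : u ∈ pNe L5 := (mem_pNe L5).2 ⟨hu, hu1⟩
    obtain rfl := five_real L5 hP.e5 hP.K5 hu' hk ((hgc.symm.trans hr).trans hgc')
    refine ⟨1, ?_⟩
    rw [classFunction_isConj (isClassFunction_of_isIrr χ.2) hgc, mul_one,
      ((five_values hG hP hχ).1 u hu').1]
    norm_num
  have hdvd : orderOf g ∣ 9 := by
    have h := orderOf_dvd_natCard g
    rw [hG, show (10200960 : ℕ) = 2 ^ 7 * (5 * (7 * (11 * (23 * 9)))) by norm_num] at h
    have c2 : Nat.Coprime (orderOf g) (2 ^ 7) :=
      ((Nat.coprime_two_right).2 hodd).pow_right 7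
    have hc : ∀ p : ℕ, p.Prime → ¬ p ∣ orderOf g → Nat.Coprime (orderOf g) p := fun p hp hn =>
      (hp.coprime_iff_not_dvd.2 hn).symm
    exact (hc 23 (by norm_num) h23).dvd_of_dvd_mul_left
      ((hc 11 (by norm_num) h11).dvd_of_dvd_mul_left
        ((hc 7 (by norm_num) h7).dvd_of_dvd_mul_left
          ((hc 5 (by norm_num) h5).dvd_of_dvd_mul_left (c2.dvd_of_dvd_mul_left h))))
  by_cases hg1 : g = 1
  · refine ⟨11, ?_⟩
    rw [hg1, ← Blocks.charDegree_cast, show Cfsg.charDegree (χ : G → ℂ) = 22 from hχ]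
    norm_num
  · exact ⟨2, by rw [three_value_even hG hP hχ hg1 hdvd]; norm_num⟩

end CfsgLib.MTwentyThreeUnique
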