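import Cfsg.Agent.MTwentyThreeUnique.Pinned
import Cfsg.Agent.GaloisAverage.Basic

/-!
A simple group of order 10200960: the column of an element of order five, when the inertial index is
four and its centralizer has order fifteen.
-/

set_option autoImplicit false
set_option linter.style.haveILetI false
set_option linter.unusedSectionVars false

open Cfsg CfsgLib.Characters CfsgLib.DefectOne CfsgLib.BrauerOrderP
open scoped ComplexConjugate

namespace CfsgLib.MTwentyThreeUnique

universe u

variable {G : Type u} [Group G] [Fintype G]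

theorem card_pNe {p : ℕ} [Fact p.Prime] (L : Local p G) : (pNe L).card = p - 1 := by
  classical
  haveI := Fintype.ofFinite (L.P : Subgroup G)
  have h : (pNe L).card = ((Finset.univ : Finset (L.P : Subgroup G)).erase 1).card :=
    Finset.card_bij' (fun u hu => ⟨u, ((mem_pNe L).1 hu).1⟩) (fun v _ => (v : G))
      (fun u hu => Finset.mem_erase.2 ⟨fun e => ((mem_pNe L).1 hu).2 (congrArg Subtype.val e),
        Finset.mem_univ _⟩)
      (fun v hv => (mem_pNe L).2 ⟨v.2, fun e => (Finset.mem_erase.1 hv).1 (Subtype.ext e)⟩)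
      (fun u _ => rfl) fun v _ => rfl
  rw [h, Finset.card_erase_of_mem (Finset.mem_univ _), Finset.card_univ,
    ← Nat.card_eq_fintype_card, L.card_P]

variable [Fact (Nat.Prime 5)] (L : Local 5 G)

/-- All non-trivial elements of `P` are conjugate. -/
theorem isConj_of_full (he : e L = 4) {u v : G} (hu : u ∈ pNe L) (hv : v ∈ pNe L) :
    IsConj u v := by
  classical
  obtain ⟨hu', hu1⟩ := (mem_pNe L).1 hu
  set C := Subgroup.centralizer ({u} : Set G) with hC
  have hCN : C ≤ L.N := by
    rw [hC, L.centralizer_singleton hu' hu1]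
    exact Subgroup.centralizer_le_normalizer _
  have hidx : (C.subgroupOf L.N).index = 4 := by
    have h1 := Subgroup.index_mul_card (C.subgroupOf L.N)
    rw [Nat.card_congr (Subgroup.subgroupOfEquivOfLe hCN).toEquiv, hC,
      L.centralizer_singleton hu' hu1, L.card_centralizer, ← card_N L, he] at h1
    rw [hC, L.centralizer_singleton hu' hu1]
    exact Nat.eq_of_mul_eq_mul_right (mul_pos (by norm_num) (Nat.card_pos (α := L.K))) h1
  haveI := Fintype.ofFinite (L.N ⧸ C.subgroupOf L.N)
  let φ : L.N ⧸ C.subgroupOf L.N → G := Quotient.lift (fun n : L.N => (n : G) * u * (n : G)⁻¹)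
    fun a b h => by
      have hm : a⁻¹ * b ∈ C.subgroupOf L.N := QuotientGroup.leftRel_apply.1 h
      rw [Subgroup.mem_subgroupOf, hC, Subgroup.mem_centralizer_singleton_iff] at hm
      simp only [Subgroup.coe_mul, InvMemClass.coe_inv] at hm
      have h2 : (b : G) * u * (b : G)⁻¹ = (a : G) * ((a : G)⁻¹ * b * u) * (b : G)⁻¹ := by group
      rw [h2, hm]
      group
  have hinj : Function.Injective φ := by
    intro x y
    induction x using Quotient.inductionOn with
    | _ a =>
      induction y using Quotient.inductionOn with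
      | _ b =>
        intro h
        refine Quotient.sound (QuotientGroup.leftRel_apply.2 ?_)
        rw [Subgroup.mem_subgroupOf, hC, Subgroup.mem_centralizer_singleton_iff]
        simp only [Subgroup.coe_mul, InvMemClass.coe_inv]
        have h' : (a : G) * u * (a : G)⁻¹ = b * u * (b : G)⁻¹ := h
        calc (a : G)⁻¹ * b * u = (a : G)⁻¹ * ((b : G) * u * (b : G)⁻¹) * b := by group
          _ = (a : G)⁻¹ * ((a : G) * u * (a : G)⁻¹) * b := by rw [h']
          _ = u * ((a : G)⁻¹ * b) := by group
  have hsub : Finset.univ.image φ ⊆ pNe L := fun x hx => by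
    obtain ⟨q, -, rfl⟩ := Finset.mem_image.1 hx
    induction q using Quotient.inductionOn with
    | _ n => exact (mem_pNe L).2 ⟨L.conj_mem_P n.2 hu', fun h => hu1 (conj_eq_one_iff.1 h)⟩
  have heq : Finset.univ.image φ = pNe L := Finset.eq_of_subset_of_card_le hsub (by
    rw [Finset.card_image_of_injective _ hinj, Finset.card_univ, card_pNe L,
      ← Nat.card_eq_fintype_card, ← Subgroup.index_eq_card, hidx])
  rw [← heq, Finset.mem_image] at hv
  obtain ⟨q, -, rfl⟩ := hv
  induction q using Quotient.inductionOn with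
  | _ n => exact isConj_iff.2 ⟨n, rfl⟩

/-- The column of an element of order five. -/
theorem exists_column (he : e L = 4) (hK : Nat.card L.K = 3) :
    ∃ Y : IrrCharacter G → ℤ, (∀ χ, ((deg χ : ℤ) - Y χ) % 5 = 0) ∧
      ∑ χ, (deg χ : ℤ) * Y χ = 0 ∧ ∑ χ, Y χ * Y χ = 15 ∧
      ∀ χ : IrrCharacter G, ∀ u ∈ pNe L, (χ : G → ℂ) u = (Y χ : ℂ) := by
  classical
  haveI := Fintype.ofFinite (L.P : Subgroup G)
  obtain ⟨u0, hu0'⟩ := exists_mem_ne_one L
  have hu01 : (u0 : G) ≠ 1 := fun e => hu0' (Subtype.ext e)
  have hu : (u0 : G) ∈ pNe L := (mem_pNe L).2 ⟨u0.2, hu01⟩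
  have hY : ∀ χ : IrrCharacter G, ∃ y : ℤ, (χ : G → ℂ) (u0 : G) = y ∧
      ((deg χ : ℤ) - y) % 5 = 0 := by
    intro χ
    obtain ⟨m, hm⟩ := classInner_characters (isCharacter_restrict (L.P : Subgroup G)
      (isCharacter_of_isIrr χ.2)) (isCharacter_of_isIrr (isIrr_one (G := (L.P : Subgroup G))))
    rw [Cfsg.classInner] at hm
    simp only [map_one, mul_one, L.card_P] at hm
    have hsum : ∑ x : (L.P : Subgroup G), (χ : G → ℂ) x = (deg χ : ℂ) + 4 * (χ : G → ℂ) (u0 : G) := by
      rw [← Finset.add_sum_erase _ _ (Finset.mem_univ (1 : (L.P : Subgroup G))), OneMemClass.coe_one,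
        ← Blocks.charDegree_cast]
      congr 1
      rw [Finset.sum_congr rfl (g := fun _ => (χ : G → ℂ) (u0 : G)) fun x hx => ?_, Finset.sum_const,
        Finset.card_erase_of_mem (Finset.mem_univ _), Finset.card_univ, ← Nat.card_eq_fintype_card,
        L.card_P]
      · norm_num
      · have hxm : (x : G) ∈ pNe L :=
          (mem_pNe L).2 ⟨x.2, fun e => Finset.ne_of_mem_erase hx (Subtype.ext e)⟩
        obtain ⟨c, hc⟩ := isConj_iff.1 (isConj_of_full L he hu hxm)
        rw [← hc, isClassFunction_of_isIrr χ.2]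
    rw [hsum] at hm
    have hq : (χ : G → ℂ) (u0 : G) = ((((5 * m : ℕ) : ℚ) - deg χ) / 4 : ℚ) := by
      push_cast
      field_simp at hm
      push_cast at hm
      linear_combination (hm) / 4
    have hint : IsIntegral ℤ ((((((5 * m : ℕ) : ℚ) - deg χ) / 4 : ℚ)) : ℂ) :=
      hq ▸ character_isIntegral (isCharacter_of_isIrr χ.2) _
    obtain ⟨y, hy⟩ := GaloisAverage.exists_int_of_isIntegral_ratCast hint
    refine ⟨y, hq.trans hy, ?_⟩
    have h4 : (4 : ℂ) * y = 5 * m - deg χ := by
      rw [← hy]
      push_cast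
      ring
    have h4' : 4 * y = 5 * (m : ℤ) - deg χ := by exact_mod_cast h4
    omega
  choose Y hY1 hY2 using hY
  refine ⟨Y, hY2, ?_, ?_, fun χ v hv => ?_⟩
  · have hnc : ¬ IsConj (1 : G) (u0 : G) := fun h => hu01 (isConj_one_right.1 h)
    have h := sum_irr_mul_conj_of_not_isConj hnc
    simp only [hY1, map_intCast, ← Blocks.charDegree_cast] at h
    exact_mod_cast h
  · have h := sum_irr_mul_conj_of_isConj (IsConj.refl (u0 : G))
    rw [L.centralizer_singleton u0.2 hu01, L.card_centralizer, hK] at h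
    simp only [hY1, map_intCast] at h
    exact_mod_cast h
  · obtain ⟨c, hc⟩ := isConj_iff.1 (isConj_of_full L he hu hv)
    rw [← hc, isClassFunction_of_isIrr χ.2, hY1]

end CfsgLib.MTwentyThreeUnique
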