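import Cfsg.Agent.MTwentyThreeUnique.Orbits
import Cfsg.Agent.MTwentyThreeUnique.Profile
import Cfsg.Agent.Small.OrderTools
import Cfsg.Agent.Small.SylowInside

/-!
A simple group of order 10200960: first facts, and the actions of the complement in the centralizer
of a Sylow subgroup on cosets.
-/

set_option autoImplicit false
set_option linter.style.haveILetI false
set_option linter.unusedSectionVars false

open scoped Pointwise
open Cfsg CfsgLib.Characters CfsgLib.DefectOne
open scoped commutatorElement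

namespace CfsgLib.MTwentyThreeUnique

universe u

variable {G : Type u} [Group G] [Finite G]

section Cosets

variable {p : ℕ} [Fact p.Prime] (P : Sylow p G)

/-- A coset of `H` fixed by `P ≤ H` has a representative normalizing `P`. -/
theorem exists_normalizing_rep {H : Subgroup G} (hPH : (P : Subgroup G) ≤ H) {x : G ⧸ H}
    (hx : x ∈ MulAction.fixedPoints ↥(P : Subgroup G) (G ⧸ H)) :
    ∃ n ∈ Subgroup.normalizer ((P : Subgroup G) : Set G), x = (n : G ⧸ H) := by
  induction x using QuotientGroup.induction_on with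
  | _ g =>
    have hle : ((g⁻¹ • P : Sylow p G) : Subgroup G) ≤ H := by
      intro z hz
      rw [Sylow.coe_subgroup_smul, Subgroup.mem_pointwise_smul_iff_inv_smul_mem] at hz
      have hz' : g * z * g⁻¹ ∈ (P : Subgroup G) := by
        simpa [MulAut.smul_def, mul_assoc] using hz
      have h : ((g * z * g⁻¹ * g : G) : G ⧸ H) = (g : G ⧸ H) := hx ⟨_, hz'⟩
      rw [inv_mul_cancel_right, QuotientGroup.eq, mul_inv_rev, inv_mul_cancel_right] at h
      exact (Subgroup.inv_mem_iff H).1 h
    obtain ⟨h, hh⟩ := MulAction.exists_smul_eq H ((g⁻¹ • P).subtype hle) (P.subtype hPH)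
    rw [Sylow.smul_subtype] at hh
    have hfix : ((h : G) * g⁻¹) • P = P := by
      rw [mul_smul]
      exact Sylow.subtype_injective hh
    refine ⟨g * (h : G)⁻¹, ?_, ?_⟩
    · rw [← Subgroup.inv_mem_iff, mul_inv_rev, inv_inv]
      exact Sylow.smul_eq_iff_mem_normalizer.1 hfix
    · rw [QuotientGroup.eq, inv_mul_cancel_left]
      exact inv_mem h.2

theorem one_mem_fixedPoints {H : Subgroup G} (hPH : (P : Subgroup G) ≤ H) :
    ((1 : G) : G ⧸ H) ∈ MulAction.fixedPoints ↥(P : Subgroup G) (G ⧸ H) := fun u => by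
  show (((u : G) * 1 : G) : G ⧸ H) = ((1 : G) : G ⧸ H)
  rw [mul_one, QuotientGroup.eq, mul_one]
  exact inv_mem (hPH u.2)

theorem card_fixedPoints_eq_one {H : Subgroup G}
    (hNH : Subgroup.normalizer ((P : Subgroup G) : Set G) ≤ H) :
    Nat.card (MulAction.fixedPoints ↥(P : Subgroup G) (G ⧸ H)) = 1 := by
  have hPH : (P : Subgroup G) ≤ H := Subgroup.le_normalizer.trans hNH
  rw [Nat.card_eq_one_iff_unique]
  refine ⟨⟨fun a b => Subtype.ext ?_⟩, ⟨⟨_, one_mem_fixedPoints P hPH⟩⟩⟩
  obtain ⟨m, hm, hm'⟩ := exists_normalizing_rep P hPH a.2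
  obtain ⟨n, hn, hn'⟩ := exists_normalizing_rep P hPH b.2
  rw [hm', hn', QuotientGroup.eq]
  exact mul_mem (inv_mem (hNH hm)) (hNH hn)

theorem index_modEq_one {H : Subgroup G}
    (hNH : Subgroup.normalizer ((P : Subgroup G) : Set G) ≤ H) : H.index % p = 1 := by
  have h := P.2.card_modEq_card_fixedPoints (α := G ⧸ H)
  rw [card_fixedPoints_eq_one P hNH, ← Subgroup.index_eq_card] at h
  exact Eq.trans h (Nat.mod_eq_of_lt (Fact.out : p.Prime).one_lt)

end Cosets

section Order

variable [IsSimpleGroup G] (hG : Nat.card G = 10200960)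
include hG

theorem not_comm : ¬ IsMulCommutative G :=
  Small.not_comm_of_card hG (by
    intro h
    exact absurd (h.eq_one_or_self_of_dvd 2 (by norm_num)) (by norm_num))

theorem lt_index {H : Subgroup G} (hH : H ≠ ⊤) : 22 < H.index :=
  Small.lt_index_of_not_dvd (not_comm hG) hH (by rw [hG]; decide +kernel)

theorem perfect : commutator G = ⊤ := by
  rcases (inferInstance : (commutator G).Normal).eq_bot_or_eq_top with h | h
  · refine absurd (⟨⟨fun a b => ?_⟩⟩ : IsMulCommutative G) (not_comm hG)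
    have hab : ⁅a, b⁆ ∈ commutator G :=
      Subgroup.commutator_mem_commutator (Subgroup.mem_top a) (Subgroup.mem_top b)
    rw [h, Subgroup.mem_bot] at hab
    exact commutatorElement_eq_one_iff_mul_comm.1 hab
  · exact h

theorem pPrimeCore_bot {p : ℕ} (hp : p.Prime) (hd : p ∣ 10200960) :
    Cfsg.pPrimeCore p G = ⊥ := by
  refine eq_bot_iff.2 (sSup_le ?_)
  rintro N ⟨hN, hc⟩
  rcases hN.eq_bot_or_eq_top with h | h
  · exact h.le
  · rw [h, Subgroup.card_top, hG] at hc
    exact absurd hd (hp.coprime_iff_not_dvd.1 hc.symm)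

theorem normalizer_ne_top {H : Subgroup G} (h1 : H ≠ ⊥) (h2 : H ≠ ⊤) :
    Subgroup.normalizer (H : Set G) ≠ ⊤ := fun h =>
  ((Subgroup.normalizer_eq_top_iff.1 h).eq_bot_or_eq_top).elim h1 h2

theorem normalizer_ne_top_of_card {H : Subgroup G} (h1 : 1 < Nat.card H)
    (h2 : Nat.card H < 10200960) : Subgroup.normalizer (H : Set G) ≠ ⊤ := by
  refine normalizer_ne_top hG (fun h => ?_) fun h => ?_
  · rw [h, Subgroup.card_bot] at h1; exact lt_irrefl _ h1
  · rw [h, Subgroup.card_top, hG] at h2; exact lt_irrefl _ h2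

theorem exists_local' (p : ℕ) [Fact p.Prime] (hd : p ∣ 10200960) (hsq : ¬ p ^ 2 ∣ 10200960) :
    Nonempty (Local p G) := by
  obtain ⟨P⟩ : Nonempty (Sylow p G) := inferInstance
  obtain ⟨L, -⟩ := exists_local (G := G) (by rwa [hG]) (by rwa [hG]) P
  exact ⟨L⟩

variable {p : ℕ} [Fact p.Prime] (L : Local p G)

/-- A subgroup of `K` acting on the cosets of an overgroup of `N(P)`. -/
theorem exists_dvd_factorial {H : Subgroup G} (hH : H ≠ ⊤) (hNH : L.N ≤ H) :
    ∃ o, p * o + 1 = H.index ∧ Nat.card L.K ∣ o.factorial := by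
  have hPH : (L.P : Subgroup G) ≤ H := Subgroup.le_normalizer.trans hNH
  obtain ⟨o, h1, h2⟩ := exists_orbits_card_dvd (X := G ⧸ H) L.card_P L.K
    (fun u hu k hk => (L.commute hu hk).symm.symm) (fun k hk => L.not_dvd_orderOf hk)
    (fun k hk x hx => by
      obtain ⟨n, hn, rfl⟩ := exists_normalizing_rep L.P hPH hx
      show ((k * n : G) : G ⧸ H) = (n : G ⧸ H)
      rw [QuotientGroup.eq]
      exact mul_mem (inv_mem (mul_mem (hNH (Subgroup.centralizer_le_normalizer _
        (L.le_centralizer hk))) (hNH hn))) (hNH hn))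
    (fun k _ hk => Small.toPermHom_coset_injective hH (by
      ext x
      simpa using hk x))
  have h3 := card_fixedPoints_eq_one L.P hNH
  have h4 := Subgroup.index_eq_card H
  refine ⟨o, ?_, h2⟩
  rw [h4, ← h1]
  exact congrArg (p * o + ·) h3.symm

/-- Overgroups of `N(P)`. -/
theorem index_facts {H : Subgroup G} (hH : H ≠ ⊤) (hNH : L.N ≤ H) :
    H.index ∣ L.N.index ∧ H.index % p = 1 ∧ 22 < H.index ∧
      Nat.card L.K ∣ ((H.index - 1) / p).factorial := by
  refine ⟨Subgroup.index_dvd_of_le hNH, index_modEq_one L.P hNH, lt_index hG hH, ?_⟩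
  obtain ⟨o, h1, h2⟩ := exists_dvd_factorial hG L hH hNH
  rw [← h1, Nat.add_sub_cancel, Nat.mul_div_cancel_left _ (Fact.out : p.Prime).pos]
  exact h2

end Order

end CfsgLib.MTwentyThreeUnique
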