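import Cfsg.Agent.MTwentyThreeUnique.LocalFinish

/-!
A simple group of order 10200960: the degrees modulo 23, and what they say about the other primes.
-/

set_option autoImplicit false
set_option linter.style.haveILetI false
set_option linter.unusedSectionVars false

open Cfsg CfsgLib.Characters CfsgLib.DefectOne CfsgLib.BrauerOrderP

namespace CfsgLib.MTwentyThreeUnique

universe u

/-- The sum of the values on the non-trivial elements of a Sylow 23-subgroup, by the degree. -/
def s23 (d : ℕ) : ℤ :=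
  if d % 23 = 0 then 0 else if cres 23 d then csign 23 d else esign 23 11 d

/-- The residues of degrees modulo 23. -/
def okTwentyThree (d : ℕ) : Bool :=
  d % 23 == 0 || d % 23 == 1 || d % 23 == 22 || d % 23 == 11 || d % 23 == 12

/-- The residues of the exceptional degrees at 23. -/
def isExc (d : ℕ) : Bool := d % 23 == 11 || d % 23 == 12

/-- At most two exceptional degrees at 23, and these equal. -/
def xsOk (l : List ℕ) : Bool :=
  (l.filter isExc).dedup.length ≤ 1

variable {G : Type u} [Group G] [Fintype G]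

/-- Shared prime divisors of centralizer complements. -/
theorem dvd_K_of_dvd_K {p q : ℕ} [Fact p.Prime] [Fact q.Prime] (Lp : Local p G) (Lq : Local q G)
    (hpq : p ≠ q) (h : q ∣ Nat.card Lp.K) : p ∣ Nat.card Lq.K := by
  obtain ⟨⟨k, hk⟩, hko⟩ := exists_prime_orderOf_dvd_card' (G := Lp.K) q h
  have hk' : orderOf k = q := by rw [← hko, ← Subgroup.orderOf_coe]
  obtain ⟨u, hu⟩ := exists_mem_ne_one Lp
  have hu1 : (u : G) ≠ 1 := fun e => hu (Subtype.ext e)
  obtain ⟨c, hc⟩ := Lq.exists_conj_centralizer (g := k) (by rw [hk'])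
  have hne : c * k * c⁻¹ ≠ 1 := fun e => by
    rw [conj_eq_one_iff.1 e, orderOf_one] at hk'
    exact (Fact.out : q.Prime).ne_one hk'.symm
  have hqo : orderOf (c * k * c⁻¹) = q := by
    have := (MulAut.conj c).orderOf_eq k
    rwa [MulAut.conj_apply, hk'] at this
  obtain ⟨v, hv, k', hk'm, he⟩ := Lq.decomp _ hc
  have hk1 : k' = 1 := by
    have h1 : (c * k * c⁻¹) ^ q = 1 := by rw [← hqo]; exact pow_orderOf_eq_one _
    rw [he, (Lq.commute hv hk'm).mul_pow, Lq.pow_p hv, one_mul] at h1
    rcases (Nat.dvd_prime (Fact.out : q.Prime)).1 (orderOf_dvd_of_pow_eq_one h1) with h2 | h2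
    · exact orderOf_eq_one_iff.1 h2
    · exact absurd (h2 ▸ dvd_rfl) (Lq.not_dvd_orderOf hk'm)
  rw [hk1, mul_one] at he
  have hcu : c * (u : G) * c⁻¹ ∈ Subgroup.centralizer ((Lq.P : Subgroup G) : Set G) := by
    rw [← Lq.centralizer_singleton hv (he ▸ hne), ← he, Subgroup.mem_centralizer_singleton_iff]
    exact ((Lp.commute u.2 hk).map (MulAut.conj c).toMonoidHom).eq
  have huo : orderOf (c * (u : G) * c⁻¹) = p := by
    have := (MulAut.conj c).orderOf_eq (u : G)
    rwa [MulAut.conj_apply, Lp.orderOf_of_mem u.2 hu1] at this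
  have hmem := Lq.mem_K _ hcu (by
    rw [huo]; exact fun h => hpq ((Nat.prime_dvd_prime_iff_eq Fact.out Fact.out).1 h).symm)
  exact huo ▸ Subgroup.orderOf_dvd_natCard Lq.K hmem

variable [IsSimpleGroup G] (hG : Nat.card G = 10200960) [Fact (Nat.Prime 23)] (L : Local 23 G)
include hG

theorem K_eq_bot23 : L.K = ⊥ := (local_twenty_three hG L).2.2

theorem e_eq23 : e L = 11 := (local_twenty_three hG L).2.1

theorem res_mod (χ : IrrCharacter G) :
    okTwentyThree (deg χ) = true ∧ (χ ∈ blk L → sv L χ = s23 (deg χ)) ∧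
      (χ ∉ blk L → 23 ∣ deg χ) := by
  by_cases h : χ ∈ blk L
  · obtain ⟨S⟩ := exists_shape L (by norm_num)
    rw [S.blk_eq, Finset.mem_insert, Finset.mem_union] at h
    have hin : χ ∈ blk L := by rwa [S.blk_eq, Finset.mem_insert, Finset.mem_union]
    refine ⟨?_, fun _ => ?_, fun h' => absurd hin h'⟩
    · rcases h with h | h | h
      · rw [h, deg_one S.one_eq]; rfl
      · have := S.res_C χ h
        simp only [cres, Bool.or_eq_true, beq_iff_eq] at this
        simp only [okTwentyThree, Bool.or_eq_true, beq_iff_eq]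
        omega
      · have := S.res_E χ h
        rw [e_eq23 hG L] at this
        simp only [eres, Bool.or_eq_true, beq_iff_eq] at this
        simp only [okTwentyThree, Bool.or_eq_true, beq_iff_eq]
        omega
    · rcases h with h | h | h
      · rw [h, S.sv_one, deg_one S.one_eq]; rfl
      · rw [S.sv_C χ h, s23]
        have := S.res_C χ h
        have h0 : deg χ % 23 ≠ 0 := by
          simp only [cres, Bool.or_eq_true, beq_iff_eq] at this
          omega
        rw [if_neg h0, if_pos this]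
      · rw [S.sv_E χ h, e_eq23 hG L, s23]
        have := S.res_E χ h
        rw [e_eq23 hG L] at this
        simp only [eres, Bool.or_eq_true, beq_iff_eq] at this
        have h0 : deg χ % 23 ≠ 0 := by omega
        have h1 : ¬ (cres 23 (deg χ) = true) := by
          simp only [cres, Bool.or_eq_true, beq_iff_eq]
          omega
        rw [if_neg h0, if_neg h1]
  · have h1 := dvd_degree_out L (K_eq_bot23 hG L) h
    refine ⟨?_, fun h' => absurd h' h, fun _ => h1⟩
    simp [okTwentyThree, Nat.mod_eq_zero_of_dvd h1]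

theorem sum_values_eq (χ : IrrCharacter G) :
    ∑ u ∈ pNe L, (χ : G → ℂ) u = (s23 (deg χ) : ℂ) := by
  classical
  haveI := L.finite_lam
  letI := Fintype.ofFinite L.Lam
  obtain ⟨-, h1, h2⟩ := res_mod hG L χ
  by_cases h : χ ∈ blk L
  · rw [sum_values L h, h1 h]
  · rw [s23, if_pos (Nat.mod_eq_zero_of_dvd (h2 h)), Int.cast_zero]
    refine Finset.sum_eq_zero fun u hu => ?_
    exact value_out L (K_eq_bot23 hG L) (u := ⟨u, ((mem_pNe L).1 hu).1⟩)
      (fun hh => h ((mem_blk L).2 hh)) fun e => ((mem_pNe L).1 hu).2 (congrArg Subtype.val e)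

/-- The exceptional degrees at 23 are equal. -/
theorem exc_deg_eq {χ ψ : IrrCharacter G} (hχ : isExc (deg χ) = true) (hψ : isExc (deg ψ) = true) :
    deg χ = deg ψ := by
  obtain ⟨L⟩ := exists_local' hG 23 (by norm_num) (by norm_num)
  obtain ⟨S⟩ := exists_shape L (by norm_num)
  have key : ∀ χ : IrrCharacter G, isExc (deg χ) = true → χ ∈ S.E := by
    intro χ hχ
    simp only [isExc, Bool.or_eq_true, beq_iff_eq] at hχ
    have hin : χ ∈ blk L := by
      by_contra h
      have := Nat.mod_eq_zero_of_dvd ((res_mod hG L χ).2.2 h)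
      omega
    rw [S.blk_eq, Finset.mem_insert, Finset.mem_union] at hin
    rcases hin with h | h | h
    · rw [h, deg_one S.one_eq] at hχ
      omega
    · have := S.res_C χ h
      simp only [cres, Bool.or_eq_true, beq_iff_eq] at this
      omega
    · exact h
  rw [S.deg_E χ (key χ hχ), S.deg_E ψ (key ψ hψ)]

theorem xsOk_of {l : List ℕ} (hl : ∀ d ∈ l, ∃ χ : IrrCharacter G, deg χ = d) : xsOk l = true := by
  rw [xsOk, decide_eq_true_eq]
  by_contra hc
  push Not at hc
  have hnd := List.nodup_dedup (l.filter isExc)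
  rcases h : (l.filter isExc).dedup with _ | ⟨a, _ | ⟨b, t⟩⟩
  · simp [h] at hc
  · simp [h] at hc
  have key : ∀ d ∈ (l.filter isExc).dedup, ∃ χ : IrrCharacter G, deg χ = d ∧ isExc d = true := by
    intro d hd
    obtain ⟨h1, h2⟩ := List.mem_filter.1 (List.mem_dedup.1 hd)
    obtain ⟨χ, hχ⟩ := hl d h1
    exact ⟨χ, hχ, h2⟩
  obtain ⟨χ, rfl, h1⟩ := key a (by simp [h])
  obtain ⟨ψ, rfl, h2⟩ := key b (by simp [h])
  rw [h, exc_deg_eq hG h1 h2] at hnd
  simp at hnd

variable {p : ℕ} [Fact p.Prime] (Lp : Local p G)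

/-- The orthogonality of a block with a non-trivial element of order 23. -/
theorem orth_twenty_three (hp : p ≠ 23) (S : Shape Lp) :
    ((p : ℤ) - 1) * 22 + ∑ χ ∈ S.C, csign p (deg χ) * s23 (deg χ) +
      (excCount p (e Lp) : ℤ) * (esign p (e Lp) S.y * s23 S.y) = 0 := by
  obtain ⟨L⟩ := exists_local' hG 23 (by norm_num) (by norm_num)
  have key : ∀ u ∈ pNe L, ∑ χ ∈ blk Lp, (χ : G → ℂ) u * (sv Lp χ : ℂ) = 0 := fun u hu => by
    refine orth Lp u (not_isConj_of_regular Lp ?_)
    obtain ⟨h1, h2⟩ := (mem_pNe L).1 hu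
    rw [L.orderOf_of_mem h1 h2]
    exact fun h => hp ((Nat.prime_dvd_prime_iff_eq Fact.out (by norm_num)).1 h)
  have h : ∑ χ ∈ blk Lp, (s23 (deg χ) : ℂ) * (sv Lp χ : ℂ) = 0 := by
    rw [← Finset.sum_eq_zero key, Finset.sum_comm]
    exact Finset.sum_congr rfl fun χ _ => by rw [← sum_values_eq hG L χ, Finset.sum_mul]
  have h' : ∑ χ ∈ blk Lp, s23 (deg χ) * sv Lp χ = 0 := by exact_mod_cast h
  rw [S.sum_blk_deg (fun d s => s23 d * s), nsmul_eq_mul] at h'
  rw [← h', show s23 1 = 22 from rfl, Finset.sum_congr rfl fun χ _ =>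
    mul_comm (s23 (deg χ)) (csign p (deg χ))]
  ring

/-- No 23 in a centralizer of an element of another prime order. -/
theorem not_dvd_K23 (hp : p ≠ 23) : ¬ 23 ∣ Nat.card Lp.K := fun h => by
  obtain ⟨L⟩ := exists_local' hG 23 (by norm_num) (by norm_num)
  have := dvd_K_of_dvd_K Lp L hp h
  rw [K_eq_bot23 hG L, Subgroup.card_bot, Nat.dvd_one] at this
  exact (Fact.out : p.Prime).ne_one this

theorem dvd_index23 (hp : p < 23) : 23 ∣ Lp.N.index := by
  have h := order_factor Lp
  rw [hG] at h
  have he := e_lt Lp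
  have h23 : Nat.Prime 23 := by norm_num
  rcases (h23.dvd_mul).1 (h.symm ▸ (by norm_num : 23 ∣ 10200960)) with h1 | h1
  · exact h1
  exfalso
  rcases (h23.dvd_mul).1 h1 with h2 | h2
  · have := Nat.le_of_dvd (e_pos Lp) h2
    omega
  rcases (h23.dvd_mul).1 h2 with h3 | h3
  · have := Nat.le_of_dvd (Fact.out : p.Prime).pos h3
    omega
  exact not_dvd_K23 hG Lp (by omega) h3

end CfsgLib.MTwentyThreeUnique
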