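import Cfsg.Agent.MTwentyThreeUnique.Elements
import Cfsg.Agent.MTwelveUnique.Tools
import Cfsg.Agent.Small.SylowPrime
import Cfsg.Agent.GraphSimple.Eleven

/-!
A group of order 10200960 whose numbers of elements of given orders all occur in a simple group of
that order is simple.
-/

set_option autoImplicit false
set_option linter.style.haveILetI false
set_option linter.unusedSectionVars false

open scoped Pointwise
open Cfsg CfsgLib.DefectOne

namespace CfsgLib.MTwentyThreeUnique

open CfsgLib.MElevenUnique (Cg Ng Cs mem_Cg mem_Cs)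

universe u

section

variable {H : Type u} [Group H] [Finite H] [IsSimpleGroup H] (hH : Nat.card H = 10200960)
  (hnorm : ∃ σ : H, orderOf σ = 11 ∧
    Nat.card (Subgroup.normalizer (Subgroup.zpowers σ : Set H)) = 55)
include hH hnorm

/-- The centralizer of an element of order 11 or 23. -/
theorem card_Cg_prime {p : ℕ} (hp : p = 11 ∨ p = 23) {y : H} (hy : orderOf y = p) :
    Nat.card (Cg y) = p := by
  haveI := Fintype.ofFinite H
  haveI : Fact (Nat.Prime 11) := ⟨by norm_num⟩
  haveI : Fact (Nat.Prime 23) := ⟨by norm_num⟩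
  haveI : Fact p.Prime := ⟨by rcases hp with rfl | rfl <;> norm_num⟩
  have hy1 : y ≠ 1 := fun e => by
    rw [e, orderOf_one] at hy
    exact (Fact.out : p.Prime).one_lt.ne hy
  obtain ⟨Q, hQ⟩ := MTwelveUnique.exists_sylow_mem hy
  obtain ⟨L, rfl⟩ := exists_local (G := H) (p := p)
    (by rw [hH]; rcases hp with rfl | rfl <;> norm_num)
    (by rw [hH]; rcases hp with rfl | rfl <;> norm_num) Q
  have hK : Nat.card L.K = 1 := by
    rcases hp with rfl | rfl
    · obtain ⟨σ, hσ, hσN⟩ := hnorm
      have hfac : (Nat.card H).factorization 11 = 1 := L.factorization_card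
      have hc : Nat.card (Subgroup.zpowers σ) = 11 ^ (Nat.card H).factorization 11 := by
        rw [Nat.card_zpowers, hσ, hfac, pow_one]
      have h2 : (Subgroup.normalizer (Subgroup.zpowers σ : Set H)).index = L.N.index :=
        ((Sylow.ofCard (Subgroup.zpowers σ) hc).card_eq_index_normalizer).symm.trans
          L.P.card_eq_index_normalizer
      have h4 : Nat.card L.N = 55 := by
        rw [← hσN]
        exact Nat.eq_of_mul_eq_mul_left (Nat.pos_of_ne_zero Subgroup.index_ne_zero_of_finite)
          ((Subgroup.index_mul_card L.N).trans (h2 ▸ (Subgroup.index_mul_card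
            (Subgroup.normalizer (Subgroup.zpowers σ : Set H))).symm))
      rw [← BrauerOrderP.card_N L, e_eleven hH L] at h4
      omega
    · rw [K_eq_bot23 hH L, Subgroup.card_bot]
  rw [show Cg y = Subgroup.centralizer ((L.P : Subgroup H) : Set H) from
    L.centralizer_singleton hQ hy1, L.card_centralizer, hK, mul_one]

/-- Numbers of elements of a given order above one are multiples of 253, 443520 or 927360. -/
theorem exists_dvd_count {n : ℕ} (hn : n ≠ 1) :
    ∃ d ∈ ([253, 443520, 927360] : List ℕ), d ∣ Nat.card {g : H // orderOf g = n} := by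
  classical
  haveI := Fintype.ofFinite H
  obtain ⟨d, hd, hbound⟩ : ∃ d ∈ ([253, 443520, 927360] : List ℕ),
      ∀ a : H, orderOf a = n → d ∣ Nat.card {g : H // IsConj a g} := by
    by_cases h23 : n = 23
    · refine ⟨443520, by simp, fun a ha => dvd_of_eq ?_⟩
      have h := Small.card_conjugates_mul_card_centralizer a
      rw [show Nat.card (Subgroup.centralizer ({a} : Set H)) = 23 from
        card_Cg_prime hH hnorm (Or.inr rfl) (ha.trans h23), hH] at h
      omega
    by_cases h11 : n = 11
    · refine ⟨927360, by simp, fun a ha => dvd_of_eq ?_⟩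
      have h := Small.card_conjugates_mul_card_centralizer a
      rw [show Nat.card (Subgroup.centralizer ({a} : Set H)) = 11 from
        card_Cg_prime hH hnorm (Or.inl rfl) (ha.trans h11), hH] at h
      omega
    refine ⟨253, by simp, fun a ha => ?_⟩
    have hno : ∀ p : ℕ, (p = 11 ∨ p = 23) → n ≠ p →
        ¬ p ∣ Nat.card (Subgroup.centralizer ({a} : Set H)) := by
      intro p hp hne hd
      haveI : Fact p.Prime := ⟨by rcases hp with rfl | rfl <;> norm_num⟩
      obtain ⟨⟨y, hy⟩, hyo⟩ := exists_prime_orderOf_dvd_card'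
        (G := Subgroup.centralizer ({a} : Set H)) p hd
      rw [← Subgroup.orderOf_coe] at hyo
      have hmem : a ∈ Cg y := mem_Cg.2 (Subgroup.mem_centralizer_singleton_iff.1 hy).symm
      have hdvd := Subgroup.orderOf_dvd_natCard _ hmem
      rw [card_Cg_prime hH hnorm hp hyo, ha] at hdvd
      rcases (Nat.dvd_prime (Fact.out : p.Prime)).1 hdvd with h | h
      · exact hn h
      · exact hne h
    have h := Small.card_conjugates_mul_card_centralizer a
    rw [hH] at h
    have hdvd : 253 ∣ Nat.card {g : H // IsConj a g} *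
        Nat.card (Subgroup.centralizer ({a} : Set H)) := by
      rw [h]; norm_num
    refine (Nat.Coprime.dvd_of_dvd_mul_right ?_ hdvd)
    rw [show 253 = 11 * 23 by norm_num]
    exact Nat.Coprime.mul_left
      ((by norm_num : Nat.Prime 11).coprime_iff_not_dvd.2 (hno 11 (Or.inl rfl) h11))
      ((by norm_num : Nat.Prime 23).coprime_iff_not_dvd.2 (hno 23 (Or.inr rfl) h23))
  refine ⟨d, hd, ?_⟩
  rw [Nat.card_eq_fintype_card, Fintype.card_subtype,
    Finset.card_eq_sum_card_image (fun a => ConjClasses.mk a)]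
  refine Finset.dvd_sum fun c hc => ?_
  obtain ⟨a, ha, rfl⟩ := Finset.mem_image.1 hc
  have ha' : orderOf a = n := (Finset.mem_filter.1 ha).2
  refine (hbound a ha').trans (dvd_of_eq ?_)
  rw [Nat.card_eq_fintype_card, Fintype.card_subtype]
  congr 1
  ext b
  simp only [Finset.mem_filter, Finset.mem_univ, true_and, ConjClasses.mk_eq_mk_iff_isConj]
  refine ⟨fun h => ⟨?_, h.symm⟩, fun h => h.2.symm⟩
  obtain ⟨c, rfl⟩ := isConj_iff.1 h
  rw [← ha', MTwelveUnique.orderOf_conj']

/-- Only 887040 is a possible number of elements of order 23. -/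
theorem count_eq {m n : ℕ} (hc : m * 22 = Nat.card {g : H // orderOf g = n}) (hm : m ∣ 443520)
    (hm1 : m % 23 = 1) : m = 40320 := by
  have hm0 : 0 < m := Nat.pos_of_dvd_of_pos hm (by norm_num)
  have hn : n ≠ 1 := by
    rintro rfl
    have : Nat.card {g : H // orderOf g = 1} = 1 := by
      rw [Nat.card_eq_one_iff_unique]
      exact ⟨⟨fun a b => Subtype.ext ((orderOf_eq_one_iff.1 a.2).trans
        (orderOf_eq_one_iff.1 b.2).symm)⟩, ⟨⟨1, orderOf_one⟩⟩⟩
    omega
  obtain ⟨d, hd, hdvd⟩ := exists_dvd_count hH hnorm hn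
  rw [← hc] at hdvd
  simp only [List.mem_cons, List.not_mem_nil, or_false] at hd
  rcases hd with rfl | rfl | rfl
  · omega
  · have h20160 : 20160 ∣ m := by
      obtain ⟨t, ht⟩ := hdvd
      exact ⟨t, by omega⟩
    obtain ⟨t, rfl⟩ := h20160
    obtain ⟨s, hs⟩ := hm
    have ht : t ≤ 22 := by
      have := Nat.le_of_dvd (by norm_num) (⟨s, hs⟩ : 20160 * t ∣ 443520)
      omega
    omega
  · omega

end

section

variable {G : Type*} [Group G] [Finite G]

/-- The order and the numbers of elements of given orders force simplicity. -/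
theorem isSimpleGroup_of_counts (hG : Nat.card G = 10200960) {H : Type u} [Group H] [Finite H]
    [IsSimpleGroup H] (hH : Nat.card H = 10200960)
    (hnorm : ∃ σ : H, orderOf σ = 11 ∧
      Nat.card (Subgroup.normalizer (Subgroup.zpowers σ : Set H)) = 55)
    (hsub : ∀ c, 0 < c → (∃ n : ℕ, c = Nat.card {g : G // orderOf g = n}) →
      ∃ n : ℕ, c = Nat.card {g : H // orderOf g = n}) :
    IsSimpleGroup G := by
  haveI : Fact (Nat.Prime 23) := ⟨by norm_num⟩
  haveI := Fact.mk Nat.prime_two
  have hcardP : ∀ Q : Sylow 23 G, Nat.card (Q : Subgroup G) = 23 := fun Q =>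
    card_sylow_of_sq_not_dvd (by rw [hG]; norm_num) (by rw [hG]; norm_num) Q
  have hdvdG : ∀ M : Subgroup G, Nat.card M ∣ 10200960 := fun M =>
    hG ▸ Subgroup.card_subgroup_dvd_card M
  obtain ⟨P⟩ : Nonempty (Sylow 23 G) := inferInstance
  have hP := hcardP P
  have hn := Small.card_sylow_mul_card_normalizer P
  rw [hG] at hn
  change Nat.card (Sylow 23 G) * Nat.card (Ng (P : Subgroup G)) = _ at hn
  have hdiv : Nat.card (Sylow 23 G) ∣ 443520 := by
    have h1 : Nat.card (Sylow 23 G) ∣ (P : Subgroup G).index := P.card_dvd_index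
    have h2 := (P : Subgroup G).index_mul_card
    rw [hG, hP] at h2
    rwa [show (P : Subgroup G).index = 443520 by omega] at h1
  have hnum : Nat.card (Sylow 23 G) = 40320 := by
    have hm := Small.card_orderOf_eq_prime (p := 23) hcardP
    have hpos : 0 < Nat.card (Sylow 23 G) * (23 - 1) := by
      have := Nat.card_pos (α := Sylow 23 G); omega
    obtain ⟨n, hcn⟩ := hsub _ hpos ⟨23, hm.symm⟩
    exact count_eq hH hnorm hcn hdiv (card_sylow_modEq_one 23 G)
  rw [hnum] at hn
  have hN : Nat.card (Ng (P : Subgroup G)) = 253 := by omega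
  have hPN : (P : Subgroup G) ≤ Ng (P : Subgroup G) := Subgroup.le_normalizer
  have hCd : Nat.card (Cs (P : Subgroup G)) ∣ 253 :=
    hN ▸ Subgroup.card_dvd_of_le (MElevenUnique.Cs_le_Ng _)
  -- no 2-group of order 128 is centralised by `P`
  have h128 : ∀ M : Subgroup G, (P : Subgroup G) ≤ Ng M → ¬ 23 ∣ Nat.card M → 2 ^ 7 ∣ Nat.card M →
      False := by
    intro M hPM h23 h2
    obtain ⟨R, -, hR, -, hRC⟩ := MTwelveUnique.exists_centralised_sylow (q := 2) (b := 7) hP hPM h23 h2
      (fun h => by
        have := h.trans (hdvdG M)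
        norm_num at this)
      (by
        have key : ∀ d ∈ Nat.divisors (2 ^ 7), d % 23 = 2 ^ 7 % 23 → d = 2 ^ 7 := by decide +kernel
        exact fun d hd => key d (Nat.mem_divisors.2 ⟨hd, by norm_num⟩))
    have h := (hR ▸ Subgroup.card_dvd_of_le hRC).trans hCd
    norm_num at h
  have hC : Nat.card (Cs (P : Subgroup G)) = 23 := by
    have h23 : 23 ∣ Nat.card (Cs (P : Subgroup G)) := by
      have h := Subgroup.card_dvd_of_le (GraphSimple.le_centralizer_of_cyclic_prime hP)
      rwa [hP] at h
    have key : ∀ d ∈ Nat.divisors 253, 23 ∣ d → d ≠ 253 → d = 23 := by decide +kernel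
    refine key _ (Nat.mem_divisors.2 ⟨hCd, by norm_num⟩) h23 fun he => ?_
    have hle : (⊤ : Subgroup G) ⊓ Ng (P : Subgroup G) ≤ Cs (P : Subgroup G) := inf_le_right.trans
      (Subgroup.eq_of_le_of_card_ge (MElevenUnique.Cs_le_Ng _) (by rw [he, hN])).ge
    obtain ⟨M, -, hM, hMc, hM23, -⟩ := MTwelveUnique.exists_complement (p := 23) (a := 1)
      (le_top (a := (P : Subgroup G))) (by rw [hP, pow_one])
      (by rw [Subgroup.card_top, hG]; norm_num) hle
    rw [Subgroup.card_top, hG] at hMc
    exact h128 M (le_top.trans hM) hM23 (by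
      rw [show Nat.card M = 443520 by omega]; norm_num)
  haveI : Nontrivial G := Finite.one_lt_card_iff_nontrivial.1 (by omega)
  refine ⟨fun K hK => ?_⟩
  by_cases h23 : 23 ∣ Nat.card K
  · right
    have hPK : (P : Subgroup G) ≤ K := by
      obtain ⟨y, hyK, hy⟩ := Small.Fusion.exists_orderOf (H := K) (show Nat.Prime 23 by norm_num) h23
      obtain ⟨Q, hQ⟩ := MTwelveUnique.exists_sylow_mem hy
      obtain ⟨g, rfl⟩ := MulAction.exists_smul_eq G Q P
      have hQy : (Q : Subgroup G) = Subgroup.zpowers y :=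
        (Small.eq_zpowers_of_mem_prime (p := 23) (hcardP Q) hQ
          (fun e => by rw [e, orderOf_one] at hy; norm_num at hy)).symm
      intro a ha
      obtain ⟨b, hb, rfl⟩ := Subgroup.mem_map.1 ha
      rw [hQy] at hb
      exact hK.conj_mem b (Subgroup.zpowers_le.2 hyK hb) g
    have hrel : K.relIndex (Ng (P : Subgroup G)) = K.index := by
      have hsup : Ng (P : Subgroup G) ⊔ K = ⊤ := Sylow.normalizer_sup_eq_top' P hPK
      rw [← Subgroup.relIndex_sup_right, hsup, Subgroup.relIndex_top_right]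
    have h1 := GraphSimple.relIndex_mul_card (inf_le_right : K ⊓ Ng (P : Subgroup G) ≤ _)
    rw [Subgroup.inf_relIndex_right, hrel, hN] at h1
    have h2 := K.index_mul_card
    rw [hG] at h2
    have hPi : 23 ∣ Nat.card ↥(K ⊓ Ng (P : Subgroup G)) := by
      have h := Subgroup.card_dvd_of_le (le_inf hPK hPN)
      rwa [hP] at h
    obtain ⟨c, hc⟩ := hPi
    rw [hc] at h1
    have hi : K.index * c = 11 := by
      have : K.index * c * 23 = 253 := by rw [← h1]; ring
      omega
    rcases (Nat.dvd_prime (by norm_num : Nat.Prime 11)).1 (⟨c, hi.symm⟩ : K.index ∣ 11) with h | h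
    · exact Subgroup.index_eq_one.1 h
    exfalso
    rw [h] at h2 hi
    have hKi : Nat.card ↥(K ⊓ Ng (P : Subgroup G)) = 23 := by rw [hc]; omega
    have hle : K ⊓ Ng (P : Subgroup G) ≤ Cs (P : Subgroup G) :=
      (Subgroup.eq_of_le_of_card_ge (le_inf hPK hPN) (by rw [hKi, hP])).ge.trans
        (GraphSimple.le_centralizer_of_cyclic_prime hP)
    have hKc : Nat.card K = 927360 := by omega
    obtain ⟨M, -, hM, hMc, hM23, -⟩ := MTwelveUnique.exists_complement (p := 23) (a := 1) hPK
      (by rw [hP, pow_one]) (by rw [hKc]; norm_num) hle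
    rw [hKc] at hMc
    exact h128 M (hPK.trans hM) hM23 (by rw [show Nat.card M = 40320 by omega]; norm_num)
  · left
    rw [← Subgroup.card_eq_one]
    by_contra hne
    obtain ⟨q, hq, hqK⟩ := Nat.exists_prime_and_dvd hne
    haveI := Fact.mk hq
    have hKd : Nat.card K ∣ 10200960 := hdvdG K
    have hPK' : (P : Subgroup G) ≤ Ng K := by
      rw [show Ng K = ⊤ from Subgroup.normalizer_eq_top K]; exact le_top
    set b := (Nat.card K).factorization q
    have hb : q ^ b ∣ Nat.card K := Nat.ordProj_dvd _ _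
    have hb' : ¬ q ^ (b + 1) ∣ Nat.card K :=
      Nat.pow_succ_factorization_not_dvd Nat.card_pos.ne' hq
    have hb0 : b ≠ 0 := fun e => hb' (by rw [e, zero_add, pow_one]; exact hqK)
    have hcop : Nat.Coprime (q ^ b) 23 :=
      ((by norm_num : Nat.Prime 23).coprime_iff_not_dvd.2 fun h => h23 (h.trans hb)).symm
    have hb44 : q ^ b ∣ 443520 := hcop.dvd_of_dvd_mul_left
      (m := 23) (n := 443520) (by simpa using hb.trans hKd)
    have hcases : ∀ P : ℕ, P ∈ [2 ^ 7, 9, 5, 7, 11] → q ^ b ∣ P →
        ∀ d, d ∣ q ^ b → d % 23 = q ^ b % 23 → d = q ^ b := by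
      intro P hP' hqb d hd hmod
      have key : ∀ P ∈ [2 ^ 7, 9, 5, 7, 11], ∀ e ∈ Nat.divisors P, ∀ d ∈ Nat.divisors e,
          d % 23 = e % 23 → d = e := by decide +kernel
      have hP0 : P ≠ 0 := by intro e; simp [e] at hP'
      have he0 : q ^ b ≠ 0 := pow_ne_zero _ hq.ne_zero
      exact key P hP' _ (Nat.mem_divisors.2 ⟨hqb, hP0⟩) d (Nat.mem_divisors.2 ⟨hd, he0⟩) hmod
    have hprime : ∀ P m : ℕ, P * m = 443520 → ¬ q ∣ m → q ^ b ∣ P := fun P m hPm hm =>
      (((hq.coprime_iff_not_dvd).2 hm).pow_left b).dvd_of_dvd_mul_right (hPm ▸ hb44)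
    have hq443 : q ∣ 2 ^ 7 * (3 ^ 2 * (5 * (7 * 11))) :=
      ((dvd_pow_self q hb0).trans hb44).trans (by norm_num)
    have hmod : ∀ d, d ∣ q ^ b → d % 23 = q ^ b % 23 → d = q ^ b := by
      rcases hq.dvd_mul.1 hq443 with h | h
      · obtain rfl := (Nat.prime_dvd_prime_iff_eq hq Nat.prime_two).1 (hq.dvd_of_dvd_pow h)
        exact hcases (2 ^ 7) (by simp) (hprime _ 3465 (by norm_num) (by norm_num))
      rcases hq.dvd_mul.1 h with h | h
      · obtain rfl := (Nat.prime_dvd_prime_iff_eq hq Nat.prime_three).1 (hq.dvd_of_dvd_pow h)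
        exact hcases 9 (by simp) (hprime _ 49280 (by norm_num) (by norm_num))
      rcases hq.dvd_mul.1 h with h | h
      · obtain rfl := (Nat.prime_dvd_prime_iff_eq hq Nat.prime_five).1 h
        exact hcases 5 (by simp) (hprime _ 88704 (by norm_num) (by norm_num))
      rcases hq.dvd_mul.1 h with h | h
      · obtain rfl := (Nat.prime_dvd_prime_iff_eq hq (by norm_num : Nat.Prime 7)).1 h
        exact hcases 7 (by simp) (hprime _ 63360 (by norm_num) (by norm_num))
      · obtain rfl := (Nat.prime_dvd_prime_iff_eq hq (by norm_num : Nat.Prime 11)).1 h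
        exact hcases 11 (by simp) (hprime _ 40320 (by norm_num) (by norm_num))
    obtain ⟨R, -, hR, -, hRC⟩ :=
      MTwelveUnique.exists_centralised_sylow (q := q) (b := b) hP hPK' h23 hb hb' hmod
    have hq23 : q ∣ 23 := by
      rw [← hC]
      exact (dvd_pow_self q hb0).trans (hR ▸ Subgroup.card_dvd_of_le hRC)
    exact h23 ((Nat.prime_dvd_prime_iff_eq hq (by norm_num : Nat.Prime 23)).1 hq23 ▸ hqK)

end

end CfsgLib.MTwentyThreeUnique
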