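import Cfsg.Agent.MTwentyThreeUnique.BlockTwentyThree

/-!
Orthogonality of the principal blocks at two different primes, in a form that can be checked on the
lists of degrees.
-/

set_option autoImplicit false
set_option linter.style.haveILetI false
set_option linter.unusedSectionVars false

open Cfsg CfsgLib.Characters CfsgLib.DefectOne CfsgLib.BrauerOrderP
open scoped ComplexConjugate

namespace CfsgLib.MTwentyThreeUnique

universe u

/-- The sum of values of a member by its degree. -/
def svOf (q e d : ℕ) : ℤ := if cres q d then csign q d else esign q e d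

/-- The members other than the trivial one, with their sums of values. -/
def members (p e : ℕ) (l : List ℕ) (y : ℕ) : List (ℕ × ℤ) :=
  l.map (fun d => (d, csign p d)) ++ List.replicate (excCount p e) (y, esign p e y)

/-- The degrees of the members other than the trivial one. -/
def memberDegs (p e : ℕ) (l : List ℕ) (y : ℕ) : List ℕ :=
  l ++ List.replicate (excCount p e) y

/-- Some common part of the two blocks satisfies the orthogonality. -/
def canCancel (X : List (ℕ × ℤ)) (wq : ℕ → ℤ) (ok : List ℕ → Bool) (base : ℤ) : Bool :=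
  X.sublists.any fun t =>
    ok (t.map Prod.fst) && base + (t.map fun x => x.2 * wq x.1).sum == 0

/-- Degrees that could all be members at `q` with all degrees dividing `M`. -/
def okWeak (q e M : ℕ) (t : List ℕ) : Bool :=
  t.all (fun d => M % d == 0 && (cres q d || (decide (0 < excCount q e) && eres q e d))) &&
    decide (t.countP (fun d => cres q d) ≤ rowCount q e) &&
    decide (t.countP (fun d => !cres q d) ≤ excCount q e)

/-- Degrees among given ones. -/
def okExact (mem t : List ℕ) : Bool := t.all fun d => decide (t.count d ≤ mem.count d)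

theorem two_mul_lt_of_exc {q e : ℕ} (h : 0 < excCount q e) : 2 * e < q := by
  rw [excCount] at h
  by_cases h1 : (q - 1) / e = 1
  · rw [if_pos h1] at h; exact absurd h (lt_irrefl 0)
  rw [if_neg h1] at h
  have h2 : 2 * e ≤ (q - 1) / e * e := Nat.mul_le_mul_right e (by omega)
  have h3 := h2.trans (Nat.div_mul_le_self (q - 1) e)
  rcases Nat.eq_zero_or_pos q with rfl | hq
  · simp at h
  · omega

theorem not_cres_of_eres {q e d : ℕ} (he : 2 ≤ e) (h2 : 2 * e < q) (h : eres q e d = true) :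
    cres q d = false := by
  simp only [eres, Bool.or_eq_true, beq_iff_eq] at h
  simp only [cres, Bool.or_eq_false_iff, beq_eq_false_iff_ne]
  rcases h with h | h
  · have h4 : (d % q + e) % q = 0 := by rw [Nat.mod_add_mod]; exact h
    have h5 := Nat.mod_lt d (show q > 0 by omega)
    have h6 : d % q + e = q := by
      rcases Nat.lt_or_ge (d % q + e) q with h7 | h7
      · rw [Nat.mod_eq_of_lt h7] at h4; omega
      · rw [Nat.mod_eq_sub_mod h7, Nat.mod_eq_of_lt (by omega)] at h4; omega
    constructor <;> omega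
  · constructor <;> omega

variable {G : Type u} [Group G] [Fintype G] {p q : ℕ} [Fact p.Prime] [Fact q.Prime]
  {Lp : Local p G} {Lq : Local q G}

/-- The blocks at two primes are orthogonal when no element has order divisible by both. -/
theorem cross_orth (hpq : p ≠ q) (hK : ¬ q ∣ Nat.card Lp.K)
    [DecidablePred fun χ : IrrCharacter G => χ ∈ blk Lq] :
    ∑ χ ∈ (blk Lp).filter (fun χ => χ ∈ blk Lq), sv Lp χ * sv Lq χ = 0 := by
  classical
  haveI := Fintype.ofFinite Lq.K
  have hconj : ∀ v ∈ pNe Lq, ∀ k' ∈ Lq.K, ∀ u ∈ pNe Lp, ∀ k ∈ Lp.K,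
      ¬ IsConj (v * k') (u * k) := by
    intro v hv k' hk' u hu k hk hc
    obtain ⟨c, hc⟩ := isConj_iff.1 hc
    have h1 : q ∣ orderOf (u * k) := by
      rw [← hc]
      have := (MulAut.conj c).orderOf_eq (v * k')
      rw [MulAut.conj_apply] at this
      rw [this]
      exact dvd_orderOf_mul Lq hv hk'
    obtain ⟨hu', hu1⟩ := (mem_pNe Lp).1 hu
    rw [(Lp.commute hu' hk).orderOf_mul_eq_mul_orderOf_of_coprime (by
      rw [Lp.orderOf_of_mem hu' hu1]
      exact (Fact.out : p.Prime).coprime_iff_not_dvd.2 (Lp.not_dvd_orderOf hk)),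
      Lp.orderOf_of_mem hu' hu1] at h1
    rcases (Fact.out : q.Prime).dvd_mul.1 h1 with h2 | h2
    · exact hpq ((Nat.prime_dvd_prime_iff_eq Fact.out Fact.out).1 h2).symm
    · exact hK (h2.trans (Subgroup.orderOf_dvd_natCard Lp.K hk))
  have h1 : ∑ χ ∈ blk Lp, (∑ v ∈ pNe Lq, ∑ k' : Lq.K, (χ : G → ℂ) (v * k')) * (sv Lp χ : ℂ) = 0 := by
    simp only [Finset.sum_mul]
    rw [Finset.sum_comm]
    refine Finset.sum_eq_zero fun v hv => ?_
    rw [Finset.sum_comm]
    exact Finset.sum_eq_zero fun k' _ => orth Lp _ (hconj v hv k' k'.2)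
  have h2 : ∀ χ : IrrCharacter G, (∑ v ∈ pNe Lq, ∑ k' : Lq.K, (χ : G → ℂ) (v * k')) =
      if χ ∈ blk Lq then (Nat.card Lq.K : ℂ) * (sv Lq χ : ℂ) else 0 := by
    intro χ
    split_ifs with h
    · rw [Finset.sum_congr rfl fun v hv => Finset.sum_congr rfl fun (k : Lq.K) _ =>
        value_indep Lq h ((mem_pNe Lq).1 hv).1 ((mem_pNe Lq).1 hv).2 k.2]
      simp only [Finset.sum_const, Finset.card_univ, nsmul_eq_mul, ← Finset.mul_sum,
        sum_values Lq h, Nat.card_eq_fintype_card]
    · exact Finset.sum_eq_zero fun v hv => sum_K_out Lq h hv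
  simp only [h2, ite_mul, zero_mul] at h1
  rw [← Finset.sum_filter] at h1
  have h3 : (Nat.card Lq.K : ℂ) *
      ((∑ χ ∈ (blk Lp).filter (fun χ => χ ∈ blk Lq), sv Lp χ * sv Lq χ : ℤ) : ℂ) = 0 := by
    rw [← h1]
    push_cast
    rw [Finset.mul_sum]
    exact Finset.sum_congr rfl fun χ _ => by ring
  exact_mod_cast (mul_eq_zero.1 h3).resolve_left natCard_ne_zero

theorem Shape.members_eq (S : Shape Lp) {l : List ℕ} (hl : (l : Multiset ℕ) = S.C.val.map deg) :
    (members p (e Lp) l S.y : Multiset (ℕ × ℤ)) =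
      (S.C ∪ S.E).val.map fun χ => (deg χ, sv Lp χ) := by
  classical
  rw [← Finset.disjUnion_eq_union _ _ S.disj, Finset.disjUnion_val, Multiset.map_add, members,
    ← Multiset.coe_add]
  congr 1
  · rw [← Multiset.map_coe, hl, Multiset.map_map]
    exact Multiset.map_congr rfl fun χ hχ => by rw [Function.comp_apply, S.sv_C χ hχ]
  · rw [Multiset.map_congr rfl (g := fun _ => (S.y, esign p (e Lp) S.y)) fun χ hχ => by
      rw [S.sv_E χ hχ, S.deg_E χ hχ], Multiset.map_const', Finset.card_val, S.card_E,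
      Multiset.coe_replicate]

theorem Shape.svOf_eq (S : Shape Lq) (he : 2 ≤ e Lq) {χ : IrrCharacter G} (h : χ ∈ S.C ∪ S.E) :
    sv Lq χ = svOf q (e Lq) (deg χ) := by
  rcases Finset.mem_union.1 h with h | h
  · rw [S.sv_C χ h, svOf, if_pos (S.res_C χ h)]
  · have h0 : 0 < excCount q (e Lq) := by rw [← S.card_E]; exact Finset.card_pos.2 ⟨χ, h⟩
    rw [S.sv_E χ h, svOf,
      if_neg (by rw [not_cres_of_eres he (two_mul_lt_of_exc h0) (S.res_E χ h)]; simp)]

/-- The cancellation test passes. -/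
theorem cross_canCancel [IsSimpleGroup G] (hG : Nat.card G = 10200960) (hpq : p ≠ q)
    (hK : ¬ q ∣ Nat.card Lp.K) (Sp : Shape Lp) (Sq : Shape Lq) {l : List ℕ}
    (hl : (l : Multiset ℕ) = Sp.C.val.map deg) {ok : List ℕ → Bool}
    (hok : ∀ t : List ℕ, (t : Multiset ℕ) ≤ (Sq.C ∪ Sq.E).val.map deg → ok t = true) :
    canCancel (members p (e Lp) l Sp.y) (svOf q (e Lq)) ok (((p : ℤ) - 1) * ((q : ℤ) - 1))
      = true := by
  classical
  have he : 2 ≤ e Lq := two_le_e Lq (perfect hG)
  have h := cross_orth (Lp := Lp) (Lq := Lq) hpq hK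
  set T := (Sp.C ∪ Sp.E).filter (fun χ => χ ∈ blk Lq) with hT
  have hone : Sp.one = Sq.one := Subtype.ext (Sp.one_eq.trans Sq.one_eq.symm)
  have hsplit : (blk Lp).filter (fun χ => χ ∈ blk Lq) = insert Sp.one T := by
    rw [Sp.blk_eq, Finset.filter_insert, if_pos (hone ▸ Sq.one_mem)]
  rw [hsplit, Finset.sum_insert fun h' => Sp.not_mem (Finset.mem_filter.1 h').1, Sp.sv_one] at h
  nth_rewrite 1 [hone] at h
  rw [Sq.sv_one] at h
  have hsub : T ⊆ Sq.C ∪ Sq.E := by
    intro χ hχ
    obtain ⟨h1, h2⟩ := Finset.mem_filter.1 hχ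
    rw [Sq.blk_eq, Finset.mem_insert] at h2
    exact h2.resolve_left fun e => Sp.not_mem (hone ▸ e ▸ h1)
  have hle : T.val.map (fun χ => (deg χ, sv Lp χ)) ≤
      (members p (e Lp) l Sp.y : Multiset (ℕ × ℤ)) := by
    rw [Sp.members_eq hl]
    exact Multiset.map_le_map (Finset.val_le_iff.2 (Finset.filter_subset _ _))
  obtain ⟨t0, ht0⟩ : ∃ t0 : List (ℕ × ℤ), (t0 : Multiset (ℕ × ℤ)) =
      T.val.map (fun χ => (deg χ, sv Lp χ)) := ⟨_, Multiset.coe_toList _⟩
  rw [← ht0, Multiset.coe_le] at hle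
  obtain ⟨t, htp, hts⟩ := hle
  have ht : (t : Multiset (ℕ × ℤ)) = T.val.map (fun χ => (deg χ, sv Lp χ)) := by
    rw [← ht0]; exact Multiset.coe_eq_coe.2 htp
  have hfst : ((t.map Prod.fst : List ℕ) : Multiset ℕ) = T.val.map deg := by
    rw [← Multiset.map_coe, ht, Multiset.map_map]; rfl
  refine List.any_eq_true.2 ⟨t, List.mem_sublists.2 hts, ?_⟩
  rw [Bool.and_eq_true, beq_iff_eq]
  refine ⟨hok _ (by rw [hfst]; exact Multiset.map_le_map (Finset.val_le_iff.2 hsub)), ?_⟩
  have hsum : (t.map fun x => x.2 * svOf q (e Lq) x.1).sum = ∑ χ ∈ T, sv Lp χ * sv Lq χ := by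
    rw [← Multiset.sum_coe, ← Multiset.map_coe, ht, Multiset.map_map, Finset.sum_eq_multiset_sum]
    exact congrArg _ (Multiset.map_congr rfl fun χ hχ => by
      rw [Function.comp_apply, ← Sq.svOf_eq he (hsub hχ)])
  rw [hsum]
  linarith

theorem Shape.okWeak_of (S : Shape Lq) (he : 2 ≤ e Lq) {M : ℕ} (hM : ∀ χ ∈ blk Lq, deg χ ∣ M)
    {t : List ℕ} (ht : (t : Multiset ℕ) ≤ (S.C ∪ S.E).val.map deg) :
    okWeak q (e Lq) M t = true := by
  classical
  have hcn : ∀ χ ∈ S.E, cres q (deg χ) = false := fun χ h =>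
    not_cres_of_eres he (two_mul_lt_of_exc (by rw [← S.card_E]; exact Finset.card_pos.2 ⟨χ, h⟩))
      (S.res_E χ h)
  have hcnt : ∀ P : ℕ → Prop, ∀ [DecidablePred P], ((S.C ∪ S.E).val.map deg).countP P =
      ((S.C ∪ S.E).filter fun χ => P (deg χ)).card := fun P _ => by
    rw [Multiset.countP_map]; rfl
  simp only [okWeak, Bool.and_eq_true, decide_eq_true_eq, List.all_eq_true]
  refine ⟨⟨fun d hd => ?_, ?_⟩, ?_⟩
  · obtain ⟨χ, hχ, rfl⟩ := Multiset.mem_map.1 (Multiset.mem_of_le ht (Multiset.mem_coe.2 hd))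
    have hmem : χ ∈ blk Lq := by rw [S.blk_eq]; exact Finset.mem_insert_of_mem hχ
    refine ⟨by simp [Nat.mod_eq_zero_of_dvd (hM χ hmem)], ?_⟩
    rcases Finset.mem_union.1 (Finset.mem_def.2 hχ) with h | h
    · simp [S.res_C χ h]
    · have h0 : 0 < excCount q (e Lq) := by rw [← S.card_E]; exact Finset.card_pos.2 ⟨χ, h⟩
      simp [h0, S.res_E χ h]
  · have h1 := Multiset.countP_le_of_le (fun d => cres q d = true) ht
    rw [Multiset.coe_countP, hcnt] at h1
    simp only [Bool.decide_eq_true] at h1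
    refine h1.trans (S.card_C ▸ Finset.card_le_card fun χ hχ => ?_)
    obtain ⟨h2, h3⟩ := Finset.mem_filter.1 hχ
    rcases Finset.mem_union.1 h2 with h | h
    · exact h
    · rw [hcn χ h] at h3; simp at h3
  · have h1 := Multiset.countP_le_of_le (fun d => (!cres q d) = true) ht
    rw [Multiset.coe_countP, hcnt] at h1
    simp only [Bool.decide_eq_true] at h1
    refine h1.trans (S.card_E ▸ Finset.card_le_card fun χ hχ => ?_)
    obtain ⟨h2, h3⟩ := Finset.mem_filter.1 hχ
    rcases Finset.mem_union.1 h2 with h | h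
    · rw [S.res_C χ h] at h3; simp at h3
    · exact h

theorem Shape.okExact_of (S : Shape Lq) {l : List ℕ} (hl : (l : Multiset ℕ) = S.C.val.map deg)
    {t : List ℕ} (ht : (t : Multiset ℕ) ≤ (S.C ∪ S.E).val.map deg) :
    okExact (memberDegs q (e Lq) l S.y) t = true := by
  classical
  have h : ((memberDegs q (e Lq) l S.y : List ℕ) : Multiset ℕ) = (S.C ∪ S.E).val.map deg := by
    have h1 := congrArg (Multiset.map Prod.fst) (S.members_eq hl)
    rw [Multiset.map_map, Multiset.map_coe] at h1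
    refine Eq.trans ?_ h1
    simp [members, memberDegs, Function.comp_def]
  simp only [okExact, List.all_eq_true, decide_eq_true_eq]
  intro d _
  rw [← Multiset.coe_count, ← Multiset.coe_count, h]
  exact Multiset.count_le_of_le d ht

end CfsgLib.MTwentyThreeUnique
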