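import Cfsg.Agent.MTwentyThreeUnique.Pinned

/-!
The search for the list of all degrees, once the blocks at 11 and 5 are known.
-/

set_option autoImplicit false

namespace CfsgLib.MTwentyThreeUnique

/-- All multisets from the candidates with sum of squares `r`. -/
def allParts : List ℕ → ℕ → List (List ℕ)
  | [], r => if r = 0 then [[]] else []
  | d :: ds, r => (List.range (r / (d * d) + 1)).flatMap fun c =>
      (allParts ds (r - c * (d * d))).map (List.replicate c d ++ ·)

/-- A column of integers congruent to the degrees modulo five, orthogonal to them, of norm fifteen. -/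
def colOk : List ℕ → ℤ → ℕ → Bool
  | [], s, q => s == 0 && q == 15
  | d :: ds, s, q => (List.range 7).any fun i =>
      let x : ℤ := (i : ℤ) - 3
      ((d : ℤ) - x) % 5 == 0 && decide (q + (x * x).toNat ≤ 15) &&
        colOk ds (s + (d : ℤ) * x) (q + (x * x).toNat)

theorem mem_allParts : ∀ {cands : List ℕ} {m : Multiset ℕ}, cands.Nodup →
    (∀ d ∈ cands, 0 < d) → (∀ d ∈ m, d ∈ cands) →
    ∃ l ∈ allParts cands (m.map fun d => d * d).sum, (l : Multiset ℕ) = m := by
  intro cands
  induction cands with
  | nil =>
    intro m _ _ hm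
    obtain rfl : m = 0 := Multiset.eq_zero_of_forall_notMem fun d hd => by simpa using hm d hd
    exact ⟨[], by simp [allParts], rfl⟩
  | cons d ds ih =>
    intro m hnd hpos hm
    obtain ⟨hd', hnd'⟩ := List.nodup_cons.1 hnd
    set m' := m.filter (fun x => ¬ x = d) with hm'
    have hsplit : m = Multiset.replicate (m.count d) d + m' := by
      rw [← Multiset.filter_eq', hm', Multiset.filter_add_not]
    have hsum : (m.map fun x => x * x).sum = m.count d * (d * d) + (m'.map fun x => x * x).sum := by
      conv_lhs => rw [hsplit]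
      rw [Multiset.map_add, Multiset.sum_add, Multiset.map_replicate, Multiset.sum_replicate,
        smul_eq_mul]
    obtain ⟨l, hl, hlm⟩ := ih (m := m') hnd' (fun x hx => hpos x (List.mem_cons_of_mem _ hx))
      fun x hx => by
        obtain ⟨h1, h2⟩ := Multiset.mem_filter.1 hx
        exact (List.mem_cons.1 (hm x h1)).resolve_left h2
    refine ⟨List.replicate (m.count d) d ++ l, ?_, ?_⟩
    · have hp := hpos d List.mem_cons_self
      rw [allParts, List.mem_flatMap]
      refine ⟨m.count d, List.mem_range.2 ?_, List.mem_map.2 ⟨l, ?_, rfl⟩⟩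
      · rw [Nat.lt_succ_iff, Nat.le_div_iff_mul_le (Nat.mul_pos hp hp)]
        omega
      · rwa [hsum, Nat.add_sub_cancel_left]
    · rw [← Multiset.coe_add, hlm, Multiset.coe_replicate]
      exact hsplit.symm

theorem colOk_of {ι : Type*} (deg : ι → ℕ) (Y : ι → ℤ) :
    ∀ (il : List ι) (s : ℤ) (q : ℕ), (∀ i ∈ il, ((deg i : ℤ) - Y i) % 5 = 0) →
      s + (il.map fun i => (deg i : ℤ) * Y i).sum = 0 →
      (q : ℤ) + (il.map fun i => Y i * Y i).sum = 15 → colOk (il.map deg) s q = true := by
  intro il
  induction il with
  | nil => intro s q _ h1 h2; simp_all [colOk]; omega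
  | cons i is ih =>
    intro s q hc h1 h2
    simp only [List.map_cons, List.sum_cons] at h1 h2
    have hrest : 0 ≤ (is.map fun j => Y j * Y j).sum :=
      List.sum_nonneg fun x hx => by
        obtain ⟨j, -, rfl⟩ := List.mem_map.1 hx
        exact mul_self_nonneg _
    have hsq : Y i * Y i ≤ 15 := by omega
    have hb : -3 ≤ Y i ∧ Y i ≤ 3 := by constructor <;> nlinarith
    have hcast : ((Y i * Y i).toNat : ℤ) = Y i * Y i := Int.toNat_of_nonneg (mul_self_nonneg _)
    simp only [List.map_cons, colOk, List.any_eq_true, List.mem_range, Bool.and_eq_true,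
      beq_iff_eq, decide_eq_true_eq]
    refine ⟨(Y i + 3).toNat, by omega, ?_⟩
    have hx : ((Y i + 3).toNat : ℤ) - 3 = Y i := by omega
    rw [hx]
    refine ⟨⟨hc i List.mem_cons_self, by omega⟩,
      ih _ _ (fun j hj => hc j (List.mem_cons_of_mem _ hj)) (by omega) ?_⟩
    push_cast
    rw [hcast]
    omega

/-- The known degrees. -/
def knownDegs : List ℕ := [1, 1035, 230, 45, 45, 896, 896, 2024]

/-- The degrees of the Mathieu group of degree 23. -/
def trueDegs : List ℕ :=
  [1, 22, 45, 45, 230, 231, 231, 231, 253, 770, 770, 896, 896, 990, 990, 1035, 2024]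

/-- The degrees congruent to plus or minus one modulo 23 and divisible by 11. -/
def sixCands : List ℕ := degList.filter fun d => d % 11 == 0 && cres 23 d

/-- The exceptional degrees at 23 divisible by 11. -/
def pairCands : List ℕ := degList.filter fun d => d % 11 == 0 && isExc d

/-- The degrees divisible by 253. -/
def bigCands : List ℕ := degList.filter fun d => d % 11 == 0 && d % 23 == 0

/-- The final test of a choice of the six and of the pair. -/
def restOk (l : List ℕ) (x : ℕ) : Bool :=
  x == 11 || (allParts bigCands
    (10200960 - ((knownDegs ++ (l ++ [x, x])).map fun d => d * d).sum)).all fun z =>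
      !colOk (knownDegs ++ (l ++ [x, x]) ++ z) 0 0 ||
        (knownDegs ++ (l ++ [x, x]) ++ z).isPerm trueDegs

theorem cands_nodup : bigCands.Nodup ∧ bigCands.all (fun d => decide (0 < d)) = true := by
  decide +kernel

theorem degrees_check :
    profileCheck (fun d => (d : ℤ) * csign 23 d) (fun _ => 0)
      (22 - 22 * (45 + 45 + 896 + 896)) 0 10200960 2 (fun y => (y : ℤ) * esign 23 11 y)
      (fun _ => 0) sixCands pairCands 6 restOk = true := by
  decide +kernel

end CfsgLib.MTwentyThreeUnique
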