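import Cfsg.Agent.MTwentyThreeUnique.DegreeTest
import Cfsg.Agent.MTwentyThreeUnique.ColumnFive

/-!
A simple group of order 10200960 without a character of degree eleven has the degrees of the Mathieu
group.
-/

set_option autoImplicit false
set_option linter.style.haveILetI false
set_option linter.unusedSectionVars false

open Cfsg CfsgLib.Characters CfsgLib.DefectOne CfsgLib.BrauerOrderP

namespace CfsgLib.MTwentyThreeUnique

universe u

/-- The degrees in the block at 11 other than the trivial one. -/
def elevenDegs : List ℕ := [1035, 230, 45, 45, 896, 896]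

theorem knownDegs_eq : ((knownDegs : List ℕ) : Multiset ℕ) =
    {1} + (elevenDegs : Multiset ℕ) + {2024} := by
  decide +kernel

/-- Lifting a rearrangement of images to a rearrangement of the list. -/
theorem exists_perm_map_eq {α : Type*} (f : α → ℕ) (as : List α) (bs : List ℕ)
    (h : bs.Perm (as.map f)) : ∃ il : List α, il.Perm as ∧ il.map f = bs := by
  induction bs generalizing as with
  | nil => exact ⟨[], by simpa using h.symm.eq_nil, rfl⟩
  | cons b bs ih =>
    obtain ⟨a, ha, hab⟩ := List.mem_map.1 (h.subset List.mem_cons_self)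
    obtain ⟨as', has⟩ : ∃ as', as.Perm (a :: as') := by
      classical exact ⟨as.erase a, List.perm_cons_erase ha⟩
    have h' : bs.Perm (as'.map f) := by
      have h2 := h.trans (has.map f)
      rw [List.map_cons, hab] at h2
      exact h2.cons_inv
    obtain ⟨il, hil, hm⟩ := ih as' h'
    exact ⟨a :: il, (hil.cons a).trans has.symm, by rw [List.map_cons, hab, hm]⟩

variable {G : Type u} [Group G] [Fintype G]

/-- What is known when there is no character of degree eleven. -/
structure Pinned [Fact (Nat.Prime 5)] [Fact (Nat.Prime 11)] (L11 : Local 11 G) (L5 : Local 5 G) :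
    Prop where
  e11 : e L11 = 5
  K11 : L11.K = ⊥
  e5 : e L5 = 4
  K5 : Nat.card L5.K = 3
  degs : (Finset.univ : Finset (IrrCharacter G)).val.map deg = (trueDegs : Multiset ℕ)
  blk11 : (blk L11).val.map deg = ({1} + (elevenDegs : Multiset ℕ))

variable [IsSimpleGroup G] (hG : Nat.card G = 10200960) [Fact (Nat.Prime 23)]
  [Fact (Nat.Prime 5)] [Fact (Nat.Prime 11)]
include hG

theorem eleven_or_degrees (L11 : Local 11 G) (L5 : Local 5 G) :
    (∃ χ : IrrCharacter G, deg χ = 11) ∨ Pinned L11 L5 := by
  classical
  rcases eleven_or_pinned hG L11 L5 with h | ⟨⟨he11, hK11, S11, hS11, hy11⟩, he5, hK5, S5, hS5⟩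
  · exact Or.inl h
  by_cases h11 : ∃ χ : IrrCharacter G, deg χ = 11
  · exact Or.inl h11
  right
  have hK11' : L11.K = ⊥ := Subgroup.card_eq_one.1 hK11
  -- the degrees in the block at 11
  have hblk : (blk L11).val.map deg = ({1} + (elevenDegs : Multiset ℕ)) := by
    have hE : S11.E.val.map deg = ([896, 896] : List ℕ) := by
      rw [Multiset.map_congr rfl (g := fun _ => 896) fun χ hχ => by rw [S11.deg_E χ hχ, hy11],
        Multiset.map_const', Finset.card_val, S11.card_E, he11]
      rfl
    rw [S11.blk_eq, Finset.insert_val_of_notMem S11.not_mem, Multiset.map_cons,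
      ← Finset.disjUnion_eq_union _ _ S11.disj, Finset.disjUnion_val, Multiset.map_add, hS11, hE,
      deg_one S11.one_eq, Multiset.singleton_add]
    rfl
  set R := ((Finset.univ : Finset (IrrCharacter G)) \ blk L11).val.map deg with hR
  have hall : (Finset.univ : Finset (IrrCharacter G)).val.map deg =
      {1} + (elevenDegs : Multiset ℕ) + R := by
    conv_lhs => rw [← Finset.sdiff_union_of_subset (Finset.subset_univ (blk L11)),
      ← Finset.disjUnion_eq_union _ _ Finset.sdiff_disjoint, Finset.disjUnion_val]
    rw [Multiset.map_add, hblk, hR, add_comm]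
  obtain ⟨L⟩ := exists_local' hG 23 (by norm_num) (by norm_num)
  obtain ⟨S⟩ := exists_shape L (by norm_num)
  have he23 := e_eq23 hG L
  -- the degrees outside the block at 11
  have hRprop : ∀ d ∈ R, d % 11 = 0 ∧ d ∈ degList ∧ okTwentyThree d = true := by
    intro d hd
    obtain ⟨χ, hχ, rfl⟩ := Multiset.mem_map.1 hd
    have hnot : χ ∉ blk L11 := (Finset.mem_sdiff.1 hχ).2
    refine ⟨Nat.mod_eq_zero_of_dvd (dvd_degree_out L11 hK11' hnot), ?_, (res_mod hG L χ).1⟩
    have h1 : deg χ ≠ 1 := fun h1 => hnot (by
      have := BrauerOrderP.eq_one_of_degree_one (perfect hG) h1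
      rw [show χ = S11.one from Subtype.ext (this.trans S11.one_eq.symm)]
      exact S11.one_mem)
    have h0 : deg χ ≠ 0 := Blocks.charDegree_ne_zero χ
    refine CfsgLib.MTwentyThreeUnique.mem_degList (by omega)
      (Nat.mod_eq_zero_of_dvd (hG ▸ Blocks.charDegree_dvd_card χ)) ?_
    have hne : S11.one ≠ χ := fun e => h1 (e ▸ deg_one S11.one_eq)
    have h2 : deg S11.one ^ 2 + deg χ ^ 2 ≤ Nat.card G := by
      rw [← LargePrime.sum_charDegree_sq, ← Finset.sum_pair (f := fun c => deg c ^ 2) hne]
      exact Finset.sum_le_sum_of_subset (Finset.subset_univ _)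
    rw [deg_one S11.one_eq, one_pow, hG, sq] at h2
    omega
  -- 2024 is among them
  have h2024 : 2024 ∈ R := by
    obtain ⟨χ, hχ, hd⟩ : ∃ χ ∈ S5.C, deg χ = 2024 := by
      have : (2024 : ℕ) ∈ S5.C.val.map deg := by rw [hS5]; decide
      obtain ⟨χ, hχ, hd⟩ := Multiset.mem_map.1 this
      exact ⟨χ, hχ, hd⟩
    refine Multiset.mem_map.2 ⟨χ, Finset.mem_sdiff.2 ⟨Finset.mem_univ _, fun h => ?_⟩, hd⟩
    have h' : deg χ ∈ (blk L11).val.map deg := Multiset.mem_map_of_mem _ h
    rw [hblk, hd] at h'
    revert h'
    decide +kernel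
  set R6 := R.filter (fun d => cres 23 d = true) with hR6
  set R2 := R.filter (fun d => isExc d = true) with hR2
  set R0 := R.filter (fun d => d % 23 = 0) with hR0
  have hsplit : R = R6 + R2 + R0 := by
    ext d
    simp only [Multiset.count_add, hR6, hR2, hR0, Multiset.count_filter]
    by_cases hd : d ∈ R
    · have hok := (hRprop d hd).2.2
      simp only [okTwentyThree, Bool.or_eq_true, beq_iff_eq] at hok
      simp only [cres, isExc, Bool.or_eq_true, beq_iff_eq]
      rcases hok with (((h | h) | h) | h) | h <;> simp [h]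
    · simp [Multiset.count_eq_zero_of_notMem hd]
  -- counting through the block at 23
  have hfilC : (Finset.univ.filter fun χ : IrrCharacter G => cres 23 (deg χ) = true) =
      insert S.one S.C := by
    ext χ
    simp only [Finset.mem_filter, Finset.mem_univ, true_and, Finset.mem_insert]
    refine ⟨fun h => ?_, ?_⟩
    · have hin : χ ∈ blk L := by
        by_contra hn
        have := Nat.mod_eq_zero_of_dvd ((res_mod hG L χ).2.2 hn)
        simp only [cres, Bool.or_eq_true, beq_iff_eq] at h
        omega
      rw [S.blk_eq, Finset.mem_insert, Finset.mem_union] at hin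
      rcases hin with h' | h' | h'
      · exact Or.inl h'
      · exact Or.inr h'
      · have h2 := S.res_E χ h'
        rw [he23] at h2
        simp only [cres, eres, Bool.or_eq_true, beq_iff_eq] at h h2
        omega
    · rintro (h | h)
      · rw [h, deg_one S.one_eq]; rfl
      · exact S.res_C χ h
  have hfilE : (Finset.univ.filter fun χ : IrrCharacter G => isExc (deg χ) = true) = S.E := by
    ext χ
    simp only [Finset.mem_filter, Finset.mem_univ, true_and]
    refine ⟨fun h => ?_, fun h => ?_⟩
    · simp only [isExc, Bool.or_eq_true, beq_iff_eq] at h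
      have hin : χ ∈ blk L := by
        by_contra hn
        have := Nat.mod_eq_zero_of_dvd ((res_mod hG L χ).2.2 hn)
        omega
      rw [S.blk_eq, Finset.mem_insert, Finset.mem_union] at hin
      rcases hin with h' | h' | h'
      · rw [h', deg_one S.one_eq] at h; omega
      · have h2 := S.res_C χ h'
        simp only [cres, Bool.or_eq_true, beq_iff_eq] at h2
        omega
      · exact h'
    · have h2 := S.res_E χ h
      rw [he23] at h2
      simp only [eres, Bool.or_eq_true, beq_iff_eq] at h2
      simp only [isExc, Bool.or_eq_true, beq_iff_eq]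
      omega
  have hmap : ∀ P : ℕ → Bool, ((Finset.univ : Finset (IrrCharacter G)).val.map deg).filter
      (fun d => P d = true) =
      ({1} + (elevenDegs : Multiset ℕ)).filter (fun d => P d = true) +
        R.filter (fun d => P d = true) := fun P => by
    rw [hall, Multiset.filter_add]
  have hC6 : S.C.val.map deg = (([45, 45, 896, 896] : List ℕ) : Multiset ℕ) + R6 := by
    have h := hmap (cres 23)
    rw [Multiset.filter_map, ← hR6] at h
    simp only [Function.comp_def] at h
    rw [← Finset.filter_val, hfilC, Finset.insert_val_of_notMem (fun h' => S.not_mem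
      (Finset.mem_union_left _ h')), Multiset.map_cons, deg_one S.one_eq] at h
    rw [show ({1} + (elevenDegs : Multiset ℕ)).filter (fun d => cres 23 d = true) =
      1 ::ₘ (([45, 45, 896, 896] : List ℕ) : Multiset ℕ) by decide +kernel, Multiset.cons_add] at h
    exact (Multiset.cons_inj_right 1).1 h
  have hE2 : R2 = Multiset.replicate 2 S.y := by
    have h := hmap isExc
    rw [Multiset.filter_map, ← hR2] at h
    simp only [Function.comp_def] at h
    rw [← Finset.filter_val, hfilE,
      show ({1} + (elevenDegs : Multiset ℕ)).filter (fun d => isExc d = true) = 0 by decide +kernel,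
      zero_add, Multiset.map_congr rfl (g := fun _ => S.y) fun χ hχ => S.deg_E χ hχ,
      Multiset.map_const', Finset.card_val, S.card_E, he23] at h
    exact h.symm
  have hcard6 : R6.card = 6 := by
    have h := congrArg Multiset.card hC6
    rw [Multiset.card_map, Finset.card_val, S.card_C, he23, Multiset.card_add, Multiset.coe_card] at h
    have h10 : rowCount 23 11 = 10 := by decide
    simp only [List.length_cons, List.length_nil, h10] at h
    omega
  -- the relation at 23
  have hrel : (22 - 22 * (45 + 45 + 896 + 896) : ℤ) +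
      (R6.map fun d : ℕ => (d : ℤ) * csign 23 d).sum + ((2 : ℕ) : ℤ) * ((S.y : ℤ) * esign 23 11 S.y)
        = 0 := by
    have h := S.relation
    rw [he23, show excCount 23 11 = 2 by decide, Finset.sum_eq_multiset_sum] at h
    have h2 : S.C.val.map (fun χ => (deg χ : ℤ) * csign 23 (deg χ)) =
        (S.C.val.map deg).map fun d : ℕ => (d : ℤ) * csign 23 d := by
      rw [Multiset.map_map]; rfl
    rw [h2, hC6, Multiset.map_add, Multiset.sum_add] at h
    have h3 : ((([45, 45, 896, 896] : List ℕ) : Multiset ℕ).map
        fun d : ℕ => (d : ℤ) * csign 23 d).sum = -22 * (45 + 45 + 896 + 896) := by decide +kernel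
    rw [h3] at h
    push_cast at h ⊢
    linarith
  -- the sum of squares
  have hsq : 1 + (2 * (45 * 45) + 2 * (896 * 896) + 1035 * 1035 + 230 * 230) +
      (R.map fun d => d * d).sum = 10200960 := by
    have h := LargePrime.sum_charDegree_sq (G := G)
    rw [Finset.sum_eq_multiset_sum, hG] at h
    have h2 : (Finset.univ : Finset (IrrCharacter G)).val.map
        (fun χ : IrrCharacter G => Cfsg.charDegree (χ : G → ℂ) ^ 2) =
        ((Finset.univ : Finset (IrrCharacter G)).val.map deg).map fun d => d * d := by
      rw [Multiset.map_map]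
      exact Multiset.map_congr rfl fun χ _ => sq _
    rw [h2, hall, Multiset.map_add, Multiset.sum_add] at h
    rw [show (((({1} + (elevenDegs : Multiset ℕ))).map fun d => d * d).sum) =
      1 + (2 * (45 * 45) + 2 * (896 * 896) + 1035 * 1035 + 230 * 230) by decide +kernel] at h
    exact h
  have hRsq : (R.map fun d => d * d).sum = (R6.map fun d => d * d).sum + 2 * (S.y * S.y) +
      (R0.map fun d => d * d).sum := by
    conv_lhs => rw [hsplit, hE2]
    simp only [Multiset.map_add, Multiset.sum_add, Multiset.map_replicate, Multiset.sum_replicate,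
      smul_eq_mul]
  have hyR : S.y ∈ R := Multiset.mem_of_mem_filter (p := fun d => isExc d = true) (by
    rw [← hR2, hE2]; exact Multiset.mem_replicate.2 ⟨by norm_num, rfl⟩)
  obtain ⟨l, hl, hgood⟩ := profileCheck_sound degrees_check R6 S.y hcard6
    (fun d hd => List.mem_filter.2 ⟨(hRprop d (Multiset.mem_of_mem_filter hd)).2.1, by
      simp [(hRprop d (Multiset.mem_of_mem_filter hd)).1,
        (Multiset.mem_filter.1 (hR6 ▸ hd : d ∈ R.filter fun d => cres 23 d = true)).2]⟩)
    (fun _ => List.mem_filter.2 ⟨(hRprop _ hyR).2.1, by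
      have : isExc S.y = true := (Multiset.mem_filter.1
        (hR2 ▸ hE2 ▸ Multiset.mem_replicate.2 ⟨by norm_num, rfl⟩ :
          S.y ∈ R.filter fun d => isExc d = true)).2
      simp [(hRprop _ hyR).1, this]⟩)
    hrel (by simp) (by omega)
  rw [if_neg (by norm_num)] at hgood
  simp only [restOk, Bool.or_eq_true, beq_iff_eq, List.all_eq_true] at hgood
  have hy11' : S.y ≠ 11 := fun h => by
    obtain ⟨χ, hχ⟩ := Finset.card_pos.1 (show 0 < S.E.card by rw [S.card_E, he23]; decide)
    exact h11 ⟨χ, (S.deg_E χ hχ).trans h⟩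
  replace hgood := hgood.resolve_left hy11'
  -- the multiples of 253
  have h20240 : 2024 ∈ R0 := Multiset.mem_filter.2 ⟨h2024, by norm_num⟩
  obtain ⟨Z, hZ⟩ := Multiset.exists_cons_of_mem h20240
  have hZmem : ∀ d ∈ Z, d ∈ bigCands := fun d hd => by
    have h0 : d ∈ R.filter fun d => d % 23 = 0 := by
      rw [← hR0, hZ]; exact Multiset.mem_cons_of_mem hd
    obtain ⟨h1, h2⟩ := Multiset.mem_filter.1 h0
    exact List.mem_filter.2 ⟨(hRprop d h1).2.1, by simp [(hRprop d h1).1, h2]⟩
  obtain ⟨z, hz, hzm⟩ := mem_allParts (m := Z) cands_nodup.1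
    (fun d hd => by simpa using List.all_eq_true.1 cands_nodup.2 d hd) hZmem
  have hfull : ((knownDegs ++ (l ++ [S.y, S.y]) ++ z : List ℕ) : Multiset ℕ) =
      (Finset.univ : Finset (IrrCharacter G)).val.map deg := by
    rw [hall, hsplit, hE2, hZ, ← Multiset.coe_add, ← Multiset.coe_add, ← Multiset.coe_add,
      knownDegs_eq, hl, hzm, show (([S.y, S.y] : List ℕ) : Multiset ℕ) = Multiset.replicate 2 S.y
        from rfl, ← Multiset.singleton_add]
    abel
  have hrem : 10200960 - ((knownDegs ++ (l ++ [S.y, S.y])).map fun d => d * d).sum =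
      (Z.map fun d => d * d).sum := by
    have hk : ((knownDegs ++ (l ++ [S.y, S.y])).map fun d => d * d).sum =
        1 + (2 * (45 * 45) + 2 * (896 * 896) + 1035 * 1035 + 230 * 230) + 2024 * 2024 +
          ((R6.map fun d => d * d).sum + 2 * (S.y * S.y)) := by
      simp only [List.map_append, List.sum_append]
      rw [show (knownDegs.map fun d => d * d).sum =
        1 + (2 * (45 * 45) + 2 * (896 * 896) + 1035 * 1035 + 230 * 230) + 2024 * 2024 by decide +kernel,
        ← hl, ← Multiset.sum_coe, ← Multiset.map_coe]
      simp [two_mul]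
    have h0 : (R0.map fun d => d * d).sum = 2024 * 2024 + (Z.map fun d => d * d).sum := by
      rw [hZ, Multiset.map_cons, Multiset.sum_cons]
    omega
  rw [hrem] at hgood
  have hlast := hgood z hz
  obtain ⟨Y, hY1, hY2, hY3, -⟩ := exists_column L5 he5 hK5
  have hcol : colOk (knownDegs ++ (l ++ [S.y, S.y]) ++ z) 0 0 = true := by
    obtain ⟨il, hil, hild⟩ : ∃ il : List (IrrCharacter G),
        (il : Multiset (IrrCharacter G)) = (Finset.univ : Finset (IrrCharacter G)).val ∧
        il.map deg = knownDegs ++ (l ++ [S.y, S.y]) ++ z := by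
      have h' := hfull
      rw [← (Finset.univ : Finset (IrrCharacter G)).coe_toList, Multiset.map_coe,
        Multiset.coe_eq_coe] at h'
      obtain ⟨il, hp, hm⟩ := exists_perm_map_eq deg _ _ h'
      exact ⟨il, (Multiset.coe_eq_coe.2 hp).trans (Finset.coe_toList _), hm⟩
    rw [← hild]
    refine colOk_of deg Y il 0 0 (fun i _ => hY1 i) ?_ ?_
    · rw [zero_add, ← Multiset.sum_coe, ← Multiset.map_coe, hil]
      exact hY2
    · rw [Nat.cast_zero, zero_add, ← Multiset.sum_coe, ← Multiset.map_coe, hil]
      exact hY3
  rw [hcol] at hlast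
  simp only [Bool.not_true, Bool.false_eq_true, false_or] at hlast
  refine ⟨he11, hK11', he5, hK5, ?_, hblk⟩
  rw [← hfull]
  exact Multiset.coe_eq_coe.2 (List.isPerm_iff.1 hlast)

end CfsgLib.MTwentyThreeUnique
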