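import Cfsg.Agent.MTwentyThreeUnique.EndgameBlocks

/-!
An element normalising the cyclic shift as its fourth power does is a permutation times a circulant; when its
fifth power is trivial and the six words have order dividing that of M23, it is one of the two survivors up to
a power of the shift.
-/

set_option autoImplicit false

namespace CfsgLib.MTwentyThreeUnique.Gl11

open CfsgLib.Mathieu CfsgLib.M23Ext Matrix

theorem checkU_ok {u : ℕ} (hu : u < 2048) : checkU u = true := by
  have hblock : ∀ b < 16, checkBlock b = true := fun b hb => by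
    interval_cases b
    exacts [block_ok0, block_ok1, block_ok2, block_ok3, block_ok4, block_ok5, block_ok6, block_ok7,
      block_ok8, block_ok9, block_ok10, block_ok11, block_ok12, block_ok13, block_ok14, block_ok15]
  have h := allBelow_iff.1 (hblock (u / 128) (by omega)) (u % 128) (Nat.mod_lt _ (by norm_num))
  rwa [Nat.div_add_mod] at h

theorem shift_checks :
    sameM (powM 3 mP 5) idM = true ∧ sameM (powM 4 mB 11) idM = true ∧ sameM (powM 5 mA 23) idM = true ∧
      sameM (mulM (powM 3 mP 4) (powM 3 mB 4)) (mulM mB (powM 3 mP 4)) = true := by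
  decide +kernel

theorem rot_checks : (allBelow 10 fun j => allBelow 2048 fun u => xorSel mB (rot u j) == rot u (j + 1)) = true ∧
    (allBelow 2048 fun u => rot u 0 == u) = true := by
  decide +kernel

theorem shift_cols : ∀ j < 10, xorSel mB (2 ^ j) = 2 ^ (j + 1) := by decide +kernel

theorem exists_cand {C : M} (hC : C * toMat mB = toMat mB ^ 4 * C) :
    ∃ u < 2048, C = toMat (cand u) := by
  obtain ⟨cP, -, -, cPB⟩ := shift_checks
  have hP : toMat mP * toMat mP ^ 4 = 1 := by
    rw [← pow_succ', ← toMat_powM 3 mP 5 rfl (by norm_num), toMat_congr cP, toMat_idM]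
  set Q : M := toMat mP ^ 4 * C with hQ
  have hQB : Q * toMat mB = toMat mB * Q := by
    have h := toMat_congr cPB
    rw [toMat_mul (powM_length 3 mP 4 rfl) (powM_length 3 mB 4 rfl),
      toMat_mul rfl (powM_length 3 mP 4 rfl), toMat_powM 3 mP 4 rfl (by norm_num),
      toMat_powM 3 mB 4 rfl (by norm_num)] at h
    rw [hQ, mul_assoc, hC, ← mul_assoc, h, mul_assoc]
  obtain ⟨u, hu, hcol⟩ := exists_vecOf (Q *ᵥ vecOf 1)
  obtain ⟨cR, cR0⟩ := rot_checks
  have hcols : ∀ j < 11, Q *ᵥ vecOf (2 ^ j) = vecOf (rot u j) := by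
    intro j
    induction j with
    | zero => intro _; rw [pow_zero, beq_iff_eq.1 (allBelow_iff.1 cR0 u hu), hcol]
    | succ j ih =>
      intro hj
      rw [← shift_cols j (by omega), ← toMat_mulVec mB rfl, Matrix.mulVec_mulVec, hQB,
        ← Matrix.mulVec_mulVec, ih (by omega), toMat_mulVec mB rfl,
        beq_iff_eq.1 (allBelow_iff.1 (allBelow_iff.1 cR j (by omega)) u hu)]
  have hQc : Q = toMat (circ u) := ext_cols fun j => by
    rw [hcols j.val j.isLt, col_eq]
    funext i
    show bit _ _ = bit ((circ u).getD j.val 0) i.val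
    refine congrArg (fun n => bit n i.val) ?_
    have : j.val < 11 := j.isLt
    simp [circ, List.getD_eq_getElem?_getD, this]
  refine ⟨u, hu, ?_⟩
  rw [cand, toMat_mul rfl (by simp [circ]), ← hQc, hQ, ← mul_assoc, hP, one_mul]

theorem cand_length (u : ℕ) : (cand u).length = 11 := by simp [cand, mulM, circ]

/-- The classification. -/
theorem exists_survivor {u : ℕ} (hu : u < 2048) (h5 : toMat (cand u) ^ 5 = 1)
    (hw : ∀ k, 1 ≤ k → k ≤ 6 → toMat (wordM k (cand u)) ^ ordM23 = 1) :
    ∃ s : ℕ, ∃ u₀ : ℕ, (u₀ = uCode ∨ u₀ = uCocode) ∧ toMat (cand u) * toMat mB ^ s = toMat (cand u₀) := by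
  have hl := cand_length u
  have h := checkU_ok hu
  simp only [checkU] at h
  split_ifs at h with h0 h6
  · exfalso
    simp only [Bool.not_eq_true', beq_eq_false_iff_ne] at h
    refine h (eq_of_vecOf_eq (Nat.mod_lt _ (by norm_num)) (by norm_num) ?_)
    have e : vecOf (fifth (cand u)) = vecOf 1 := by
      have h' : toMat (cand u) ^ 5 *ᵥ vecOf 1 = vecOf 1 := by rw [h5, Matrix.one_mulVec]
      simp only [pow_succ', pow_zero, mul_one, ← Matrix.mulVec_mulVec, toMat_mulVec _ hl] at h'
      exact h'
    rw [← e]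
    funext i
    exact bit_mod i.isLt
  · exfalso
    simp only [Bool.not_eq_true'] at h
    set k := getTab kindTab 4 u
    have hlen : (wordM k (cand u)).length = 11 := by
      unfold wordM
      split_ifs <;> simp [mulM, hl]
    have hone : toMat (powM 24 (wordM k (cand u)) ordM23) = toMat idM := by
      rw [toMat_powM 24 _ ordM23 hlen (by decide), hw k (by omega) h6, toMat_idM]
    rw [sameM_of_eq hone] at h
    exact Bool.noConfusion h
  · exact ⟨getTab shiftTab 4 u, uCode, Or.inl rfl, by
      rw [← toMat_congr h, toMat_mul hl (powM_length 4 mB _ rfl),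
        toMat_powM 4 mB _ rfl (show getTab shiftTab 4 u < 2 ^ 4 from Nat.mod_lt _ (by norm_num))]⟩
  · exact ⟨getTab shiftTab 4 u, uCocode, Or.inr rfl, by
      rw [← toMat_congr h, toMat_mul hl (powM_length 4 mB _ rfl),
        toMat_powM 4 mB _ rfl (show getTab shiftTab 4 u < 2 ^ 4 from Nat.mod_lt _ (by norm_num))]⟩

end CfsgLib.MTwentyThreeUnique.Gl11
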