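import Cfsg.Agent.MTwentyThreeUnique.EndgameMat
import Cfsg.Agent.Mathieu.SmallOrders

/-!
The two faithful representations of M23 of dimension 11 over the field with two elements: on the shortened
Golay code, and the contragredient one.
-/

set_option autoImplicit false

namespace CfsgLib.MTwentyThreeUnique.Gl11

open Cfsg CfsgLib.Mathieu CfsgLib.M23Ext Matrix

/-- The word with given coordinates. -/
def cw : V →ₗ[ZMod 2] Word := ∑ j : Fin 11, (LinearMap.proj j).smulRight (row j.val : Word)

/-- The coordinates of a word. -/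
def coords : Word →ₗ[ZMod 2] V := LinearMap.pi fun i => LinearMap.proj (pt i.val)

theorem cw_apply (v : V) : cw v = ∑ j : Fin 11, v j • (row j.val : Word) := by simp [cw]

theorem coords_apply (w : Word) (i : Fin 11) : coords w i = w (pt i.val) := rfl

theorem cw_mem (v : V) : cw v ∈ short := by
  rw [cw_apply]
  exact Submodule.sum_mem _ fun j _ => Submodule.smul_mem _ _ (row j.val).2

theorem coords_cw (v : V) : coords (cw v) = v := by
  funext i
  rw [coords_apply, cw_apply, Finset.sum_apply, Finset.sum_eq_single i]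
  · rw [Pi.smul_apply, show (row i.val : Word) (pt i.val) = coe i.val (row i.val) from rfl,
      coe_row i.isLt i.isLt]
    simp
  · intro j _ hj
    rw [Pi.smul_apply, show (row j.val : Word) (pt i.val) = coe i.val (row j.val) from rfl,
      coe_row i.isLt j.isLt, if_neg (fun h => hj (Fin.ext h.symm)), smul_zero]
  · simp

theorem cw_coords {w : Word} (hw : w ∈ short) : cw (coords w) = w := by
  rw [cw_apply]
  conv_rhs => rw [show w = ((⟨w, hw⟩ : short) : Word) from rfl, decompose ⟨w, hw⟩,
    AddSubmonoidClass.coe_finsetSum]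
  rw [← Fin.sum_univ_eq_sum_range]
  rfl

/-- The image of a word under a permutation. -/
def moveW (σ : Equiv.Perm GolayPt) : Word →ₗ[ZMod 2] Word := LinearMap.funLeft _ _ ⇑σ⁻¹

theorem support₂_moveW (σ : Equiv.Perm GolayPt) (w : Word) :
    support₂ (moveW σ w) = (support₂ w).image σ := by
  ext p
  rw [Finset.mem_image, support₂, support₂, Finset.mem_filter]
  simp only [Finset.mem_univ, true_and]
  change w (σ⁻¹ p) ≠ 0 ↔ _
  constructor
  · intro h
    exact ⟨σ⁻¹ p, Finset.mem_filter.2 ⟨Finset.mem_univ _, h⟩, by simp⟩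
  · rintro ⟨q, hq, rfl⟩
    simpa using (Finset.mem_filter.1 hq).2

theorem moveW_short {σ : Equiv.Perm GolayPt} (hσ : σ ∈ Spor.M23) {w : Word} (hw : w ∈ short) :
    moveW σ w ∈ short := by
  obtain ⟨u, hu, hu'⟩ : (support₂ w).image σ ∈ supports (golayCode : Set Word) :=
    setSystemAut_image_mem hσ.1 ⟨w, hw.1, rfl⟩
  rw [← support₂_moveW] at hu'
  refine ⟨by rw [← support₂_injective hu']; exact hu, ?_⟩
  show w (σ⁻¹ none) = 0
  rw [Equiv.Perm.inv_eq_iff_eq.2 (show (none : GolayPt) = σ none from (hσ.2 : σ none = none).symm)]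
  exact hw.2

/-- The linear map of a member of M23. -/
def act (σ : Spor.M23) : V →ₗ[ZMod 2] V := coords ∘ₗ moveW (σ : Equiv.Perm GolayPt) ∘ₗ cw

theorem cw_act (σ : Spor.M23) (v : V) : cw (act σ v) = moveW (σ : Equiv.Perm GolayPt) (cw v) :=
  cw_coords (moveW_short σ.2 (cw_mem v))

/-- The representation on the shortened code. -/
def repM : Spor.M23 →* M where
  toFun σ := LinearMap.toMatrix' (act σ)
  map_one' := by
    have h : act 1 = LinearMap.id := LinearMap.ext fun v => coords_cw v
    rw [h, LinearMap.toMatrix'_id]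
  map_mul' σ τ := by
    have h : act (σ * τ) = act σ ∘ₗ act τ := LinearMap.ext fun v => by
      rw [LinearMap.comp_apply]
      show coords (moveW ((σ : Equiv.Perm GolayPt) * (τ : Equiv.Perm GolayPt)) (cw v)) =
        coords (moveW (σ : Equiv.Perm GolayPt) (cw (act τ v)))
      rw [cw_act]
      refine congrArg coords (funext fun p => ?_)
      simp [moveW, LinearMap.funLeft_apply]
    rw [h, LinearMap.toMatrix'_comp]

theorem cw_two_pow (j : Fin 11) : cw (vecOf (2 ^ j.val)) = wordOf (shortRows.getD j.val 0) := by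
  rw [cw_apply, Finset.sum_eq_single j]
  · show bit _ _ • _ = _
    rw [bit_two_pow, if_pos rfl, one_smul]
    show wordOf (shortMask (2 ^ j.val)) = _
    rw [shortMask_row j.val j.isLt]
  · intro k _ hk
    show bit _ _ • _ = _
    rw [bit_two_pow, if_neg (fun h => hk (Fin.ext h).symm), zero_smul]
  · simp

theorem repM_mulVec (σ : Spor.M23) (v : V) : repM σ *ᵥ v = act σ v :=
  LinearMap.toMatrix'_mulVec _ _

/-- The columns are those of the permutation of the table. -/
def colsOK (t : ℕ) (c : List ℕ) : Bool :=
  allBelow 11 fun j => push t 24 (shortRows.getD j 0) % 2048 == c.getD j 0 % 2048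

theorem repM_eq {σ : Spor.M23} {t : ℕ} (h : Rep enc (σ : Equiv.Perm GolayPt) t) {c : List ℕ}
    (hc : colsOK t c = true) : repM σ = toMat c := by
  refine ext_cols fun j => ?_
  have hj := beq_iff_eq.1 (allBelow_iff.1 hc j.val j.isLt)
  have hmove : moveW (σ : Equiv.Perm GolayPt) (wordOf (shortRows.getD j.val 0)) =
      wordOf (push t 24 (shortRows.getD j.val 0)) := by
    refine support₂_injective ?_
    rw [support₂_moveW, support₂_wordOf, support₂_wordOf, image_setOf24 h]
  rw [repM_mulVec, col_eq]
  funext i
  show coords (moveW _ (cw _)) i = _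
  rw [cw_two_pow, hmove, coords_apply, toMat_apply, ← bit_mod i.isLt, ← hj, bit_mod i.isLt]
  show (if (push t 24 _).testBit (idx (pt i.val)) then _ else _) = _
  rw [idx_pt (by omega)]
  rfl

theorem rows_separate : ∀ i < 24, ∀ k < 24,
    (allBelow 11 fun j => (shortRows.getD j 0).testBit i == (shortRows.getD j 0).testBit k) = true → i = k := by
  decide +kernel

theorem repM_injective : Function.Injective repM := by
  refine (injective_iff_map_eq_one _).2 fun σ hσ => Subtype.ext (Equiv.ext fun p => ?_)
  have hfix : ∀ j : Fin 11, moveW (σ : Equiv.Perm GolayPt) (wordOf (shortRows.getD j.val 0)) =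
      wordOf (shortRows.getD j.val 0) := fun j => by
    rw [← cw_two_pow, ← cw_act, ← repM_mulVec, hσ, Matrix.one_mulVec]
  refine idx_injective (rows_separate _ (idx_lt _) _ (idx_lt _) (allBelow_iff.2 fun j hj => beq_iff_eq.2 ?_))
  have := congrFun (hfix ⟨j, hj⟩) ((σ : Equiv.Perm GolayPt) p)
  simp only [moveW, LinearMap.funLeft_apply, Equiv.Perm.inv_def, Equiv.symm_apply_apply, wordOf] at this
  revert this
  change _ → (shortRows.getD j 0).testBit (idx ((σ : Equiv.Perm GolayPt) p)) =
    (shortRows.getD j 0).testBit (idx p)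
  cases (shortRows.getD j 0).testBit (idx ((σ : Equiv.Perm GolayPt) p)) <;>
    cases (shortRows.getD j 0).testBit (idx p) <;> simp

/-- The contragredient representation. -/
def repD : Spor.M23 →* M where
  toFun σ := (repM σ⁻¹)ᵀ
  map_one' := by simp
  map_mul' σ τ := by simp [_root_.mul_inv_rev, Matrix.transpose_mul]

theorem repD_injective : Function.Injective repD := fun σ τ h =>
  inv_injective (repM_injective (Matrix.transpose_injective h))

/-- The transpose, by columns. -/
def trM (a : List ℕ) : List ℕ :=
  (List.range 11).map fun i =>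
    (List.range 11).foldr (fun j acc => 2 * acc + (if (a.getD j 0).testBit i then 1 else 0)) 0

/-- One list is the transpose of the other. -/
def isTr (a b : List ℕ) : Bool :=
  allBelow 11 fun i => allBelow 11 fun j => (b.getD i 0).testBit j == (a.getD j 0).testBit i

theorem toMat_isTr {a b : List ℕ} (h : isTr a b = true) : toMat b = (toMat a)ᵀ := by
  ext j i
  have := beq_iff_eq.1 (allBelow_iff.1 (allBelow_iff.1 h i.val i.isLt) j.val j.isLt)
  simp only [Matrix.transpose_apply, toMat_apply, bit]
  rw [this]

/-- The list `d` is the contragredient of the columns `c`. -/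
def dualOK (c d : List ℕ) : Bool :=
  isTr d (trM d) && (trM d).length == 11 && c.length == 11 && sameM (mulM (trM d) c) idM

theorem repD_eq {σ : Spor.M23} {c d : List ℕ} (h : repM σ = toMat c) (hd : dualOK c d = true) :
    repD σ = toMat d := by
  simp only [dualOK, Bool.and_eq_true, beq_iff_eq] at hd
  obtain ⟨⟨⟨htr, hl⟩, hc⟩, hmul⟩ := hd
  have h1 : (toMat d)ᵀ * repM σ = 1 := by
    rw [h, ← toMat_isTr htr, ← toMat_mul hl hc, toMat_congr hmul, toMat_idM]
  have h2 : repM σ * repM σ⁻¹ = 1 := by rw [← map_mul, mul_inv_cancel, map_one]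
  show (repM σ⁻¹)ᵀ = _
  rw [← left_inv_eq_right_inv h1 h2, Matrix.transpose_transpose]

end CfsgLib.MTwentyThreeUnique.Gl11
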