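import Cfsg.Agent.MTwentyThreeUnique.EndgameBasis
import Cfsg.Agent.MTwentyThreeUnique.EndgameClass
import Cfsg.Agent.MTwentyThreeUnique.EndgameRep
import Cfsg.Agent.M23Gen.Generation

/-!
A simple group of the order of M23 with a faithful representation of dimension 11 over the field with two
elements, containing a Frobenius group of order 253 and an element of order 5 normalising its subgroup of
order 11, is isomorphic to M23.
-/

set_option autoImplicit false

namespace CfsgLib.MTwentyThreeUnique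

namespace Gl11

open Cfsg CfsgLib.Mathieu CfsgLib.M23Ext CfsgLib.M24Classes Matrix

/-- Table of a member of M23. -/
def inM23Tab (t : ℕ) : Bool := isM24Tab t && app t 23 == 23

theorem exists_member {t : ℕ} (h : inM23Tab t = true) :
    ∃ σ : Spor.M23, Rep enc (σ : Equiv.Perm GolayPt) t := by
  simp only [inM23Tab, Bool.and_eq_true, beq_iff_eq] at h
  obtain ⟨σ, hσ, hr⟩ := inGroup_of_isM24Tab h.1
  exact ⟨⟨σ, hσ, hr.apply_eq enc (x := none) (y := none) h.2⟩, hr⟩

theorem tabs_ok : inM23Tab tA = true ∧ inM23Tab tAInv = true ∧ inM23Tab tB = true ∧ inM23Tab tC = true := by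
  decide +kernel

/-- The checks of one of the two survivors. -/
def survOK (ta : ℕ) (fa fb fc X Xi wa wb : List ℕ) (u : ℕ) : Bool :=
  X.length == 11 && Xi.length == 11 && fa.length == 11 && fb.length == 11 && fc.length == 11 &&
    sameM (mulM X Xi) idM && sameM (mulM Xi X) idM && sameM (mulM X mA) (mulM fa X) &&
      sameM (mulM X mB) (mulM fb X) && sameM (mulM X (cand u)) (mulM fc X) &&
        M23Gen.evalW [ta, tB, tC] wa == M23Gen.genA && M23Gen.evalW [ta, tB, tC] wb == M23Gen.genB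

theorem code_ok : survOK tA codeA codeB codeC codeX codeXInv codeWA codeWB uCode = true := by
  decide +kernel

theorem cocode_ok :
    survOK tAInv cocodeA cocodeB cocodeC cocodeX cocodeXInv cocodeWA cocodeWB uCocode = true := by
  decide +kernel

theorem code_mats : colsOK tA codeA = true ∧ colsOK tB codeB = true ∧ colsOK tC codeC = true := by
  decide +kernel

theorem cocode_mats :
    colsOK tAInv dualRowA = true ∧ dualOK dualRowA cocodeA = true ∧
    colsOK tB dualRowB = true ∧ dualOK dualRowB cocodeB = true ∧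
    colsOK tC dualRowC = true ∧ dualOK dualRowC cocodeC = true := by
  decide +kernel

variable {G : Type*} [Group G] [Finite G]

theorem isoM23_of_surv (hG : Nat.card G = 10200960) (π : G →* GL (Fin 11) (ZMod 2))
    (hπ : Function.Injective π) (F : Spor.M23 →* M) (hF : Function.Injective F)
    {ta : ℕ} {fa fb fc X Xi wa wb : List ℕ} {u : ℕ} (hok : survOK ta fa fb fc X Xi wa wb u = true)
    {σa σb σc : Spor.M23} (ra : Rep enc (σa : Equiv.Perm GolayPt) ta)
    (rb : Rep enc (σb : Equiv.Perm GolayPt) tB) (rc : Rep enc (σc : Equiv.Perm GolayPt) tC)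
    (ea : F σa = toMat fa) (eb : F σb = toMat fb) (ec : F σc = toMat fc)
    {a b c : G} (ha : (π a : M) = toMat mA) (hb : (π b : M) = toMat mB) (hc : (π c : M) = toMat (cand u)) :
    Spor.IsoM23 G := by
  simp only [survOK, Bool.and_eq_true, beq_iff_eq] at hok
  obtain ⟨⟨⟨⟨⟨⟨⟨⟨⟨⟨⟨lX, lXi⟩, la⟩, lb⟩, lc⟩, hXXi⟩, hXiX⟩, hA⟩, hB⟩, hC⟩, hwa⟩, hwb⟩ := hok
  let Xu : GL (Fin 11) (ZMod 2) := ⟨toMat X, toMat Xi,
    by rw [← toMat_mul lX lXi, toMat_congr hXXi, toMat_idM],
    by rw [← toMat_mul lXi lX, toMat_congr hXiX, toMat_idM]⟩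
  let π' : G →* GL (Fin 11) (ZMod 2) := (MulAut.conj Xu).toMonoidHom.comp π
  have hπ' : Function.Injective π' := (MulAut.conj Xu).injective.comp hπ
  let Fu : Spor.M23 →* GL (Fin 11) (ZMod 2) := F.toHomUnits
  have hFu : Function.Injective Fu := fun s t h => hF (congrArg Units.val h)
  have key : ∀ (g : G) (σ : Spor.M23) (m f : List ℕ), m.length = 11 → f.length = 11 →
      (π g : M) = toMat m → F σ = toMat f → sameM (mulM X m) (mulM f X) = true →
      σ ∈ π'.range.comap Fu := by
    intro g σ m f hm hf e1 e2 hcheck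
    refine Subgroup.mem_comap.2 ⟨g, Units.ext ?_⟩
    show toMat X * (π g : M) * toMat Xi = F σ
    rw [e1, e2, ← toMat_mul lX hm, toMat_congr hcheck, toMat_mul hf lX, mul_assoc,
      show toMat X * toMat Xi = 1 from Xu.val_inv, mul_one]
  have hσa := key a σa mA fa rfl la ha ea hA
  have hσb := key b σb mB fb rfl lb hb eb hB
  have hσc := key c σc (cand u) fc (cand_length u) lc hc ec hC
  set H : Subgroup Spor.M23 := π'.range.comap Fu
  have hgs : ∀ t ∈ [ta, tB, tC], InGroup enc (H.map Spor.M23.subtype) t := by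
    intro t ht
    simp only [List.mem_cons, List.not_mem_nil, or_false] at ht
    rcases ht with rfl | rfl | rfl
    exacts [⟨_, ⟨σa, hσa, rfl⟩, ra⟩, ⟨_, ⟨σb, hσb, rfl⟩, rb⟩, ⟨_, ⟨σc, hσc, rfl⟩, rc⟩]
  have hmap : H.map Spor.M23.subtype = Spor.M23 :=
    M23Gen.eq_M23 (Subgroup.map_subtype_le H) (hwa ▸ M23Gen.evalW_inGroup hgs wa)
      (hwb ▸ M23Gen.evalW_inGroup hgs wb)
  have htop : H = ⊤ := Subgroup.map_injective Spor.M23.subtype_injective
    (by rw [hmap, ← MonoidHom.range_eq_map, Subgroup.range_subtype])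
  have hle : Fu.range ≤ π'.range := by
    rintro x ⟨σ, rfl⟩
    exact Subgroup.mem_comap.1 (show σ ∈ H from htop ▸ Subgroup.mem_top σ)
  have heq : Fu.range = π'.range := by
    refine Subgroup.eq_of_le_of_card_ge hle ?_
    rw [← Nat.card_congr (MonoidHom.ofInjective hπ').toEquiv,
      ← Nat.card_congr (MonoidHom.ofInjective hFu).toEquiv, hG, card_SporM23]
  exact ⟨(MonoidHom.ofInjective hπ').trans
    ((MulEquiv.subgroupCongr heq.symm).trans (MonoidHom.ofInjective hFu).symm)⟩

end Gl11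

open Cfsg CfsgLib.Mathieu Gl11 Matrix

/-- The endgame of the uniqueness of M23. -/
theorem isoM23_of_rep {G : Type*} [Group G] [Finite G] [IsSimpleGroup G] (hG : Nat.card G = 10200960)
    (rho : G →* GL (Fin 11) (ZMod 2)) (hrho : Function.Injective rho) (a b c : G) (ha : orderOf a = 23)
    (hb : orderOf b = 11) (hc : orderOf c = 5) (hab : b * a * b⁻¹ = a ^ 2) (hcb : c * b * c⁻¹ = b ^ 4) :
    Cfsg.Spor.IsoM23 G := by
  have hX23 : (rho a : M) ^ 23 = 1 := by
    rw [← Units.val_pow_eq_pow_val, ← map_pow, ← ha, pow_orderOf_eq_one, map_one, Units.val_one]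
  have hX1 : (rho a : M) ≠ 1 := by
    intro h
    have : a = 1 := hrho (by rw [map_one]; exact Units.ext h)
    simp [this] at ha
  obtain ⟨a', ha', hab', hf⟩ : ∃ a' : G, a' ^ 23 = 1 ∧ b * a' * b⁻¹ = a' ^ 2 ∧ fX (rho a' : M) = 0 := by
    rcases exists_root hX23 hX1 with h | h
    · exact ⟨a, by rw [← ha, pow_orderOf_eq_one], hab, h⟩
    · refine ⟨a ^ 22, by rw [← pow_mul, mul_comm, pow_mul, ← ha, pow_orderOf_eq_one, one_pow], ?_, ?_⟩
      · rw [← conj_pow, hab, ← pow_mul, ← pow_mul, mul_comm]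
      · rw [map_pow, Units.val_pow_eq_pow_val]; exact h
  have hY11 : (rho b : M) ^ 11 = 1 := by
    rw [← Units.val_pow_eq_pow_val, ← map_pow, orderOf_dvd_iff_pow_eq_one.1 (dvd_of_eq hb), map_one,
      Units.val_one]
  have hYX : (rho b : M) * (rho a' : M) = (rho a' : M) ^ 2 * (rho b : M) := by
    rw [← Units.val_pow_eq_pow_val, ← Units.val_mul, ← Units.val_mul, ← map_pow, ← map_mul, ← map_mul,
      ← hab', inv_mul_cancel_right]
  obtain ⟨Φ, hΦ, hA, hB⟩ := exists_basis hf hY11 hYX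
  obtain ⟨φ, rfl⟩ := hΦ
  let π : G →* GL (Fin 11) (ZMod 2) := (MulAut.conj φ⁻¹).toMonoidHom.comp rho
  have hπ : Function.Injective π := (MulAut.conj φ⁻¹).injective.comp hrho
  have val : ∀ g, (π g : M) = (↑φ⁻¹ : M) * (rho g : M) * (↑φ : M) := fun g => by simp [π]
  have hπa : (π a' : M) = toMat mA := by
    rw [val, mul_assoc, hA, ← mul_assoc, Units.inv_mul, one_mul]
  have hπb : (π b : M) = toMat mB := by
    rw [val, mul_assoc, hB, ← mul_assoc, Units.inv_mul, one_mul]
  have hC : (π c : M) * toMat mB = toMat mB ^ 4 * (π c : M) := by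
    rw [← hπb, ← Units.val_pow_eq_pow_val, ← Units.val_mul, ← Units.val_mul, ← map_pow, ← map_mul, ← map_mul,
      ← hcb, inv_mul_cancel_right]
  obtain ⟨u, hu, hπc⟩ := exists_cand hC
  have hcu := cand_length u
  have hpow : ∀ g : G, (π g : M) ^ ordM23 = 1 := fun g => by
    rw [← Units.val_pow_eq_pow_val, ← map_pow, ordM23, ← hG, pow_card_eq_one', map_one, Units.val_one]
  have h5 : toMat (cand u) ^ 5 = 1 := by
    rw [← hπc, ← Units.val_pow_eq_pow_val, ← map_pow, orderOf_dvd_iff_pow_eq_one.1 (dvd_of_eq hc), map_one,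
      Units.val_one]
  have hAA : toMat (mulM mA mA) = (π (a' * a') : M) := by
    rw [toMat_mul rfl rfl, map_mul, Units.val_mul, hπa]
  have hCC : toMat (mulM (cand u) (cand u)) = (π (c * c) : M) := by
    rw [toMat_mul hcu hcu, map_mul, Units.val_mul, hπc]
  have hAC : toMat (mulM mA (cand u)) = (π (a' * c) : M) := by
    rw [toMat_mul rfl hcu, map_mul, Units.val_mul, hπa, hπc]
  have hw : ∀ k, 1 ≤ k → k ≤ 6 → toMat (wordM k (cand u)) ^ ordM23 = 1 := by
    intro k _ _
    suffices h : ∃ g : G, toMat (wordM k (cand u)) = (π g : M) by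
      obtain ⟨g, hg⟩ := h
      rw [hg, hpow]
    have l1 : (mulM mA (cand u)).length = 11 := (mulM_length _ _).trans hcu
    have l2 : (mulM (cand u) (cand u)).length = 11 := (mulM_length _ _).trans hcu
    unfold wordM
    split_ifs
    · exact ⟨a' * c, hAC⟩
    · exact ⟨a' * c * c, by rw [toMat_mul l1 hcu, hAC, map_mul π (a' * c), Units.val_mul, hπc]⟩
    · exact ⟨a' * a' * c, by rw [toMat_mul rfl hcu, hAA, map_mul π (a' * a'), Units.val_mul, hπc]⟩
    · exact ⟨a' ^ 5 * c, by
        rw [toMat_mul (powM_length 3 mA 5 rfl) hcu, toMat_powM 3 mA 5 rfl (by norm_num), map_mul,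
          Units.val_mul, map_pow, Units.val_pow_eq_pow_val, hπa, hπc]⟩
    · exact ⟨a' * a' * (c * c), by rw [toMat_mul rfl l2, hAA, hCC, map_mul π (a' * a'), Units.val_mul]⟩
    · exact ⟨a' * c * (a' * (c * c)), by
        rw [toMat_mul l1 ((mulM_length _ _).trans l2), hAC, toMat_mul rfl l2, hCC, ← hπa,
          ← Units.val_mul (π a') (π (c * c)), ← map_mul π a' (c * c), ← Units.val_mul, ← map_mul]⟩
  obtain ⟨s, u₀, hu₀, hs⟩ := exists_survivor hu h5 hw
  have hπc' : (π (c * b ^ s) : M) = toMat (cand u₀) := by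
    rw [map_mul, Units.val_mul, map_pow, Units.val_pow_eq_pow_val, hπb, hπc, hs]
  obtain ⟨tA', tAI', tB', tC'⟩ := tabs_ok
  obtain ⟨σb, rb⟩ := exists_member tB'
  obtain ⟨σc, rc⟩ := exists_member tC'
  rcases hu₀ with rfl | rfl
  · obtain ⟨σa, ra⟩ := exists_member tA'
    obtain ⟨m1, m2, m3⟩ := code_mats
    exact isoM23_of_surv hG π hπ repM repM_injective code_ok ra rb rc (repM_eq ra m1) (repM_eq rb m2)
      (repM_eq rc m3) hπa hπb hπc'
  · obtain ⟨σa, ra⟩ := exists_member tAI'
    obtain ⟨m1, d1, m2, d2, m3, d3⟩ := cocode_mats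
    exact isoM23_of_surv hG π hπ repD repD_injective cocode_ok ra rb rc (repD_eq (repM_eq ra m1) d1)
      (repD_eq (repM_eq rb m2) d2) (repD_eq (repM_eq rc m3) d3) hπa hπb hπc'

end CfsgLib.MTwentyThreeUnique
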