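import Cfsg.Agent.MTwentyThreeUnique.EndgameChecks

/-!
A matrix of order 23 and a matrix of order 11 raising it to the square are simultaneously conjugate to the
multiplication by the variable and the cyclic shift, in a normal basis.
-/

set_option autoImplicit false

namespace CfsgLib.MTwentyThreeUnique.Gl11

open CfsgLib.Mathieu CfsgLib.M23Ext Matrix

theorem inv_ok {n : ℕ} (h0 : n ≠ 0) (hn : n < 2048) : mulmod (getTab invTab 11 n) n = 1 := by
  have hblock : ∀ b < 8, checkInv b = true := fun b hb => by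
    interval_cases b
    exacts [inv_ok0, inv_ok1, inv_ok2, inv_ok3, inv_ok4, inv_ok5, inv_ok6, inv_ok7]
  have h := allBelow_iff.1 (hblock (n / 256) (by omega)) (n % 256) (Nat.mod_lt _ (by norm_num))
  rw [Nat.div_add_mod] at h
  simpa [h0] using h

theorem ev_commute (X : M) (n : ℕ) : Commute X (ev X n) :=
  Commute.sum_right _ _ _ fun i _ => ((Commute.refl X).pow_right i.val).smul_right _

theorem fX_commute (X : M) (n : ℕ) : Commute (fX X) (ev X n) :=
  ((ev_commute X n).pow_left 11).add_left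
    (Commute.sum_left _ _ _ fun i _ => ((ev_commute X n).pow_left i.val).smul_left _)

theorem ev_mulVec_ne {X : M} {v : V} (hv : fX X *ᵥ v = 0) (hv0 : v ≠ 0) {n : ℕ} (h0 : n ≠ 0)
    (hn : n < 2048) : ev X n *ᵥ v ≠ 0 := by
  intro h
  have h1 := ev_mulmod hv (getTab invTab 11 n) n
  rw [inv_ok h0 hn, ev_one, Matrix.one_mulVec, h, Matrix.mulVec_zero] at h1
  exact hv0 h1

theorem fX_eq_zero {X : M} {v : V} (hv : fX X *ᵥ v = 0) (hv0 : v ≠ 0) : fX X = 0 := by
  have hinj : Function.Injective fun n : Fin 2048 => ev X n.val *ᵥ v := fun a b h => by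
    by_contra hne
    refine ev_mulVec_ne hv hv0 (n := a.val ^^^ b.val) ?_ (Nat.xor_lt_two_pow (n := 11) a.isLt b.isLt) ?_
    · exact fun h => hne (Fin.ext (Nat.xor_eq_zero_iff.1 h))
    · rw [ev_xor, Matrix.add_mulVec, show ev X a.val *ᵥ v = ev X b.val *ᵥ v from h]
      funext i
      rw [Pi.add_apply, Pi.zero_apply, CharTwo.add_self_eq_zero]
  have hbij := (Fintype.bijective_iff_injective_and_card _).2 ⟨hinj, by simp⟩
  refine ext_cols fun j => ?_
  obtain ⟨n, hn⟩ := hbij.2 (vecOf (2 ^ j.val))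
  simp only at hn
  rw [Matrix.zero_mulVec, ← hn, Matrix.mulVec_mulVec, (fX_commute X n.val).eq, ← Matrix.mulVec_mulVec, hv,
    Matrix.mulVec_zero]

theorem fX_expand (X : M) : fX X = X ^ 11 + X ^ 9 + X ^ 7 + X ^ 6 + X ^ 5 + X + 1 := by
  simp [fX, ev, bit, lowF, Fin.sum_univ_succ, Nat.testBit_succ, Nat.testBit_zero]
  abel

/-- The value of the reciprocal polynomial. -/
def gX (X : M) : M := X ^ 11 + X ^ 10 + X ^ 6 + X ^ 5 + X ^ 4 + X ^ 2 + 1

theorem factor_identity (X : M) : fX X * gX X * (X + 1) = X ^ 23 + 1 := by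
  have h : (Polynomial.X ^ 11 + Polynomial.X ^ 9 + Polynomial.X ^ 7 + Polynomial.X ^ 6 + Polynomial.X ^ 5 +
        Polynomial.X + 1 : Polynomial (ZMod 2)) *
      (Polynomial.X ^ 11 + Polynomial.X ^ 10 + Polynomial.X ^ 6 + Polynomial.X ^ 5 + Polynomial.X ^ 4 +
        Polynomial.X ^ 2 + 1) * (Polynomial.X + 1) = Polynomial.X ^ 23 + 1 := by
    ring_nf
    reduce_mod_char
  have := congrArg (Polynomial.aeval X) h
  simpa [fX_expand, gX] using this

theorem exists_root {X : M} (h23 : X ^ 23 = 1) (hX : X ≠ 1) : fX X = 0 ∨ fX (X ^ 22) = 0 := by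
  have hrec : fX (X ^ 22) = X ^ 12 * gX X := by
    have e : ∀ n, X ^ n = X ^ (n % 23) := fun n => by
      conv_lhs => rw [← Nat.mod_add_div n 23]
      rw [pow_add, pow_mul, h23, one_pow, mul_one]
    rw [fX_expand, gX]
    simp only [← pow_mul, mul_add, ← pow_add, mul_one]
    rw [e (22 * 11), e (22 * 9), e (22 * 7), e (22 * 6), e (22 * 5), e (12 + 11)]
    norm_num
    abel
  by_contra hc
  push Not at hc
  have hf : ∀ w, fX X *ᵥ w = 0 → w = 0 := fun w hw => by_contra fun h0 => hc.1 (fX_eq_zero hw h0)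
  have hg : ∀ w, gX X *ᵥ w = 0 → w = 0 := fun w hw => by_contra fun h0 => hc.2 (fX_eq_zero (v := w)
    (by rw [hrec, ← Matrix.mulVec_mulVec, hw, Matrix.mulVec_zero]) h0)
  refine hX ?_
  have hz : X + 1 = 0 := ext_cols fun j => by
    rw [Matrix.zero_mulVec]
    refine hg _ (hf _ ?_)
    rw [Matrix.mulVec_mulVec, Matrix.mulVec_mulVec, factor_identity, h23]
    funext i
    simp [Matrix.add_mulVec, CharTwo.add_self_eq_zero]
  rw [eq_neg_of_add_eq_zero_left hz]
  ext i j
  rw [Matrix.neg_apply, ZMod.neg_eq_self_mod_two]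

theorem exists_fixed {Y : M} (h : Y ^ 11 = 1) : ∃ v : V, v ≠ 0 ∧ Y *ᵥ v = v := by
  classical
  haveI : Fact (Nat.Prime 11) := ⟨by norm_num⟩
  let σ : Equiv.Perm V :=
    { toFun := fun v => Y *ᵥ v
      invFun := fun v => (Y ^ 10) *ᵥ v
      left_inv := fun v => by
        show (Y ^ 10) *ᵥ (Y *ᵥ v) = v
        rw [Matrix.mulVec_mulVec, ← pow_succ, h, Matrix.one_mulVec]
      right_inv := fun v => by
        show Y *ᵥ ((Y ^ 10) *ᵥ v) = v
        rw [Matrix.mulVec_mulVec, ← pow_succ', h, Matrix.one_mulVec] }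
  have hk : ∀ k, ∀ v : V, (σ ^ k) v = (Y ^ k) *ᵥ v := by
    intro k
    induction k with
    | zero => simp
    | succ k ih =>
      intro v
      rw [pow_succ', Equiv.Perm.mul_apply, ih, pow_succ', ← Matrix.mulVec_mulVec]
      rfl
  have hσ : σ ^ 11 ^ 1 = 1 := Equiv.ext fun v => by rw [pow_one, hk, h]; simp
  have hmod := Equiv.Perm.card_compl_support_modEq hσ
  rw [show Fintype.card V = 2048 by simp] at hmod
  by_contra hne
  push Not at hne
  have h0 : σ.supportᶜ = {0} := by
    ext v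
    simp only [Finset.mem_compl, Equiv.Perm.mem_support, not_not, Finset.mem_singleton]
    constructor
    · exact fun hv => by_contra fun h0 => hne v h0 hv
    · rintro rfl
      exact Matrix.mulVec_zero Y
  rw [h0, Finset.card_singleton] at hmod
  exact absurd hmod (by decide)

/-- The square of a polynomial. -/
def sqRows : List ℕ := (List.range 11).map fun i => step^[2 * i] 1

theorem basis_checks :
    sameM (mulM hs mA) (hs.map step) = true ∧
      sameM (mulM hs mB) (hs.map fun r => xorSel sqRows r) = true ∧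
        sameM (mulM hsInv hs) idM = true ∧ (allBelow 11 fun j => hs.getD j 0 < 2048) = true := by
  decide +kernel

/-- The change of basis. -/
def basisMat (X : M) (v : V) : M := Matrix.of fun i j => (ev X (hs.getD j.val 0) *ᵥ v) i

theorem basisMat_mulVec (X : M) (v : V) (n : ℕ) : basisMat X v *ᵥ vecOf n = ev X (xorSel hs n) *ᵥ v := by
  rw [mulVec_vecOf, sum_bit (fun r => ev X r *ᵥ v) (by simp [ev_zero])
    (fun x y => by rw [ev_xor, Matrix.add_mulVec]) hs rfl n]
  rfl

theorem ev_sq {X : M} {v : V} (hf : fX X *ᵥ v = 0) (r : ℕ) :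
    ev X (xorSel sqRows r) *ᵥ v = (∑ i : Fin 11, bit r i.val • X ^ (2 * i.val)) *ᵥ v := by
  have hlen : sqRows.length = 11 := rfl
  rw [sum_bit (fun n => ev X n *ᵥ v) (by simp [ev_zero])
    (fun x y => by rw [ev_xor, Matrix.add_mulVec]) sqRows hlen r, Matrix.sum_mulVec]
  refine Finset.sum_congr rfl fun i _ => ?_
  rw [Matrix.smul_mulVec, show sqRows.getD i.val 0 = step^[2 * i.val] 1 by
    have : i.val < 11 := i.isLt
    simp [sqRows, List.getD_eq_getElem?_getD, this], ev_iterate hf, ev_one, Matrix.one_mulVec]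

theorem getD_map {f : ℕ → ℕ} {l : List ℕ} {j : ℕ} (hj : j < l.length) :
    (l.map f).getD j 0 = f (l.getD j 0) := by
  simp [List.getD_eq_getElem?_getD, List.getElem?_eq_getElem hj]

/-- The simultaneous normal form. -/
theorem exists_basis {X Y : M} (hf : fX X = 0) (hY : Y ^ 11 = 1) (hYX : Y * X = X ^ 2 * Y) :
    ∃ Φ : M, IsUnit Φ ∧ X * Φ = Φ * toMat mA ∧ Y * Φ = Φ * toMat mB := by
  obtain ⟨v, hv0, hv⟩ := exists_fixed hY
  have hfv : fX X *ᵥ v = 0 := by rw [hf, Matrix.zero_mulVec]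
  obtain ⟨cA, cB, cI, cLt⟩ := basis_checks
  refine ⟨basisMat X v, ?_, ?_, ?_⟩
  · refine Matrix.mulVec_injective_iff_isUnit.1 fun a b hab => ?_
    obtain ⟨n, hn, hnv⟩ := exists_vecOf (a - b)
    have hz : basisMat X v *ᵥ vecOf n = 0 := by
      rw [← hnv, Matrix.mulVec_sub]; exact sub_eq_zero.2 hab
    rw [basisMat_mulVec] at hz
    have hlt : xorSel hs n < 2 ^ 11 := xorSel_lt hs n (by decide)
    have h0 : xorSel hs n = 0 := by_contra fun h0 => ev_mulVec_ne hfv hv0 h0 hlt hz
    have h1 : vecOf n = 0 := by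
      rw [← Matrix.one_mulVec (vecOf n), ← toMat_idM, ← toMat_congr cI, toMat_mul rfl rfl,
        ← Matrix.mulVec_mulVec, toMat_mulVec hs rfl, h0, vecOf_zero, Matrix.mulVec_zero]
    exact sub_eq_zero.1 (hnv.trans h1)
  · refine ext_cols fun j => ?_
    rw [← Matrix.mulVec_mulVec, ← Matrix.mulVec_mulVec, toMat_mulVec mA rfl, basisMat_mulVec,
      basisMat_mulVec, ← ev_step hfv]
    have hc := beq_iff_eq.1 (allBelow_iff.1 cA j.val j.isLt)
    rw [show (mulM hs mA).getD j.val 0 = xorSel hs (mA.getD j.val 0) from getD_map (show j.val < mA.length from j.isLt),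
      getD_map (show j.val < hs.length from j.isLt),
      Nat.mod_eq_of_lt (show xorSel hs _ < 2048 from xorSel_lt (b := 11) hs _ (by decide)),
      Nat.mod_eq_of_lt (step_lt _)] at hc
    rw [show xorSel mA (2 ^ j.val) = mA.getD j.val 0 from (by decide +kernel : ∀ j < 11,
      xorSel mA (2 ^ j) = mA.getD j 0) j.val j.isLt, hc,
      show xorSel hs (2 ^ j.val) = hs.getD j.val 0 from (by decide +kernel : ∀ j < 11,
      xorSel hs (2 ^ j) = hs.getD j 0) j.val j.isLt]
  · refine ext_cols fun j => ?_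
    rw [← Matrix.mulVec_mulVec, ← Matrix.mulVec_mulVec, toMat_mulVec mB rfl, basisMat_mulVec,
      basisMat_mulVec, Matrix.mulVec_mulVec]
    have hc := beq_iff_eq.1 (allBelow_iff.1 cB j.val j.isLt)
    rw [show (mulM hs mB).getD j.val 0 = xorSel hs (mB.getD j.val 0) from getD_map (show j.val < mB.length from j.isLt),
      getD_map (show j.val < hs.length from j.isLt),
      Nat.mod_eq_of_lt (show xorSel hs _ < 2048 from xorSel_lt (b := 11) hs _ (by decide)),
      Nat.mod_eq_of_lt (show xorSel sqRows _ < 2048 from xorSel_lt (b := 11) sqRows _ (by decide +kernel))] at hc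
    rw [show xorSel mB (2 ^ j.val) = mB.getD j.val 0 from (by decide +kernel : ∀ j < 11,
      xorSel mB (2 ^ j) = mB.getD j 0) j.val j.isLt, hc, ev_sq hfv,
      show xorSel hs (2 ^ j.val) = hs.getD j.val 0 from (by decide +kernel : ∀ j < 11,
      xorSel hs (2 ^ j) = hs.getD j 0) j.val j.isLt]
    have hs' : Y * ev X (hs.getD j.val 0) =
        (∑ i : Fin 11, bit (hs.getD j.val 0) i.val • X ^ (2 * i.val)) * Y := by
      rw [ev, Finset.mul_sum, Finset.sum_mul]
      refine Finset.sum_congr rfl fun i _ => ?_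
      rw [mul_smul_comm, smul_mul_assoc, pow_mul]
      exact congrArg _ ((show SemiconjBy Y X (X ^ 2) from hYX).pow_right i.val)
    rw [hs', ← Matrix.mulVec_mulVec, hv]

end CfsgLib.MTwentyThreeUnique.Gl11
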