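import Cfsg.Agent.MTwentyThreeUnique.EndgameChecks

/-!
The classification of the 2048 candidates, block by block.
-/

set_option autoImplicit false

namespace CfsgLib.MTwentyThreeUnique.Gl11

theorem block_ok0 : checkBlock 0 = true := by decide +kernel

theorem block_ok1 : checkBlock 1 = true := by decide +kernel

theorem block_ok2 : checkBlock 2 = true := by decide +kernel

theorem block_ok3 : checkBlock 3 = true := by decide +kernel

theorem block_ok4 : checkBlock 4 = true := by decide +kernel

theorem block_ok5 : checkBlock 5 = true := by decide +kernel

theorem block_ok6 : checkBlock 6 = true := by decide +kernel

theorem block_ok7 : checkBlock 7 = true := by decide +kernel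

theorem block_ok8 : checkBlock 8 = true := by decide +kernel

theorem block_ok9 : checkBlock 9 = true := by decide +kernel

theorem block_ok10 : checkBlock 10 = true := by decide +kernel

theorem block_ok11 : checkBlock 11 = true := by decide +kernel

theorem block_ok12 : checkBlock 12 = true := by decide +kernel

theorem block_ok13 : checkBlock 13 = true := by decide +kernel

theorem block_ok14 : checkBlock 14 = true := by decide +kernel

theorem block_ok15 : checkBlock 15 = true := by decide +kernel

end CfsgLib.MTwentyThreeUnique.Gl11
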