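import Cfsg.Agent.MTwentyThreeUnique.EndgameMat
import Cfsg.Agent.MTwentyThreeUnique.EndgameData

/-!
The finite checks of the recognition of M23 inside GL(11, 2): the normal basis, and the classification of the
2048 candidates `P * circulant u` for an element normalising the cyclic shift.
-/

set_option autoImplicit false

namespace CfsgLib.MTwentyThreeUnique.Gl11

open CfsgLib.Mathieu CfsgLib.M23Ext

/-- An entry of a packed table, in blocks of 64 entries of `w` bits. -/
def getTab (l : List ℕ) (w n : ℕ) : ℕ := (l.getD (n / 64) 0 >>> (w * (n % 64))) % 2 ^ w

/-- Rotation of eleven bits. -/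
def rot (u i : ℕ) : ℕ := ((u <<< i) ||| (u >>> (11 - i))) % 2048

/-- The circulant with first column `u`. -/
def circ (u : ℕ) : List ℕ := (List.range 11).map (rot u)

/-- The candidate for an element of order 5. -/
def cand (u : ℕ) : List ℕ := mulM mP (circ u)

/-- The first column of a fifth power. -/
def fifth (c : List ℕ) : ℕ := xorSel c (xorSel c (xorSel c (xorSel c (xorSel c 1))))

/-- The six words, in the model of an element of order 23 and a candidate. -/
def wordM (k : ℕ) (c : List ℕ) : List ℕ :=
  if k = 1 then mulM mA c
  else if k = 2 then mulM (mulM mA c) c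
  else if k = 3 then mulM (mulM mA mA) c
  else if k = 4 then mulM (powM 3 mA 5) c
  else if k = 5 then mulM (mulM mA mA) (mulM c c)
  else mulM (mulM mA c) (mulM mA (mulM c c))

/-- The order of M23. -/
def ordM23 : ℕ := 10200960

/-- The fate of one candidate. -/
def checkU (u : ℕ) : Bool :=
  let k := getTab kindTab 4 u
  if k = 0 then !(fifth (cand u) % 2048 == 1)
  else if k ≤ 6 then !(sameM (powM 24 (wordM k (cand u)) ordM23) idM)
  else sameM (mulM (cand u) (powM 4 mB (getTab shiftTab 4 u)))
    (cand (if k = 7 then uCode else uCocode))

/-- The fates of 128 candidates in succession. -/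
def checkBlock (b : ℕ) : Bool := allBelow 128 fun i => checkU (128 * b + i)

/-- The inverse table is correct on one block. -/
def checkInv (b : ℕ) : Bool :=
  allBelow 256 fun i => (256 * b + i == 0) || (mulmod (getTab invTab 11 (256 * b + i)) (256 * b + i) == 1)

theorem inv_ok0 : checkInv 0 = true := by decide +kernel
theorem inv_ok1 : checkInv 1 = true := by decide +kernel
theorem inv_ok2 : checkInv 2 = true := by decide +kernel
theorem inv_ok3 : checkInv 3 = true := by decide +kernel
theorem inv_ok4 : checkInv 4 = true := by decide +kernel
theorem inv_ok5 : checkInv 5 = true := by decide +kernel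
theorem inv_ok6 : checkInv 6 = true := by decide +kernel
theorem inv_ok7 : checkInv 7 = true := by decide +kernel

end CfsgLib.MTwentyThreeUnique.Gl11
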