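import Mathlib
import Cfsg.Agent.M23Ext.Loop

/-!
Matrices of size 11 over the field with two elements, stored as lists of eleven columns (numbers below 2048),
and the evaluation of a polynomial of degree below 11, stored as a number below 2048, at a matrix.
-/

set_option autoImplicit false

namespace CfsgLib.MTwentyThreeUnique.Gl11

open CfsgLib.Mathieu CfsgLib.M23Ext Matrix

/-- Row vectors of length 11. -/
abbrev V : Type := Fin 11 → ZMod 2

/-- Matrices of size 11. -/
abbrev M : Type := Matrix (Fin 11) (Fin 11) (ZMod 2)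

/-- A bit as an element of the field. -/
def bit (n i : ℕ) : ZMod 2 := if n.testBit i then 1 else 0

/-- The vector of the low bits of a number. -/
def vecOf (n : ℕ) : V := fun i => bit n i.val

theorem bit_xor (a b i : ℕ) : bit (a ^^^ b) i = bit a i + bit b i := by
  unfold bit
  rw [Nat.testBit_xor]
  cases a.testBit i <;> cases b.testBit i <;> decide

theorem bit_zero (i : ℕ) : bit 0 i = 0 := by simp [bit]

theorem vecOf_xor (a b : ℕ) : vecOf (a ^^^ b) = vecOf a + vecOf b := funext fun i => bit_xor a b i.val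

theorem vecOf_zero : vecOf 0 = 0 := funext fun i => bit_zero i.val

theorem bit_two_pow (j i : ℕ) : bit (2 ^ j) i = if j = i then 1 else 0 := by
  simp [bit, Nat.testBit_two_pow]

theorem eq_of_vecOf_eq {a b : ℕ} (ha : a < 2048) (hb : b < 2048) (h : vecOf a = vecOf b) : a = b := by
  refine Nat.eq_of_testBit_eq fun i => ?_
  rcases Nat.lt_or_ge i 11 with hi | hi
  · have := congrFun h ⟨i, hi⟩
    simp only [vecOf, bit] at this
    revert this
    cases a.testBit i <;> cases b.testBit i <;> simp
  · rw [Nat.testBit_lt_two_pow (lt_of_lt_of_le ha (Nat.pow_le_pow_right (by norm_num : 0 < 2) hi)),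
      Nat.testBit_lt_two_pow (lt_of_lt_of_le hb (Nat.pow_le_pow_right (by norm_num : 0 < 2) hi))]

theorem exists_vecOf (v : V) : ∃ n, n < 2048 ∧ v = vecOf n := by
  have hinj : Function.Injective fun n : Fin 2048 => vecOf n.val := fun a b h =>
    Fin.ext (eq_of_vecOf_eq a.isLt b.isLt h)
  have hbij := (Fintype.bijective_iff_injective_and_card _).2 ⟨hinj, by simp⟩
  obtain ⟨n, hn⟩ := hbij.2 v
  exact ⟨n.val, n.isLt, hn.symm⟩

/-- The matrix with given columns. -/
def toMat (cols : List ℕ) : M := Matrix.of fun i j => bit (cols.getD j.val 0) i.val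

theorem toMat_apply (cols : List ℕ) (i j : Fin 11) : toMat cols i j = bit (cols.getD j.val 0) i.val := rfl

theorem sum_bit {W : Type*} [AddCommMonoid W] [Module (ZMod 2) W] (G : ℕ → W) (h0 : G 0 = 0)
    (hadd : ∀ x y, G (x ^^^ y) = G x + G y) (l : List ℕ) (hl : l.length = 11) (n : ℕ) :
    G (xorSel l n) = ∑ j : Fin 11, bit n j.val • G (l.getD j.val 0) := by
  rw [additive_xorSel G h0 hadd, hl, ← Fin.sum_univ_eq_sum_range]
  refine Finset.sum_congr rfl fun j _ => ?_
  unfold bit
  split_ifs <;> simp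

theorem mulVec_vecOf (A : M) (n : ℕ) :
    A *ᵥ vecOf n = ∑ j : Fin 11, bit n j.val • fun i => A i j := by
  funext i
  simp only [Matrix.mulVec, dotProduct, vecOf, Finset.sum_apply, Pi.smul_apply, smul_eq_mul]
  exact Finset.sum_congr rfl fun j _ => mul_comm _ _

theorem toMat_mulVec (cols : List ℕ) (hl : cols.length = 11) (n : ℕ) :
    toMat cols *ᵥ vecOf n = vecOf (xorSel cols n) := by
  rw [mulVec_vecOf, sum_bit vecOf vecOf_zero vecOf_xor cols hl n]
  rfl

theorem col_eq (A : M) (j : Fin 11) : A *ᵥ vecOf (2 ^ j.val) = fun i => A i j := by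
  funext i
  simp only [Matrix.mulVec, dotProduct, vecOf, bit_two_pow]
  rw [Finset.sum_eq_single j]
  · simp
  · intro k _ hk
    rw [if_neg (fun h => hk (Fin.ext h).symm), mul_zero]
  · simp

theorem ext_cols {A B : M} (h : ∀ j : Fin 11, A *ᵥ vecOf (2 ^ j.val) = B *ᵥ vecOf (2 ^ j.val)) : A = B := by
  ext i j
  have := congrFun (h j) i
  rwa [col_eq, col_eq] at this

/-- Composition of matrices given by columns. -/
def mulM (a b : List ℕ) : List ℕ := b.map (xorSel a)

theorem mulM_length (a b : List ℕ) : (mulM a b).length = b.length := List.length_map _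

theorem toMat_mul {a b : List ℕ} (ha : a.length = 11) (hb : b.length = 11) :
    toMat (mulM a b) = toMat a * toMat b := by
  refine ext_cols fun j => ?_
  rw [← Matrix.mulVec_mulVec, col_eq, col_eq (toMat b) j]
  show vecOf ((mulM a b).getD j.val 0) = _
  rw [show (fun i => toMat b i j) = vecOf (b.getD j.val 0) from rfl, toMat_mulVec a ha]
  congr 1
  have hj : j.val < b.length := lt_of_lt_of_eq j.isLt hb.symm
  simp [mulM, List.getD_eq_getElem?_getD, List.getElem?_map, List.getElem?_eq_getElem hj]

/-- The identity, by columns. -/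
def idM : List ℕ := [1, 2, 4, 8, 16, 32, 64, 128, 256, 512, 1024]

theorem toMat_idM : toMat idM = 1 := by
  refine ext_cols fun j => ?_
  rw [col_eq, Matrix.one_mulVec]
  show vecOf (idM.getD j.val 0) = _
  rw [(by decide +kernel : ∀ j : Fin 11, idM.getD j.val 0 = 2 ^ j.val) j]

/-- Powers by repeated squaring. -/
def powM : ℕ → List ℕ → ℕ → List ℕ
  | 0, _, _ => idM
  | fuel + 1, a, n =>
    if n = 0 then idM else if n % 2 = 0 then powM fuel (mulM a a) (n / 2)
      else mulM a (powM fuel (mulM a a) (n / 2))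

theorem powM_length : ∀ (fuel : ℕ) (a : List ℕ) (n : ℕ), a.length = 11 → (powM fuel a n).length = 11
  | 0, _, _, _ => rfl
  | fuel + 1, a, n, ha => by
    have h2 : (mulM a a).length = 11 := (mulM_length _ _).trans ha
    unfold powM
    split_ifs
    · rfl
    · exact powM_length fuel _ _ h2
    · exact (mulM_length _ _).trans (powM_length fuel _ _ h2)

theorem toMat_powM : ∀ (fuel : ℕ) (a : List ℕ) (n : ℕ), a.length = 11 → n < 2 ^ fuel →
    toMat (powM fuel a n) = toMat a ^ n
  | 0, _, n, _, hn => by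
    obtain rfl : n = 0 := by simpa using hn
    rw [pow_zero]; exact toMat_idM
  | fuel + 1, a, n, ha, hn => by
    have h2 : (mulM a a).length = 11 := (mulM_length _ _).trans ha
    have hlt : n / 2 < 2 ^ fuel := by
      rw [Nat.div_lt_iff_lt_mul (by norm_num)]
      rwa [pow_succ] at hn
    have hrec := toMat_powM fuel (mulM a a) (n / 2) h2 hlt
    rw [toMat_mul ha ha, ← pow_two, ← pow_mul] at hrec
    unfold powM
    split_ifs with h0 h1
    · subst h0
      rw [pow_zero]; exact toMat_idM
    · rw [hrec]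
      congr 1
      omega
    · rw [toMat_mul ha (powM_length fuel _ _ h2), hrec, ← pow_succ']
      congr 1
      omega

/-- Two lists of columns give the same matrix. -/
def sameM (a b : List ℕ) : Bool :=
  allBelow 11 fun j => (a.getD j 0) % 2048 == (b.getD j 0) % 2048

theorem bit_mod {n i : ℕ} (hi : i < 11) : bit (n % 2048) i = bit n i := by
  unfold bit
  rw [show n % 2048 = n % 2 ^ 11 from rfl, Nat.testBit_mod_two_pow]
  simp [hi]

theorem toMat_congr {a b : List ℕ} (h : sameM a b = true) : toMat a = toMat b := by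
  ext i j
  have := beq_iff_eq.1 (allBelow_iff.1 h j.val j.isLt)
  rw [toMat_apply, toMat_apply, ← bit_mod i.isLt, this, bit_mod i.isLt]

theorem sameM_of_eq {a b : List ℕ} (h : toMat a = toMat b) : sameM a b = true := by
  refine allBelow_iff.2 fun j hj => beq_iff_eq.2 ?_
  refine eq_of_vecOf_eq (Nat.mod_lt _ (by norm_num)) (Nat.mod_lt _ (by norm_num)) ?_
  funext i
  show bit _ _ = bit _ _
  rw [bit_mod i.isLt, bit_mod i.isLt]
  exact congrFun (congrFun h i) ⟨j, hj⟩

/-! ### Polynomials at a matrix -/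

/-- The low part of the polynomial of degree 11 of the elements of order 23. -/
def lowF : ℕ := 739

/-- Multiplication by the variable. -/
def step (r : ℕ) : ℕ := (2 * (r % 1024)) ^^^ (if r.testBit 10 then lowF else 0)

/-- Iterates of a step. -/
def steps : ℕ → ℕ → List ℕ
  | 0, _ => []
  | k + 1, r => r :: steps k (step r)

/-- Product of polynomials. -/
def mulmod (a b : ℕ) : ℕ := xorSel (steps 11 b) a

theorem steps_length : ∀ k r, (steps k r).length = k
  | 0, _ => rfl
  | k + 1, r => by simp [steps, steps_length k]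

theorem steps_getD : ∀ k r i, i < k → (steps k r).getD i 0 = step^[i] r
  | 0, _, i, h => absurd h (Nat.not_lt_zero i)
  | k + 1, r, 0, _ => rfl
  | k + 1, r, i + 1, h => by
    rw [steps, List.getD_cons_succ, steps_getD k (step r) i (by omega)]
    rfl

/-- Evaluation of a polynomial. -/
def ev (X : M) (n : ℕ) : M := ∑ i : Fin 11, bit n i.val • X ^ i.val

theorem ev_xor (X : M) (a b : ℕ) : ev X (a ^^^ b) = ev X a + ev X b := by
  simp only [ev, bit_xor, add_smul, Finset.sum_add_distrib]

theorem ev_zero (X : M) : ev X 0 = 0 := by simp [ev, bit_zero]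

theorem ev_one (X : M) : ev X 1 = 1 := by
  rw [ev, Finset.sum_eq_single (0 : Fin 11)]
  · simp [bit]
  · intro i _ hi
    have : i.val ≠ 0 := fun h => hi (Fin.ext h)
    simp [bit, Nat.testBit_one_eq_true_iff_self_eq_zero, this]
  · simp

/-- The value of the polynomial of degree 11. -/
def fX (X : M) : M := X ^ 11 + ev X lowF

theorem step_lt (r : ℕ) : step r < 2048 := by
  have h1 : 2 * (r % 1024) < 2 ^ 11 := by
    have := Nat.mod_lt r (show 1024 > 0 by norm_num)
    norm_num
    omega
  have h2 : (if r.testBit 10 then lowF else 0) < 2 ^ 11 := by split_ifs <;> decide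
  exact Nat.xor_lt_two_pow h1 h2

theorem ev_double (X : M) (r : ℕ) : ev X (2 * (r % 1024)) + bit r 10 • X ^ 11 = X * ev X r := by
  rw [ev, ev, Finset.mul_sum, Fin.sum_univ_succ]
  simp only [mul_smul_comm, ← pow_succ', Fin.val_succ]
  conv_rhs => rw [Fin.sum_univ_castSucc]
  have h0 : bit (2 * (r % 1024)) ((0 : Fin 11).val) = 0 := by simp [bit]
  rw [h0, zero_smul, zero_add]
  refine congrArg₂ (· + ·) (Finset.sum_congr rfl fun i _ => ?_) ?_
  swap
  · simp only [Fin.val_last]
  have hb : bit (2 * (r % 1024)) (i.val + 1) = bit r i.val := by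
    have : i.val < 10 := i.isLt
    unfold bit
    rw [Nat.testBit_succ, Nat.mul_div_cancel_left _ (show 0 < 2 by norm_num),
      show r % 1024 = r % 2 ^ 10 from rfl, Nat.testBit_mod_two_pow]
    simp [this]
  rw [hb, Fin.val_castSucc]

theorem ev_step {X : M} {v : V} (hv : fX X *ᵥ v = 0) (r : ℕ) :
    ev X (step r) *ᵥ v = X *ᵥ (ev X r *ᵥ v) := by
  rw [Matrix.mulVec_mulVec, ← ev_double, step, ev_xor, Matrix.add_mulVec, Matrix.add_mulVec, add_right_inj]
  unfold bit
  split_ifs
  · rw [one_smul]
    have h : X ^ 11 *ᵥ v + ev X lowF *ᵥ v = 0 := by rw [← Matrix.add_mulVec]; exact hv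
    rw [eq_neg_of_add_eq_zero_right h]
    funext i
    exact (ZMod.neg_eq_self_mod_two _)
  · rw [ev_zero, zero_smul]

theorem ev_iterate {X : M} {v : V} (hv : fX X *ᵥ v = 0) (r : ℕ) :
    ∀ i, ev X (step^[i] r) *ᵥ v = (X ^ i) *ᵥ (ev X r *ᵥ v)
  | 0 => by simp
  | i + 1 => by
    rw [Function.iterate_succ_apply', ev_step hv, ev_iterate hv r i, Matrix.mulVec_mulVec, ← pow_succ']

theorem ev_mulmod {X : M} {v : V} (hv : fX X *ᵥ v = 0) (a b : ℕ) :
    ev X (mulmod a b) *ᵥ v = ev X a *ᵥ (ev X b *ᵥ v) := by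
  have h := sum_bit (fun n => ev X n *ᵥ v) (by simp [ev_zero])
    (fun x y => by rw [ev_xor, Matrix.add_mulVec]) (steps 11 b) (steps_length 11 b) a
  rw [mulmod]
  refine h.trans ?_
  rw [show ev X a = ∑ i : Fin 11, bit a i.val • X ^ i.val from rfl, Matrix.sum_mulVec]
  refine Finset.sum_congr rfl fun j _ => ?_
  rw [steps_getD 11 b j.val j.isLt, ev_iterate hv, Matrix.smul_mulVec]

end CfsgLib.MTwentyThreeUnique.Gl11
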