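import Cfsg.Agent.MTwentyThreeUnique.Shape

/-!
Faithfulness in a simple group, and the character of the complement on the fixed space of `P`.
-/

set_option autoImplicit false
set_option linter.style.haveILetI false
set_option linter.unusedSectionVars false

open Cfsg CfsgLib.Characters CfsgLib.DefectOne CfsgLib.BrauerOrderP
open scoped commutatorElement

namespace CfsgLib.MTwentyThreeUnique

universe u

variable {G : Type u} [Group G] [Fintype G]

/-- A non-trivial irreducible character of a simple group is faithful. -/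
theorem eq_one_of_apply_eq [IsSimpleGroup G] (χ : IrrCharacter G)
    (hne : (χ : G → ℂ) ≠ fun _ => 1) {g : G} (hg : (χ : G → ℂ) g = (χ : G → ℂ) 1) : g = 1 := by
  obtain ⟨n, ρ, -, hρ⟩ := χ.2
  have hker : ∀ x : G, x ∈ MonoidHom.ker ρ ↔ (χ : G → ℂ) x = (χ : G → ℂ) 1 := by
    intro x
    rw [MonoidHom.mem_ker, Module.End.one_eq_id, ← char_eq_finrank_iff ρ x, ← hρ,
      Representation.char_one]
  rcases (MonoidHom.normal_ker ρ).eq_bot_or_eq_top with h | h
  · exact Subgroup.mem_bot.1 (h ▸ (hker g).2 hg)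
  · exfalso
    have h1 : ∀ x, (χ : G → ℂ) x = (χ : G → ℂ) 1 := fun x => (hker x).1 (h ▸ Subgroup.mem_top x)
    have h2 := classInner_isIrr_ne χ.2 (isIrr_one (G := G)) hne
    rw [Cfsg.classInner] at h2
    simp only [h1, map_one, mul_one, Finset.sum_const, Finset.card_univ, nsmul_eq_mul] at h2
    rw [Nat.card_eq_fintype_card, inv_mul_cancel_left₀
      (Nat.cast_ne_zero.2 Fintype.card_ne_zero), ← Blocks.charDegree_cast, Nat.cast_eq_zero] at h2
    exact Blocks.charDegree_ne_zero χ h2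

variable {p : ℕ} [Fact p.Prime] (L : Local p G)

/-- When `χ 1 + sv χ = p`, the fixed space of `P` gives a linear character of `K`. -/
theorem exists_linear_fixed {χ : IrrCharacter G} (h : χ ∈ blk L)
    (h1 : (Cfsg.charDegree (χ : G → ℂ) : ℤ) + sv L χ = p) :
    ∃ ψ : L.K →* ℂˣ, ∀ k : L.K, (χ : G → ℂ) (k : G) = p * (ψ k : ℂ) - sv L χ := by
  classical
  haveI := L.finite_lam
  letI := Fintype.ofFinite L.Lam
  letI := Fintype.ofFinite L.PK
  haveI := Fintype.ofFinite (L.P : Subgroup G)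
  haveI := Fintype.ofFinite L.K
  set F : L.K → ℂ := fun k => ∑ u : ↥(L.P : Subgroup G), L.res (χ : G → ℂ) (u, k) with hF
  have hFv : ∀ k : L.K, F k = (χ : G → ℂ) (k : G) + (sv L χ : ℂ) := by
    intro k
    show ∑ u : ↥(L.P : Subgroup G), L.res (χ : G → ℂ) (u, k) = _
    simp only [Local.res, Local.emb_apply]
    rw [← Finset.add_sum_erase _ _ (Finset.mem_univ (1 : ↥(L.P : Subgroup G)))]
    simp only [OneMemClass.coe_one, one_mul]
    congr 1
    rw [← sum_values L h]
    refine Finset.sum_bij' (fun u _ => (u : G)) (fun u hu => ⟨u, ((mem_pNe L).1 hu).1⟩)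
      (fun u hu => (mem_pNe L).2 ⟨u.2, fun e => Finset.ne_of_mem_erase hu (Subtype.ext e)⟩)
      (fun u hu => Finset.mem_erase.2 ⟨fun e => ((mem_pNe L).1 hu).2 (congrArg Subtype.val e),
        Finset.mem_univ _⟩) (fun u _ => rfl) (fun u _ => rfl) fun u hu => ?_
    exact value_indep L h u.2 (fun e => Finset.ne_of_mem_erase hu (Subtype.ext e)) k.2
  have hcl : Cfsg.IsClassFunction L.K F := by
    intro a b
    refine Finset.sum_congr rfl fun u _ => ?_
    have : L.emb (u, b * a * b⁻¹) = (b : G) * L.emb (u, a) * (b : G)⁻¹ := by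
      simp only [Local.emb_apply, Subgroup.coe_mul, InvMemClass.coe_inv]
      rw [← mul_assoc (b : G) (u : G), ← (L.commute u.2 b.2).eq]
      group
    show (χ : G → ℂ) (L.emb (u, b * a * b⁻¹)) = (χ : G → ℂ) (L.emb (u, a))
    rw [this, isClassFunction_of_isIrr χ.2]
  have hnat : ∀ φ : IrrCharacter L.K, ∃ n : ℕ, Cfsg.classInner F (φ : L.K → ℂ) = (p : ℂ) * n := by
    intro φ
    obtain ⟨n, hn⟩ := classInner_character_irr (L.isCharacter_res χ) (L.isIrr_tensor 1 φ)
    refine ⟨n, ?_⟩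
    rw [← hn]
    simp only [hF, Cfsg.classInner, L.sum_PK, L.card_PK, Nat.cast_mul, mul_inv, Finset.sum_mul,
      Finset.mul_sum, MonoidHom.one_apply, Units.val_one, one_mul]
    rw [Finset.sum_comm]
    refine Finset.sum_congr rfl fun u _ => Finset.sum_congr rfl fun k _ => ?_
    field_simp [(Nat.cast_ne_zero.2 (Fact.out : p.Prime).ne_zero : (p : ℂ) ≠ 0)]
  choose n hn using hnat
  choose d hd0 hd using fun φ : IrrCharacter L.K => exists_degree_pos φ.2
  have hexp : ∀ k : L.K, F k = ∑ φ, (p : ℂ) * n φ * (φ : L.K → ℂ) k := by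
    intro k
    have := congrFun (classFunction_expansion hcl) k
    rw [this, Finset.sum_apply]
    exact Finset.sum_congr rfl fun φ _ => by rw [Pi.smul_apply, smul_eq_mul, hn]
  have h2 := hexp 1
  have hFp : F 1 = (p : ℂ) := by
    rw [hFv, OneMemClass.coe_one, ← Blocks.charDegree_cast]
    exact_mod_cast h1
  rw [hFp] at h2
  simp only [hd, mul_assoc, ← Finset.mul_sum] at h2
  have h3 : ∑ φ, n φ * d φ = 1 := by
    have h4 := (mul_eq_left₀ (Nat.cast_ne_zero.2 (Fact.out : p.Prime).ne_zero : (p : ℂ) ≠ 0)).1 h2.symm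
    exact_mod_cast h4
  obtain ⟨φ0, hφ0⟩ : ∃ φ, n φ * d φ ≠ 0 := by
    by_contra hc
    push Not at hc
    rw [Finset.sum_eq_zero fun φ _ => hc φ] at h3
    exact zero_ne_one h3
  rw [← Finset.add_sum_erase _ _ (Finset.mem_univ φ0)] at h3
  have hone : n φ0 * d φ0 = 1 := by omega
  have hzero : ∀ φ, φ ≠ φ0 → n φ = 0 := by
    intro φ hφ
    have h5 := Finset.sum_eq_zero_iff.1
      (show ∑ φ ∈ Finset.univ.erase φ0, n φ * d φ = 0 by omega) φ
      (Finset.mem_erase.2 ⟨hφ, Finset.mem_univ _⟩)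
    exact (mul_eq_zero.1 h5).resolve_right (hd0 φ).ne'
  obtain ⟨hn1, hd1⟩ := mul_eq_one.1 hone
  obtain ⟨ψ, hψ⟩ := exists_hom_of_degree_one (isCharacter_of_isIrr φ0.2)
    (by rw [hd, hd1, Nat.cast_one])
  refine ⟨ψ, fun k => ?_⟩
  have hk := hexp k
  rw [hFv, Finset.sum_eq_single φ0 (fun φ _ hφ => by simp [hzero φ hφ]) (by simp), hn1,
    Nat.cast_one, mul_one, hψ] at hk
  rw [eq_sub_iff_add_eq]
  exact hk

/-- The complement is abelian when some faithful member has a one dimensional fixed space. -/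
theorem comm_of_linear_fixed [IsSimpleGroup G] {χ : IrrCharacter G} (h : χ ∈ blk L)
    (hne : (χ : G → ℂ) ≠ fun _ => 1) (h1 : (Cfsg.charDegree (χ : G → ℂ) : ℤ) + sv L χ = p)
    {a b : G} (ha : a ∈ L.K) (hb : b ∈ L.K) : a * b = b * a := by
  obtain ⟨ψ, hψ⟩ := exists_linear_fixed L h h1
  refine commutatorElement_eq_one_iff_mul_comm.1 (eq_one_of_apply_eq χ hne ?_)
  have h2 := hψ ⁅(⟨a, ha⟩ : L.K), ⟨b, hb⟩⁆
  rw [map_commutatorElement, commutatorElement_eq_one_iff_mul_comm.2
    (mul_comm (ψ ⟨a, ha⟩) (ψ ⟨b, hb⟩))] at h2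
  have h3 := hψ 1
  rw [map_one] at h3
  exact h2.trans h3.symm

end CfsgLib.MTwentyThreeUnique
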