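import Cfsg.Agent.MTwentyThreeUnique.Options
import Cfsg.Agent.Small.DegreeInvolution

/-!
Three shapes of a principal 7-block with inertial index three are impossible, by the values at an
involution.
-/

set_option autoImplicit false
set_option linter.style.haveILetI false
set_option linter.unusedSectionVars false

open Cfsg CfsgLib.Characters CfsgLib.DefectOne CfsgLib.BrauerOrderP

namespace CfsgLib.MTwentyThreeUnique

universe u

/-- The shapes `(d₁, d₂, y)` excluded by the values at an involution. -/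
def badThree : List (List ℕ × ℕ) :=
  [([92, 69], 24), ([253, 22], 276), ([22, 22], 45)]

/-- The two equations at an involution, for given values of the constant rows. -/
def involOk (d₁ d₂ y : ℕ) (a b : ℤ) : Bool :=
  let v := 2 * esign 7 3 y
  let vc := -(6 + csign 7 d₁ * a + csign 7 d₂ * b)
  v * (6 * d₁ * d₂ * y + csign 7 d₁ * (a * a) * d₂ * y + csign 7 d₂ * (b * b) * d₁ * y) +
    vc * vc * d₁ * d₂ == 0

/-- No solution exists. -/
def involNone (d₁ d₂ y : ℕ) : Bool :=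
  (List.range (d₁ - 1)).all fun i => (List.range (d₂ - 1)).all fun j =>
    !involOk d₁ d₂ y ((d₁ : ℤ) - 2 * (i + 1)) ((d₂ : ℤ) - 2 * (j + 1))

theorem badThree_none :
    badThree.all (fun x => match x.1 with | [a, b] => involNone a b x.2 | _ => false) = true := by
  decide +kernel

variable {G : Type u} [Group G] [Fintype G] [IsSimpleGroup G] (hG : Nat.card G = 10200960)
  [Fact (Nat.Prime 7)] {L : Local 7 G} (S : Shape L)
include hG

theorem not_badThree (he : e L = 3) {l : List ℕ} (hl : (l : Multiset ℕ) = S.C.val.map deg)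
    (h : (l, S.y) ∈ badThree) : False := by
  classical
  obtain ⟨d₁, d₂, rfl, hnone⟩ : ∃ d₁ d₂, l = [d₁, d₂] ∧ involNone d₁ d₂ S.y = true := by
    have h0 := List.all_eq_true.1 badThree_none _ h
    rcases l with _ | ⟨a, _ | ⟨b, _ | ⟨c, t⟩⟩⟩ <;> simp at h0
    exact ⟨a, b, rfl, h0⟩
  obtain ⟨s, hs⟩ := exists_prime_orderOf_dvd_card' (G := G) 2 (hp := ⟨Nat.prime_two⟩)
    (by rw [hG]; norm_num)
  have hss : s * s = 1 := by rw [← sq, ← hs]; exact pow_orderOf_eq_one s
  have hreg : ¬ 7 ∣ orderOf s := by rw [hs]; norm_num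
  obtain ⟨χ₁, χ₂, hne, hC, hd1, hd2⟩ : ∃ χ₁ χ₂, χ₁ ≠ χ₂ ∧ S.C = {χ₁, χ₂} ∧ deg χ₁ = d₁ ∧
      deg χ₂ = d₂ := by
    have hcard : S.C.card = 2 := by rw [S.card_C, he]; rfl
    obtain ⟨a, b, hab, hCab⟩ := Finset.card_eq_two.1 hcard
    rw [hCab, Finset.insert_val_of_notMem (by simpa using hab), Finset.singleton_val,
      Multiset.map_cons, Multiset.map_singleton] at hl
    have hperm : [d₁, d₂].Perm [deg a, deg b] := Multiset.coe_eq_coe.1 hl
    have hmem : d₁ = deg a ∨ d₁ = deg b := by simpa using hperm.mem_iff.1 List.mem_cons_self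
    rcases hmem with h1 | h1
    · subst h1
      have h2 := List.singleton_perm_singleton.1 (List.Perm.cons_inv hperm)
      exact ⟨a, b, hab, hCab, rfl, h2.symm⟩
    · subst h1
      have h2 := List.singleton_perm_singleton.1
        (List.Perm.cons_inv (hperm.trans (List.Perm.swap _ _ _)))
      exact ⟨b, a, hab.symm, hCab.trans (Finset.pair_comm a b), rfl, h2.symm⟩
  obtain ⟨ε, hε⟩ : ∃ ε, ε ∈ S.E := Finset.card_pos.1 (by rw [S.card_E, he]; decide)
  have hm1 : χ₁ ∈ S.C ∪ S.E := Finset.mem_union_left _ (by simp [hC])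
  have hm2 : χ₂ ∈ S.C ∪ S.E := Finset.mem_union_left _ (by simp [hC])
  have hm3 : ε ∈ S.C ∪ S.E := Finset.mem_union_right _ hε
  have hdeg : ∀ χ ∈ S.C ∪ S.E, 1 < deg χ := fun χ h => S.two_le_deg (perfect hG) h
  have hone : ∀ χ : IrrCharacter G, (χ : G → ℂ) 1 = (deg χ : ℂ) := fun χ =>
    (Blocks.charDegree_cast χ).symm
  obtain ⟨a, ha, ⟨i, hai⟩, ha1, ha2⟩ :=
    Small.Degree.exists_involution_value (not_comm hG) χ₁ (hone χ₁) (hdeg _ hm1) hs
  obtain ⟨b, hb, ⟨j, hbj⟩, hb1, hb2⟩ :=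
    Small.Degree.exists_involution_value (not_comm hG) χ₂ (hone χ₂) (hdeg _ hm2) hs
  obtain ⟨c, hc, -, -, -⟩ :=
    Small.Degree.exists_involution_value (not_comm hG) ε (hone ε) (hdeg _ hm3) hs
  have hce : ∀ χ ∈ S.E, (χ : G → ℂ) s = (c : ℂ) := fun χ h => (S.reg_E χ h ε hε s hreg).trans hc
  have hval1 : (S.one : G → ℂ) s = 1 := by rw [S.one_eq]
  have hexc : excCount 7 (e L) = 2 := by rw [he]; rfl
  have h1 := orth L s (not_isConj_of_regular L hreg)
  rw [S.sum_blk, hval1, S.sv_one, hC, Finset.sum_pair hne, ha, hb,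
    S.sv_C χ₁ (by simp [hC]), S.sv_C χ₂ (by simp [hC]), hd1, hd2,
    Finset.sum_congr rfl fun χ h => by rw [hce χ h, S.sv_E χ h, S.deg_E χ h], Finset.sum_const,
    S.card_E, hexc, nsmul_eq_mul, he] at h1
  have h1' : (7 - 1) + (a * csign 7 d₁ + b * csign 7 d₂ + 2 * (c * esign 7 3 S.y)) = (0 : ℤ) := by
    have h1'' : (((7 - 1) + (a * csign 7 d₁ + b * csign 7 d₂ + 2 * (c * esign 7 3 S.y)) : ℤ) : ℂ)
        = 0 := by
      push_cast
      push_cast at h1
      linear_combination h1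
    exact_mod_cast h1''
  have h2 := sum_involution L (not_inverts L (by norm_num) (by rw [he])) hss
  rw [S.sum_blk, hval1, S.sv_one, hC, Finset.sum_pair hne, ha, hb,
    S.sv_C χ₁ (by simp [hC]), S.sv_C χ₂ (by simp [hC]), hone χ₁, hone χ₂, hd1, hd2,
    Finset.sum_congr rfl fun χ h => by rw [hce χ h, S.sv_E χ h, hone χ, S.deg_E χ h],
    Finset.sum_const, S.card_E, hexc, nsmul_eq_mul, he, hone S.one, deg_one S.one_eq] at h2
  have hd1pos : 1 < d₁ := hd1 ▸ hdeg _ hm1
  have hd2pos : 1 < d₂ := hd2 ▸ hdeg _ hm2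
  have hypos : 1 < S.y := S.deg_E ε hε ▸ hdeg _ hm3
  have hn1 : (d₁ : ℂ) ≠ 0 := Nat.cast_ne_zero.2 (by omega)
  have hn2 : (d₂ : ℂ) ≠ 0 := Nat.cast_ne_zero.2 (by omega)
  have hn3 : (S.y : ℂ) ≠ 0 := Nat.cast_ne_zero.2 (by omega)
  have h2' : 6 * (d₁ : ℤ) * d₂ * S.y + csign 7 d₁ * (a * a) * d₂ * S.y +
      csign 7 d₂ * (b * b) * d₁ * S.y + 2 * esign 7 3 S.y * (c * c) * d₁ * d₂ = 0 := by
    have h2'' : ((6 * (d₁ : ℤ) * d₂ * S.y + csign 7 d₁ * (a * a) * d₂ * S.y +
      csign 7 d₂ * (b * b) * d₁ * S.y + 2 * esign 7 3 S.y * (c * c) * d₁ * d₂ : ℤ) : ℂ) = 0 := by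
      push_cast
      push_cast at h2
      field_simp at h2
      linear_combination h2
    exact_mod_cast h2''
  have key : involOk d₁ d₂ S.y a b = true := by
    simp only [involOk, beq_iff_eq]
    rw [show -(6 + csign 7 d₁ * a + csign 7 d₂ * b) = 2 * esign 7 3 S.y * c by linarith]
    linear_combination (2 * esign 7 3 S.y) * h2'
  rw [hd1] at hai ha1 ha2
  rw [hd2] at hbj hb1 hb2
  simp only [involNone, List.all_eq_true, List.mem_range, Bool.not_eq_true'] at hnone
  have h3 := hnone (i.toNat - 1) (by omega) (j.toNat - 1) (by omega)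
  rw [show (d₁ : ℤ) - 2 * (((i.toNat - 1 : ℕ) : ℤ) + 1) = a by omega,
    show (d₂ : ℤ) - 2 * (((j.toNat - 1 : ℕ) : ℤ) + 1) = b by omega, key] at h3
  exact Bool.noConfusion h3

end CfsgLib.MTwentyThreeUnique
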