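import Cfsg.Agent.MTwentyThreeUnique.Degrees
import Cfsg.Agent.Characters.Rational
import Cfsg.Agent.InvolutionCount.Basic

/-!
A simple group of order 10200960 with the degrees of the Mathieu group: the character of degree 22
is rational, and the blocks at 11, 7 and 5 are known.
-/

set_option autoImplicit false
set_option linter.style.haveILetI false
set_option linter.unusedSectionVars false

open Cfsg CfsgLib.Characters CfsgLib.DefectOne CfsgLib.BrauerOrderP

namespace CfsgLib.MTwentyThreeUnique

universe u

/-- All pairs and quadruples of known degrees for a principal block at 5. -/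
theorem five_lists :
    ((trueDegs.filter fun d => cres 5 d && d != 1).sublistsLen 4).all
      (fun t => ((5 : ℤ) - 1) + (t.map fun d : ℕ => (d : ℤ) * csign 5 d).sum != 0 ||
        t.isPerm [231, 896, 896, 2024]) = true := by
  decide +kernel

/-- The possible principal blocks at 7 with inertial index three. -/
theorem seven_lists :
    ((trueDegs.filter fun d => cres 7 d && d != 1).sublistsLen 2).all (fun t =>
      (trueDegs.filter fun y => eres 7 3 y && decide (2 ≤ trueDegs.count y)).all fun y =>
        (6 : ℤ) + (t.map fun d : ℕ => (d : ℤ) * csign 7 d).sum + 2 * ((y : ℤ) * esign 7 3 y) != 0 ||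
          (t.isPerm [1035, 2024] && y == 990)) = true := by
  decide +kernel

variable {G : Type u} [Group G] [Fintype G]

section Degrees

variable (hdegs : (Finset.univ : Finset (IrrCharacter G)).val.map deg = (trueDegs : Multiset ℕ))
include hdegs

theorem deg_mem (χ : IrrCharacter G) : deg χ ∈ trueDegs := by
  rw [← Multiset.mem_coe, ← hdegs]
  exact Multiset.mem_map_of_mem _ (Finset.mem_univ χ)

theorem exists_deg {d : ℕ} (hd : d ∈ trueDegs) : ∃ χ : IrrCharacter G, deg χ = d := by
  rw [← Multiset.mem_coe, ← hdegs] at hd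
  obtain ⟨χ, -, h⟩ := Multiset.mem_map.1 hd
  exact ⟨χ, h⟩

theorem card_le_countP {s : Finset (IrrCharacter G)} (P : ℕ → Bool)
    (h : ∀ χ ∈ s, P (deg χ) = true) : s.card ≤ trueDegs.countP P := by
  classical
  have h1 : (s.val.map deg) ≤ (trueDegs : Multiset ℕ) := by
    rw [← hdegs]
    exact Multiset.map_le_map (Finset.val_le_iff.2 (Finset.subset_univ s))
  have h2 := Multiset.countP_le_of_le (fun d => P d = true) h1
  rw [Multiset.coe_countP] at h2
  simp only [Bool.decide_eq_true] at h2
  rw [Multiset.countP_map, Multiset.filter_eq_self.2 fun χ hχ => h χ hχ, Finset.card_val] at h2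
  exact h2

theorem eq_of_deg {χ ψ : IrrCharacter G} {d : ℕ} (h : trueDegs.countP (fun x => x == d) ≤ 1)
    (hχ : deg χ = d) (hψ : deg ψ = d) : χ = ψ := by
  classical
  by_contra hne
  have h1 := card_le_countP hdegs (s := {χ, ψ}) (fun x => x == d) fun φ hφ => by
    rcases Finset.mem_insert.1 hφ with rfl | hφ
    · simp [hχ]
    · rw [Finset.mem_singleton.1 hφ]; simp [hψ]
  rw [Finset.card_pair hne] at h1
  omega

/-- The degrees of a set of characters form a sublist of the known degrees. -/
theorem exists_sublist {s : Finset (IrrCharacter G)} (P : ℕ → Bool)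
    (h : ∀ χ ∈ s, P (deg χ) = true) :
    ∃ t ∈ (trueDegs.filter P).sublistsLen s.card, (t : Multiset ℕ) = s.val.map deg := by
  classical
  have h1 : (s.val.map deg) ≤ ((trueDegs.filter P : List ℕ) : Multiset ℕ) := by
    have he : ((trueDegs.filter P : List ℕ) : Multiset ℕ) =
        (trueDegs : Multiset ℕ).filter fun d => P d = true := by
      simp [Multiset.filter_coe]
    rw [he, ← hdegs]
    refine Multiset.le_filter.2 ⟨Multiset.map_le_map (Finset.val_le_iff.2 (Finset.subset_univ s)),
      fun d hd => ?_⟩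
    obtain ⟨χ, hχ, rfl⟩ := Multiset.mem_map.1 hd
    exact h χ hχ
  obtain ⟨l, hl⟩ : ∃ l : List ℕ, (l : Multiset ℕ) = s.val.map deg := ⟨_, Multiset.coe_toList _⟩
  rw [← hl, Multiset.coe_le] at h1
  obtain ⟨t, htp, hts⟩ := h1
  refine ⟨t, List.mem_sublistsLen.2 ⟨hts, ?_⟩, (Multiset.coe_eq_coe.2 htp).trans hl⟩
  rw [htp.length_eq, ← Multiset.coe_card, hl, Multiset.card_map, Finset.card_val]

/-- The character of degree 22 is fixed by all Galois automorphisms. -/
theorem pow_value {χ : IrrCharacter G} (hχ : deg χ = 22) {k : ℕ} (hk : k.Coprime (Nat.card G))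
    (g : G) : (χ : G → ℂ) (g ^ k) = (χ : G → ℂ) g := by
  have h : (⟨_, GaloisConj.isIrrCharacter_pow χ.2 hk⟩ : IrrCharacter G) = χ := by
    refine eq_of_deg hdegs (d := 22) (by decide +kernel) ?_ hχ
    rw [← hχ]
    apply Nat.cast_injective (R := ℂ)
    rw [Blocks.charDegree_cast, Blocks.charDegree_cast]
    exact congrArg (χ : G → ℂ) (one_pow k)
  exact congrFun (congrArg Subtype.val h) g

theorem exists_int_value {χ : IrrCharacter G} (hχ : deg χ = 22) (g : G) :
    ∃ z : ℤ, (χ : G → ℂ) g = z := by
  obtain ⟨q, hq⟩ := rat_of_pow_invariant (isCharacter_of_isIrr χ.2) g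
    (fun k hk => pow_value hdegs hχ hk g)
  obtain ⟨z, hz⟩ := GaloisAverage.exists_int_of_isIntegral_ratCast (q := q)
    (hq ▸ character_isIntegral (isCharacter_of_isIrr χ.2) g)
  exact ⟨z, hq.trans hz⟩

end Degrees

variable [IsSimpleGroup G] (hG : Nat.card G = 10200960)
include hG

variable {L11 : Local 11 G} [Fact (Nat.Prime 11)] [Fact (Nat.Prime 5)] {L5 : Local 5 G}
  (hP : Pinned L11 L5)
include hP

theorem eq_of_deg_one {χ : IrrCharacter G} (h : deg χ = 1) : (χ : G → ℂ) = fun _ => 1 :=
  BrauerOrderP.eq_one_of_degree_one (perfect hG) h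

/-- The block at 5. -/
theorem five_block (S : Shape L5) :
    S.C.val.map deg = (([231, 896, 896, 2024] : List ℕ) : Multiset ℕ) ∧ S.E = ∅ := by
  classical
  have hE : S.E = ∅ := Finset.card_eq_zero.1 (by rw [S.card_E, hP.e5]; rfl)
  refine ⟨?_, hE⟩
  obtain ⟨t, ht, htm⟩ := exists_sublist hP.degs (s := S.C) (fun d => cres 5 d && d != 1)
    fun χ hχ => by
      have h2 := S.two_le_deg (perfect hG) (Finset.mem_union_left _ hχ)
      simp only [S.res_C χ hχ, Bool.true_and, bne_iff_ne, ne_eq]
      omega
  rw [S.card_C, hP.e5, show rowCount 5 4 = 4 by decide] at ht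
  have h := List.all_eq_true.1 five_lists t ht
  simp only [Bool.or_eq_true, bne_iff_ne, ne_eq] at h
  rw [← htm]
  refine Multiset.coe_eq_coe.2 (List.isPerm_iff.1 (h.resolve_left fun hh => hh ?_))
  have hr := S.relation
  rw [hP.e5, show excCount 5 4 = 0 by decide, Nat.cast_zero, zero_mul, add_zero,
    Finset.sum_eq_multiset_sum] at hr
  rw [← hr, ← Multiset.sum_coe, ← Multiset.map_coe, htm, Multiset.map_map]
  rfl

variable [Fact (Nat.Prime 7)] (L7 : Local 7 G)

theorem e_seven : e L7 = 3 := by
  classical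
  obtain ⟨S⟩ := exists_shape L7 (by norm_num)
  have hdvd := e_dvd L7
  have h2 := two_le_e L7 (perfect hG)
  have hlt := e_lt L7
  have hC : ∀ χ ∈ S.C, (cres 7 (deg χ) && deg χ != 1) = true := fun χ hχ => by
    have h2 := S.two_le_deg (perfect hG) (Finset.mem_union_left _ hχ)
    simp only [S.res_C χ hχ, Bool.true_and, bne_iff_ne, ne_eq]
    omega
  have hCcard := card_le_countP hP.degs (s := S.C) (fun d => cres 7 d && d != 1) hC
  have hcount : trueDegs.countP (fun d => cres 7 d && d != 1) = 5 := by decide +kernel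
  rw [S.card_C, hcount] at hCcard
  norm_num at hdvd
  have he : e L7 = 2 ∨ e L7 = 3 ∨ e L7 = 6 := by
    have : e L7 < 7 := hlt
    interval_cases e L7 <;> simp_all
  rcases he with he | he | he
  · exfalso
    obtain ⟨ε, hε⟩ : ∃ ε, ε ∈ S.E := Finset.card_pos.1 (by rw [S.card_E, he]; decide)
    have h3 := card_le_countP hP.degs (s := S.E) (fun d => d == S.y) fun χ hχ => by
      simp [S.deg_E χ hχ]
    rw [S.card_E, he, show excCount 7 2 = 3 by decide] at h3
    have hres := S.res_E ε hε
    rw [he, S.deg_E ε hε] at hres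
    have hmem : S.y ∈ trueDegs := S.deg_E ε hε ▸ deg_mem hP.degs ε
    have key : trueDegs.all (fun y => !eres 7 2 y || decide (trueDegs.countP (fun d => d == y) < 3))
        = true := by decide +kernel
    have h4 := List.all_eq_true.1 key _ hmem
    simp only [hres, Bool.not_true, Bool.false_or, decide_eq_true_eq] at h4
    omega
  · exact he
  · rw [he, show rowCount 7 6 = 6 by decide] at hCcard
    omega

/-- The block at 7. -/
theorem seven_block (S : Shape L7) :
    S.C.val.map deg = (([1035, 2024] : List ℕ) : Multiset ℕ) ∧ S.y = 990 := by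
  classical
  have he := e_seven hG hP L7
  obtain ⟨t, ht, htm⟩ := exists_sublist hP.degs (s := S.C) (fun d => cres 7 d && d != 1)
    fun χ hχ => by
      have h2 := S.two_le_deg (perfect hG) (Finset.mem_union_left _ hχ)
      simp only [S.res_C χ hχ, Bool.true_and, bne_iff_ne, ne_eq]
      omega
  rw [S.card_C, he, show rowCount 7 3 = 2 by decide] at ht
  have h := List.all_eq_true.1 seven_lists t ht
  obtain ⟨ε, hε⟩ : ∃ ε, ε ∈ S.E := Finset.card_pos.1 (by rw [S.card_E, he]; decide)
  have hy : S.y ∈ trueDegs.filter fun y => eres 7 3 y && decide (2 ≤ trueDegs.count y) := by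
    refine List.mem_filter.2 ⟨S.deg_E ε hε ▸ deg_mem hP.degs ε, ?_⟩
    have h3 := card_le_countP hP.degs (s := S.E) (fun d => d == S.y) fun χ hχ => by
      simp [S.deg_E χ hχ]
    rw [S.card_E, he, show excCount 7 3 = 2 by decide] at h3
    have hres := S.res_E ε hε
    rw [he, S.deg_E ε hε] at hres
    simp only [hres, Bool.true_and, decide_eq_true_eq]
    exact h3
  have h' := List.all_eq_true.1 h _ hy
  simp only [Bool.or_eq_true, bne_iff_ne, ne_eq, Bool.and_eq_true, beq_iff_eq] at h'
  obtain ⟨h1, h2⟩ := h'.resolve_left fun hh => hh (by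
    have hr := S.relation
    rw [he, show excCount 7 3 = 2 by decide, Finset.sum_eq_multiset_sum] at hr
    rw [← Multiset.sum_coe, ← Multiset.map_coe, htm, Multiset.map_map, ← hr]
    norm_num [Function.comp_def, add_assoc])
  exact ⟨htm.symm.trans (Multiset.coe_eq_coe.2 (List.isPerm_iff.1 h1)), h2⟩

omit [Fact (Nat.Prime 7)]

/-- The non-trivial members of the block at 11 are told apart by their degrees. -/
theorem eleven_block (S : Shape L11) :
    S.C.val.map deg = (([1035, 230, 45, 45] : List ℕ) : Multiset ℕ) ∧ S.y = 896 := by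
  classical
  have h := hP.blk11
  rw [S.blk_eq, Finset.insert_val_of_notMem S.not_mem, Multiset.map_cons, deg_one S.one_eq,
    ← Finset.disjUnion_eq_union _ _ S.disj, Finset.disjUnion_val, Multiset.map_add,
    Multiset.singleton_add] at h
  have h1 := (Multiset.cons_inj_right 1).1 h
  rw [Multiset.map_congr rfl (g := fun _ => S.y) (fun χ hχ => S.deg_E χ hχ),
    Multiset.map_const', Finset.card_val, S.card_E, hP.e11, show excCount 11 5 = 2 by decide] at h1
  have hy : S.y ∈ elevenDegs := by
    rw [← Multiset.mem_coe, ← h1]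
    exact Multiset.mem_add.2 (Or.inr (Multiset.mem_replicate.2 ⟨by norm_num, rfl⟩))
  have hres : eres 11 5 S.y = true := by
    obtain ⟨ε, hε⟩ : ∃ ε, ε ∈ S.E := Finset.card_pos.1 (by rw [S.card_E, hP.e11]; decide)
    have := S.res_E ε hε
    rwa [hP.e11, S.deg_E ε hε] at this
  have key : elevenDegs.all (fun d => !eres 11 5 d || d == 896) = true := by decide +kernel
  have h2 := List.all_eq_true.1 key _ hy
  simp only [hres, Bool.not_true, Bool.false_or, beq_iff_eq] at h2
  refine ⟨?_, h2⟩
  rw [h2, show ((elevenDegs : List ℕ) : Multiset ℕ) =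
    (([1035, 230, 45, 45] : List ℕ) : Multiset ℕ) + Multiset.replicate 2 896 by decide +kernel] at h1
  exact add_right_cancel h1

end CfsgLib.MTwentyThreeUnique
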