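import Cfsg.Agent.MTwentyThreeUnique.Shape
import Cfsg.Agent.MTwentyThreeUnique.Search

/-!
The divisors of 10200960 that can be degrees, and the search over the shapes of a principal block.
-/

set_option autoImplicit false
set_option linter.style.haveILetI false
set_option linter.unusedSectionVars false

open Cfsg CfsgLib.Characters CfsgLib.DefectOne CfsgLib.BrauerOrderP

namespace CfsgLib.MTwentyThreeUnique

universe u

/-- The divisors `d ≥ 2` of the order with `d ^ 2` below the order. -/
def degList : List ℕ :=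
  [2, 3, 4, 5, 6, 7, 8, 9, 10, 11, 12, 14, 15, 16, 18, 20, 21, 22, 23, 24, 28, 30, 32, 33, 35,
   36, 40, 42, 44, 45, 46, 48, 55, 56, 60, 63, 64, 66, 69, 70, 72, 77, 80, 84, 88, 90, 92, 96,
   99, 105, 110, 112, 115, 120, 126, 128, 132, 138, 140, 144, 154, 160, 161, 165, 168, 176, 180,
   184, 192, 198, 207, 210, 220, 224, 230, 231, 240, 252, 253, 264, 276, 280, 288, 308, 315, 320,
   322, 330, 336, 345, 352, 360, 368, 384, 385, 396, 414, 420, 440, 448, 460, 462, 480, 483, 495,
   504, 506, 528, 552, 560, 576, 616, 630, 640, 644, 660, 672, 690, 693, 704, 720, 736, 759, 770,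
   792, 805, 828, 840, 880, 896, 920, 924, 960, 966, 990, 1008, 1012, 1035, 1056, 1104, 1120,
   1152, 1155, 1232, 1260, 1265, 1288, 1320, 1344, 1380, 1386, 1408, 1440, 1449, 1472, 1518,
   1540, 1584, 1610, 1656, 1680, 1760, 1771, 1840, 1848, 1920, 1932, 1980, 2016, 2024, 2070,
   2112, 2208, 2240, 2277, 2310, 2415, 2464, 2520, 2530, 2576, 2640, 2688, 2760, 2772, 2880,
   2898, 2944, 3036, 3080, 3168]

theorem mem_degList {d : ℕ} (h2 : 2 ≤ d) (hd : 10200960 % d = 0) (hsq : d * d < 10200960) :
    d ∈ degList := by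
  have h : ((List.range 50).all fun a => (List.range 64).all fun b =>
      decide (64 * a + b < 2 ∨ 10200960 % (64 * a + b) ≠ 0 ∨ 3194 ≤ 64 * a + b) ||
        degList.contains (64 * a + b)) = true := by decide +kernel
  simp only [List.all_eq_true, List.mem_range, Bool.or_eq_true, decide_eq_true_eq,
    List.contains_iff_mem] at h
  have hlt : d < 3194 := by
    by_contra hc
    push Not at hc
    exact absurd hsq (not_lt.2 (le_trans (by norm_num) (Nat.mul_le_mul hc hc)))
  have := h (d / 64) (by omega) (d % 64) (Nat.mod_lt _ (by norm_num))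
  rw [Nat.div_add_mod] at this
  exact this.resolve_left (by omega)

/-- Candidates for the constant rows. -/
def rowCands (p M : ℕ) (extra : ℕ → Bool) : List ℕ :=
  degList.filter fun d => M % d == 0 && cres p d && extra d

/-- Candidates for the exceptional rows. -/
def excCands (p e M : ℕ) (extra : ℕ → Bool) : List ℕ :=
  degList.filter fun d => M % d == 0 && eres p e d && extra d

/-- The search for the shapes with inertial index `e` and all degrees dividing `M`. -/
def shapeCheck (p e M : ℕ) (extra : ℕ → Bool) (o₀ : ℤ) (w₂ v₂ : ℕ → ℤ)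
    (good : List ℕ → ℕ → Bool) : Bool :=
  profileCheck (fun d => (d : ℤ) * csign p d) w₂ ((p : ℤ) - 1) o₀ 10200960 (excCount p e)
    (fun y => (y : ℤ) * esign p e y) v₂ (rowCands p M extra) (excCands p e M extra) (rowCount p e) good

variable {G : Type u} [Group G] [Fintype G] [IsSimpleGroup G] (hG : Nat.card G = 10200960)
  {p : ℕ} [Fact p.Prime] {L : Local p G} (S : Shape L)
include hG

theorem Shape.mem_degList {χ : IrrCharacter G} (h : χ ∈ S.C ∪ S.E) : deg χ ∈ degList := by
  refine CfsgLib.MTwentyThreeUnique.mem_degList (S.two_le_deg (perfect hG) h) ?_ ?_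
  · exact Nat.mod_eq_zero_of_dvd (hG ▸ Blocks.charDegree_dvd_card χ)
  · have h1 : deg S.one ^ 2 + deg χ ^ 2 ≤ Nat.card G := by
      classical
      rw [← LargePrime.sum_charDegree_sq, ← Finset.sum_pair (f := fun c => deg c ^ 2)
        (fun e : S.one = χ => S.not_mem (e ▸ h))]
      exact Finset.sum_le_sum_of_subset (Finset.subset_univ _)
    rw [deg_one S.one_eq, one_pow, hG, sq] at h1
    omega

theorem Shape.search {ei M : ℕ} (he : e L = ei) (hM : ∀ χ ∈ blk L, deg χ ∣ M) {extra : ℕ → Bool}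
    (hextra : ∀ χ ∈ S.C ∪ S.E, extra (deg χ) = true) {o₀ : ℤ} {w₂ v₂ : ℕ → ℤ}
    (h₂ : o₀ + ∑ χ ∈ S.C, w₂ (deg χ) + (excCount p ei : ℤ) * v₂ S.y = 0)
    {good : List ℕ → ℕ → Bool} (h : shapeCheck p ei M extra o₀ w₂ v₂ good = true) :
    ∃ l : List ℕ, (l : Multiset ℕ) = S.C.val.map deg ∧
      good l (if excCount p ei = 0 then 0 else S.y) = true := by
  subst he
  have hsum : ∀ {M : Type} [AddCommMonoid M] (f : ℕ → M),
      ((S.C.val.map deg).map f).sum = ∑ χ ∈ S.C, f (deg χ) := fun f => by
    rw [Multiset.map_map, Finset.sum_eq_multiset_sum]; rfl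
  refine profileCheck_sound h (S.C.val.map deg) S.y ?_ ?_ ?_ ?_ ?_ ?_
  · rw [Multiset.card_map]; exact S.card_C
  · intro d hd
    obtain ⟨χ, hχ, rfl⟩ := Multiset.mem_map.1 hd
    refine List.mem_filter.2 ⟨S.mem_degList hG (Finset.mem_union_left _ hχ), ?_⟩
    simp [Nat.mod_eq_zero_of_dvd (hM χ (S.mem_of_C hχ)), S.res_C χ hχ,
      hextra χ (Finset.mem_union_left _ hχ)]
  · intro ht
    obtain ⟨χ, hχ⟩ := Finset.card_pos.1 (show 0 < S.E.card by rw [S.card_E]; omega)
    rw [← S.deg_E χ hχ]
    refine List.mem_filter.2 ⟨S.mem_degList hG (Finset.mem_union_right _ hχ), ?_⟩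
    simp [Nat.mod_eq_zero_of_dvd (hM χ (S.mem_of_E hχ)), S.res_E χ hχ,
      hextra χ (Finset.mem_union_right _ hχ)]
  · rw [hsum (fun d => (d : ℤ) * csign p d), add_assoc]
    exact S.relation
  · rw [hsum w₂]
    exact h₂
  · rw [hsum (fun d => d * d)]
    have h1 := S.squares
    rw [hG] at h1
    simp only [sq] at h1
    omega

end CfsgLib.MTwentyThreeUnique
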