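import Cfsg.Agent.MTwentyThreeUnique.LocalTools

/-!
A simple group of order 10200960: a Sylow 23-subgroup has inertial index eleven or twenty-two, and
its normalizer has index 1680 or 40320.
-/

set_option autoImplicit false
set_option linter.style.haveILetI false
set_option linter.unusedSectionVars false

open scoped Pointwise
open Cfsg CfsgLib.Characters CfsgLib.DefectOne CfsgLib.BrauerOrderP

namespace CfsgLib.MTwentyThreeUnique

universe u

variable {G : Type u} [Group G] [Fintype G] [IsSimpleGroup G] (hG : Nat.card G = 10200960)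
  [Fact (Nat.Prime 23)] (L : Local 23 G)
include hG

/-- An invariant subgroup of `K` that is a Sylow subgroup of prime order. -/
theorem index_modEq_of_invariant {q : ℕ} [Fact q.Prime] (hd : q ∣ 10200960)
    (hsq : ¬ q ^ 2 ∣ 10200960) {T : Subgroup G} (hT : Nat.card T = q)
    (hN : L.N ≤ Subgroup.normalizer (T : Set G)) :
    (Subgroup.normalizer (T : Set G)).index % q = 1 ∧
      (Subgroup.normalizer (T : Set G)).index ∣ L.N.index ∧
      (Subgroup.normalizer (T : Set G)).index % 23 = 1 ∧
      22 < (Subgroup.normalizer (T : Set G)).index := by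
  have hfac : q ^ (Nat.card G).factorization q = q := by
    obtain ⟨P⟩ : Nonempty (Sylow q G) := inferInstance
    rw [← P.card_eq_multiplicity]
    exact card_sylow_of_sq_not_dvd (by rwa [hG]) (by rwa [hG]) P
  have hsyl : (Sylow.ofCard T (by rw [hT, hfac]) : Subgroup G) = T := rfl
  have hne : Subgroup.normalizer (T : Set G) ≠ ⊤ :=
    normalizer_ne_top_of_card hG (by rw [hT]; exact (Fact.out : q.Prime).one_lt)
      (by
        rw [hT]
        exact lt_of_le_of_ne (Nat.le_of_dvd (by norm_num) hd)
          fun e => (show ¬ Nat.Prime 10200960 by norm_num) (e ▸ (Fact.out : q.Prime)))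
  obtain ⟨h1, h2, h3, -⟩ := index_facts hG L hne hN
  refine ⟨?_, h1, h2, h3⟩
  have h4 := index_modEq_one (Sylow.ofCard T (by rw [hT, hfac]))
    (H := Subgroup.normalizer (T : Set G)) (by rw [hsyl])
  exact h4

theorem card_sylow_seven_K [Fact (Nat.Prime 7)] (h : Nat.card L.K = 35 ∨ Nat.card L.K = 70) :
    Nat.card (Sylow 7 L.K) = 1 := by
  obtain ⟨R⟩ : Nonempty (Sylow 7 L.K) := inferInstance
  have h1 := R.card_dvd_index
  have h2 := card_sylow_modEq_one 7 L.K
  have h3 : (R : Subgroup L.K).index ∣ 10 := by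
    have h4 := R.card_eq_multiplicity
    have h5 := Subgroup.index_mul_card (R : Subgroup L.K)
    have h7 : Nat.card (R : Subgroup L.K) = 7 :=
      card_sylow_of_sq_not_dvd (by rcases h with h | h <;> rw [h] <;> norm_num)
        (by rcases h with h | h <;> rw [h] <;> norm_num) R
    rw [h7] at h5
    rcases h with h | h <;> rw [h] at h5
    · rw [show (R : Subgroup L.K).index = 5 by omega]; norm_num
    · rw [show (R : Subgroup L.K).index = 10 by omega]
  have h8 := Nat.le_of_dvd (by norm_num) (h1.trans h3)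
  have h9 := h1.trans h3
  change _ ≡ _ [MOD 7] at h2
  rw [Nat.ModEq] at h2
  interval_cases Nat.card (Sylow 7 L.K) <;> omega

/-- A normal Sylow 7-subgroup of `K` is impossible when the index is 576 or 990. -/
theorem no_invariant_seven [Fact (Nat.Prime 7)] (hn : L.N.index = 576 ∨ L.N.index = 990)
    (h7 : (Nat.card L.K).factorization 7 = 1) (h : Nat.card (Sylow 7 L.K) = 1) : False := by
  obtain ⟨T, -, hT, hN⟩ := exists_invariant_sylow L 7 h
  rw [h7, pow_one] at hT
  obtain ⟨a, b, c, d⟩ := index_modEq_of_invariant hG L (by norm_num) (by norm_num) hT hN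
  have hall : ∀ i ∈ Nat.divisors 576 ∪ Nat.divisors 990,
      ¬ (i % 7 = 1 ∧ i % 23 = 1 ∧ 22 < i) := by decide +kernel
  refine hall _ ?_ ⟨a, c, d⟩
  rw [Finset.mem_union, Nat.mem_divisors, Nat.mem_divisors]
  rcases hn with hn | hn <;> rw [hn] at b
  · exact Or.inl ⟨b, by norm_num⟩
  · exact Or.inr ⟨b, by norm_num⟩

theorem e_ne_two : e L ≠ 2 := by
  intro he
  obtain ⟨hprod, -, hn⟩ := index_options hG L
  rw [he] at hprod
  obtain ⟨S⟩ := exists_shape L (by norm_num)
  obtain ⟨l, hl, hgood⟩ := S.search hG (M := 0) (extra := fun _ => true) (o₀ := 0)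
    (w₂ := fun _ => 0) (v₂ := fun _ => 0) he (fun _ _ => dvd_zero _) (fun _ _ => rfl) (by simp)
    (good := fun l _ => l == [22] || l == [45]) (by decide +kernel)
  obtain ⟨χ, hχ⟩ : ∃ χ, χ ∈ S.C := Finset.card_pos.1 (by rw [S.card_C, he]; decide)
  have hmem : deg χ ∈ l := by
    rw [← Multiset.mem_coe, hl]
    exact Multiset.mem_map.2 ⟨χ, hχ, rfl⟩
  have hne : (χ : G → ℂ) ≠ fun _ => 1 := fun e1 => by
    have := S.two_le_deg (perfect hG) (Finset.mem_union_left _ hχ)
    rw [deg_one e1] at this
    omega
  have hsv := S.sv_C χ hχ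
  simp only [Bool.or_eq_true, beq_iff_eq] at hgood
  rcases hgood with hg | hg <;> rw [hg, List.mem_singleton] at hmem
  · haveI := L.finite_lam
    letI := Fintype.ofFinite L.Lam
    have hK : L.K = ⊥ := by
      rw [eq_bot_iff]
      intro k hk
      refine Subgroup.mem_bot.2 (eq_one_of_apply_eq χ hne
        (apply_K_of_fixed_zero L ((mem_blk L).1 (S.mem_of_C hχ)) ?_ ⟨k, hk⟩))
      rw [← Blocks.charDegree_cast, ← sv_eq, hsv, hmem]
      change ((deg χ : ℕ) : ℂ) + _ = 0
      rw [hmem]
      norm_num [csign]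
    rw [hK, Subgroup.card_bot] at hprod
    simp only [List.mem_cons, List.not_mem_nil, or_false] at hn
    omega
  · have hd := S.dvd χ (S.mem_of_C hχ)
    rw [hmem, he] at hd
    have h990 : L.N.index = 990 := by
      simp only [List.mem_cons, List.not_mem_nil, or_false] at hn
      obtain ⟨k, hk⟩ := hd
      rcases hn with h | h | h | h | h | h | h | h | h <;> rw [h] at hprod hk ⊢ <;> omega
    have h224 : Nat.card L.K = 224 := by rw [h990] at hprod; omega
    haveI : Fact (Nat.Prime 7) := ⟨by norm_num⟩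
    refine no_invariant_seven hG L (Or.inr h990) ?_ ?_
    · rw [h224, show (224 : ℕ) = 7 ^ 1 * 32 by norm_num]
      rw [Nat.factorization_mul (by norm_num) (by norm_num), Nat.factorization_pow]
      simp [Nat.Prime.factorization_self (show Nat.Prime 7 by norm_num),
        Nat.factorization_eq_zero_of_not_dvd (show ¬ 7 ∣ 32 by norm_num)]
    · obtain ⟨R⟩ : Nonempty (Sylow 7 L.K) := inferInstance
      haveI : (R : Subgroup L.K).Normal := ⟨fun x hx g => by
        have hcm : g * x = x * g := Subtype.ext (comm_of_linear_fixed L (S.mem_of_C hχ) hne (by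
          rw [hsv]; change ((deg χ : ℕ) : ℤ) + _ = _; rw [hmem]; norm_num [csign]) g.2 x.2)
        rwa [hcm, mul_inv_cancel_right]⟩
      exact Nat.card_eq_one_iff_unique.2 ⟨(Sylow.unique_of_normal R ‹_›).instSubsingleton, ⟨R⟩⟩

/-- Only two indices remain. -/
theorem index_cases : L.N.index = 40320 ∧ e L = 11 ∧ Nat.card L.K = 1 ∨
    L.N.index = 1680 ∧ (e L = 11 ∧ Nat.card L.K = 24 ∨ e L = 22 ∧ Nat.card L.K = 12) := by
  obtain ⟨hprod, he, hn⟩ := index_options hG L
  have he2 := e_ne_two hG L
  have hN : L.N ≠ ⊤ := normalizer_ne_top_of_card hG (by rw [L.card_P]; norm_num)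
    (by rw [L.card_P]; norm_num)
  obtain ⟨-, -, -, hfac⟩ := index_facts hG L hN le_rfl
  simp only [List.mem_cons, List.not_mem_nil, or_false] at hn
  rcases he with he | he | he
  · exact absurd he he2
  all_goals
    rw [he] at hprod ⊢
    rcases hn with h | h | h | h | h | h | h | h | h <;> rw [h] at hprod hfac ⊢
    all_goals first | omega | skip
  all_goals
    have hK : Nat.card L.K ≤ 24 ∨ Nat.card L.K = 35 ∨ Nat.card L.K = 70 ∨ 25 ≤ Nat.card L.K := by
      omega
  all_goals first
    | (exfalso; have := Nat.le_of_dvd (Nat.factorial_pos _) hfac; norm_num [Nat.factorial] at this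
       omega)
    | (exfalso
       haveI : Fact (Nat.Prime 7) := ⟨by norm_num⟩
       have hc : Nat.card L.K = 35 ∨ Nat.card L.K = 70 := by omega
       refine no_invariant_seven hG L (Or.inl h) ?_ (card_sylow_seven_K hG L hc)
       rcases hc with hc | hc <;> rw [hc]
       · rw [show (35 : ℕ) = 7 ^ 1 * 5 by norm_num, Nat.factorization_mul (by norm_num) (by norm_num)]
         simp [Nat.Prime.factorization_self (show Nat.Prime 7 by norm_num),
           Nat.factorization_eq_zero_of_not_dvd (show ¬ 7 ∣ 5 by norm_num)]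
       · rw [show (70 : ℕ) = 7 ^ 1 * 10 by norm_num, Nat.factorization_mul (by norm_num) (by norm_num)]
         simp [Nat.Prime.factorization_self (show Nat.Prime 7 by norm_num),
           Nat.factorization_eq_zero_of_not_dvd (show ¬ 7 ∣ 10 by norm_num)])

end CfsgLib.MTwentyThreeUnique
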