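import Cfsg.Agent.MTwentyThreeUnique.LocalTwoPart

/-!
A simple group of order 10200960: the Sylow 23-subgroups are self-centralizing, with normalizers of
order 253.
-/

set_option autoImplicit false
set_option linter.style.haveILetI false
set_option linter.unusedSectionVars false

open scoped Pointwise
open Cfsg CfsgLib.Characters CfsgLib.DefectOne CfsgLib.BrauerOrderP

namespace CfsgLib.MTwentyThreeUnique

universe u

variable {G : Type u} [Group G] [Fintype G] [IsSimpleGroup G] (hG : Nat.card G = 10200960)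
  [Fact (Nat.Prime 23)] (L : Local 23 G)
include hG

/-- The centralizer of `z` cannot have 70 Sylow 23-subgroups. -/
theorem not_index_seventy_two (T : TwoPart L)
    (h : (Subgroup.centralizer ({T.z} : Set G)).index = 72) : False := by
  set C := Subgroup.centralizer ({T.z} : Set G) with hC
  have hne : C ≠ ⊤ := Small.centralizer_singleton_ne_top (not_comm hG) T.hz1
  have hVcomm : ∀ a ∈ T.V, ∀ b ∈ T.V, a * b = b * a := fun a ha b hb => by
    haveI : Fact (Nat.Prime 2) := ⟨by norm_num⟩
    have hc := (IsPGroup.isMulCommutative_of_card_eq_prime_sq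
      (show Nat.card T.V = 2 ^ 2 by rw [T.hV]; norm_num)).is_comm.comm
    exact congrArg Subtype.val (hc ⟨a, ha⟩ ⟨b, hb⟩)
  have hVC : T.V ≤ C := fun v hv => by
    rw [hC, Subgroup.mem_centralizer_singleton_iff]
    exact hVcomm v hv T.z T.hzV
  have hPC : (L.P : Subgroup G) ≤ C := fun u hu => by
    rw [hC, Subgroup.mem_centralizer_singleton_iff]
    exact Subgroup.mem_centralizer_iff.1 (L.le_centralizer (T.hVK T.hzV)) u hu
  obtain ⟨o, h1, h2⟩ := exists_orbits_card_dvd (X := G ⧸ C) L.card_P T.V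
    (fun u hu k hk => L.commute hu (T.hVK hk)) (fun k hk => L.not_dvd_orderOf (T.hVK hk))
    (fun k hk x hx => by
      obtain ⟨n, hn, rfl⟩ := exists_normalizing_rep L.P hPC hx
      show ((k * n : G) : G ⧸ C) = (n : G ⧸ C)
      rw [QuotientGroup.eq]
      have hn' : n⁻¹ ∈ Subgroup.normalizer (T.V : Set G) := by rw [T.hNV]; exact inv_mem hn
      have := hVC ((Subgroup.mem_normalizer_iff.1 hn' k⁻¹).1 (inv_mem hk))
      rw [inv_inv] at this
      rwa [mul_inv_rev])
    (fun k _ hk => Small.toPermHom_coset_injective hne (by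
      ext x
      simpa using hk x))
  rw [← Subgroup.index_eq_card, h] at h1
  rw [T.hV] at h2
  have ho : o ≤ 3 := by omega
  interval_cases o <;> norm_num [Nat.factorial] at h2

/-- The centralizer of `z` cannot have 24 Sylow 23-subgroups. -/
theorem not_twenty_four (hn : L.N.index = 1680)
    (hm : e L = 11 ∧ Nat.card L.K = 24 ∨ e L = 22 ∧ Nat.card L.K = 12) (T : TwoPart L)
    (h : Nat.card (Subgroup.centralizer ({T.z} : Set G)) = 24 * 2024) : False := by
  classical
  set C := Subgroup.centralizer ({T.z} : Set G) with hC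
  set H := L.N.subgroupOf C with hH
  haveI : Fintype (C ⧸ H) := Fintype.ofFinite _
  have hzV := T.hzV
  have hKz : ∀ u ∈ (L.P : Subgroup G), u ∈ C := fun u hu => by
    rw [hC, Subgroup.mem_centralizer_singleton_iff]
    exact Subgroup.mem_centralizer_iff.1 (L.le_centralizer (T.hVK hzV)) u hu
  have hPC : (L.P : Subgroup G) ≤ C := hKz
  have hHcard : Nat.card H = 2024 := by
    have hCN : Nat.card (L.N ⊓ C : Subgroup G) = 2024 := by rw [inf_comm]; exact T.hCN
    rw [hH, ← Subgroup.inf_subgroupOf_right,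
      Nat.card_congr (Subgroup.subgroupOfEquivOfLe inf_le_right).toEquiv, hCN]
  have hidx : H.index = 24 := by
    have h1 := Subgroup.index_mul_card H
    rw [hHcard, h] at h1
    omega
  -- the subgroup `K` inside the centralizer
  set P' : Sylow 23 C := L.P.subtype hPC with hP'
  have hNH : Subgroup.normalizer ((P' : Subgroup C) : Set C) = H := by
    rw [hP', Sylow.coe_subtype, hH]
    exact (Subgroup.subgroupOf_normalizer_eq hPC).symm
  have hP'c : Nat.card (P' : Subgroup C) = 23 := by
    rw [hP', Sylow.coe_subtype, Nat.card_congr (Subgroup.subgroupOfEquivOfLe hPC).toEquiv, L.card_P]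
  set K' : Subgroup C := L.K.subgroupOf C with hK'
  have hKfix : ∀ k ∈ K', ∀ x : C ⧸ H, k • x = x := by
    obtain ⟨f, hf⟩ := exists_moved_hom (X := C ⧸ H) hP'c K'
      (fun u hu k hk => Subtype.ext (L.commute
        (Subgroup.mem_subgroupOf.1 hu : (u : G) ∈ (L.P : Subgroup G)) hk))
      (fun k hk => by rw [← Subgroup.orderOf_coe]; exact L.not_dvd_orderOf hk)
      (fun k hk x hx => by
        obtain ⟨n, hn', rfl⟩ := exists_normalizing_rep P' (H := H)
          (hNH ▸ Subgroup.le_normalizer) hx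
        rw [hNH] at hn'
        show ((k * n : C) : C ⧸ H) = (n : C ⧸ H)
        rw [QuotientGroup.eq]
        refine mul_mem (inv_mem (mul_mem ?_ hn')) hn'
        rw [hH, Subgroup.mem_subgroupOf]
        exact Subgroup.centralizer_le_normalizer _ (L.le_centralizer hk))
    have hcount := card_moved (X := C ⧸ H) hP'c
    have h3 := card_fixedPoints_eq_one P' hNH.le
    have h4 := Subgroup.index_eq_card H
    have h1 : Nat.card (MovedOrbit (C ⧸ H) (P' : Subgroup C)) = 1 := by
      have h5 : 23 * Nat.card (MovedOrbit (C ⧸ H) (P' : Subgroup C)) + 1 = 24 :=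
        (congrArg (23 * Nat.card (MovedOrbit (C ⧸ H) (P' : Subgroup C)) + ·) h3.symm).trans
          (hcount.trans (h4.symm.trans hidx))
      omega
    haveI := (Nat.card_eq_one_iff_unique.1 h1).1
    exact fun k hk x => hf ⟨k, hk⟩ (Subsingleton.elim _ _) x
  set M := H.normalCore with hM
  haveI : M.Normal := H.normalCore_normal
  have hKM : K' ≤ M := by
    rw [hM, Subgroup.normalCore_eq_ker]
    intro k hk
    rw [MonoidHom.mem_ker]
    ext x
    simpa using hKfix k hk x
  have hMN : ∀ m ∈ M, (m : G) ∈ L.N := fun m hm' => H.normalCore_le hm'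
  -- no element of `P` is in `M`
  have hMP : ∀ m ∈ M, (m : G) ∈ (L.P : Subgroup G) → m = 1 := by
    intro m hm' hmP
    by_contra hm1
    have hm1' : (m : G) ≠ 1 := fun e => hm1 (Subtype.ext e)
    have hle : ∀ c : C, (c : G) ∈ L.N := by
      intro c
      have h2 := hMN _ ((inferInstance : M.Normal).conj_mem m hm' c)
      have hd : 23 ∣ orderOf ((c * m * c⁻¹ : C) : G) := by
        have := (MulAut.conj (c : G)).orderOf_eq (m : G)
        rw [MulAut.conj_apply, L.orderOf_of_mem hmP hm1'] at this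
        simp only [Subgroup.coe_mul, InvMemClass.coe_inv]
        rw [this]
      have h3 := L.mem_centralizer_of_mem_N h2 hd
      obtain ⟨u, hu, k, hk, he⟩ := L.decomp _ h3
      have hk1 : k = 1 := by
        have h4 : ((c * m * c⁻¹ : C) : G) ^ 23 = 1 := by
          simp only [Subgroup.coe_mul, InvMemClass.coe_inv]
          rw [conj_pow, L.pow_p hmP, mul_one, mul_inv_cancel]
        rw [he, (L.commute hu hk).mul_pow, L.pow_p hu, one_mul] at h4
        have h5 := orderOf_dvd_of_pow_eq_one h4
        rcases (Nat.dvd_prime (by norm_num : Nat.Prime 23)).1 h5 with h6 | h6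
        · exact orderOf_eq_one_iff.1 h6
        · exact absurd (h6 ▸ dvd_rfl) (L.not_dvd_orderOf hk)
      rw [hk1, mul_one] at he
      exact L.mem_N_of_conj hmP hm1' (by
        simp only [Subgroup.coe_mul, InvMemClass.coe_inv] at he
        rw [he]; exact hu)
    have hCle : C ≤ L.N := fun c hc => hle ⟨c, hc⟩
    have h2 := Subgroup.card_dvd_of_le hCle
    rw [h, card_N1680 hG L hn hm] at h2
    norm_num at h2
  have hMdvd : Nat.card M ∣ 2024 := hHcard ▸ Subgroup.card_dvd_of_le H.normalCore_le
  have hno23 : ¬ 23 ∣ Nat.card M := by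
    intro hd
    obtain ⟨⟨m, hmM⟩, hm23⟩ := exists_prime_orderOf_dvd_card' (G := M) 23 hd
    have hmo : orderOf (m : G) = 23 := by
      rw [Subgroup.orderOf_coe]
      exact (Subgroup.orderOf_coe (⟨m, hmM⟩ : M)).trans hm23
    have h2 := hMN m hmM
    obtain ⟨u, hu, k, hk, he⟩ :=
      L.decomp _ (L.mem_centralizer_of_mem_N h2 (by rw [hmo]))
    have hk1 : k = 1 := by
      have h4 : (m : G) ^ 23 = 1 := by rw [← hmo]; exact pow_orderOf_eq_one _
      rw [he, (L.commute hu hk).mul_pow, L.pow_p hu, one_mul] at h4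
      rcases (Nat.dvd_prime (by norm_num : Nat.Prime 23)).1 (orderOf_dvd_of_pow_eq_one h4) with
        h6 | h6
      · exact orderOf_eq_one_iff.1 h6
      · exact absurd (h6 ▸ dvd_rfl) (L.not_dvd_orderOf hk)
    rw [hk1, mul_one] at he
    have h1 := hMP m hmM (he ▸ hu)
    rw [h1, OneMemClass.coe_one, orderOf_one] at hmo
    norm_num at hmo
  have hno11 : ¬ 11 ∣ Nat.card M := by
    intro hd
    obtain ⟨⟨m, hmM⟩, hm11⟩ := exists_prime_orderOf_dvd_card' (G := M) 11 (hp := ⟨by norm_num⟩) hd
    have hmo : orderOf (m : G) = 11 := by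
      rw [Subgroup.orderOf_coe]
      exact (Subgroup.orderOf_coe (⟨m, hmM⟩ : M)).trans hm11
    have hcent : (m : G) ∈ Subgroup.centralizer ((L.P : Subgroup G) : Set G) := by
      rw [Subgroup.mem_centralizer_iff]
      intro u hu
      let uC : C := ⟨u, hPC hu⟩
      have h1 : m * uC * m⁻¹ * uC⁻¹ = 1 := by
        refine hMP _ ?_ ?_
        · rw [show m * uC * m⁻¹ * uC⁻¹ = m * (uC * m⁻¹ * uC⁻¹) by group]
          exact mul_mem hmM ((inferInstance : M.Normal).conj_mem _ (inv_mem hmM) uC)
        · simp only [Subgroup.coe_mul, InvMemClass.coe_inv]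
          exact mul_mem (L.conj_mem_P (hMN m hmM) hu) (inv_mem hu)
      have h2 := congrArg Subtype.val (mul_inv_eq_one.1 h1)
      simp only [Subgroup.coe_mul, InvMemClass.coe_inv, uC] at h2
      exact (mul_inv_eq_iff_eq_mul.1 h2).symm
    have hd2 := Subgroup.orderOf_dvd_natCard _ hcent
    rw [hmo, L.card_centralizer] at hd2
    rcases hm with ⟨-, h⟩ | ⟨-, h⟩ <;> rw [h] at hd2 <;> norm_num at hd2
  have hM8 : Nat.card M ≤ 8 := by
    refine Nat.le_of_dvd (by norm_num) ((Nat.Coprime.dvd_mul_right ?_).1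
      (show Nat.card M ∣ 8 * 253 from hMdvd))
    refine Nat.Coprime.symm ?_
    rw [show (253 : ℕ) = 11 * 23 by norm_num, Nat.coprime_mul_iff_left]
    exact ⟨(Nat.Prime.coprime_iff_not_dvd (by norm_num)).2 hno11,
      (Nat.Prime.coprime_iff_not_dvd (by norm_num)).2 hno23⟩
  -- the conjugates of `V` inside `M`
  have hVC : ∀ v ∈ T.V, v ∈ C := fun v hv => by
    haveI : Fact (Nat.Prime 2) := ⟨by norm_num⟩
    have hc := (IsPGroup.isMulCommutative_of_card_eq_prime_sq
      (show Nat.card T.V = 2 ^ 2 by rw [T.hV]; norm_num)).is_comm.comm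
    rw [hC, Subgroup.mem_centralizer_singleton_iff]
    exact congrArg Subtype.val (hc ⟨v, hv⟩ ⟨T.z, hzV⟩)
  set W : Finset C := Finset.univ.filter fun c : C => (c : G) ∈ T.V with hW
  have hWc : W.card = 4 := by
    rw [← T.hV, ← Nat.card_eq_finsetCard]
    exact Nat.card_congr
      { toFun := fun c => ⟨((c : C) : G), (Finset.mem_filter.1 c.2).2⟩
        invFun := fun v => ⟨⟨v, hVC v v.2⟩, Finset.mem_filter.2 ⟨Finset.mem_univ _, v.2⟩⟩
        left_inv := fun c => rfl
        right_inv := fun v => rfl }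
  set S : Finset C := Finset.univ.filter fun c : C => c ∈ M with hS
  have hSc : S.card ≤ 8 := by
    refine le_trans (le_of_eq ?_) hM8
    rw [hS, ← Fintype.card_subtype, Nat.card_eq_fintype_card]
  set zC : C := ⟨T.z, hVC _ hzV⟩ with hzC
  let img : C ⧸ H → Finset C := fun q =>
    ((W.image fun w => q.out * w * q.out⁻¹).erase (1 : C)).erase zC
  have himg : ∀ q, img q ∈ ((S.erase (1 : C)).erase zC).powersetCard 2 := by
    intro q
    have hcz : q.out * zC * q.out⁻¹ = zC := by
      apply Subtype.ext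
      simp only [Subgroup.coe_mul, InvMemClass.coe_inv, hzC]
      exact mul_inv_eq_iff_eq_mul.2 (Subgroup.mem_centralizer_singleton_iff.1 q.out.2)
    have hsub : (W.image fun w => q.out * w * q.out⁻¹) ⊆ S := by
      intro x hx
      obtain ⟨w, hw, rfl⟩ := Finset.mem_image.1 hx
      refine Finset.mem_filter.2 ⟨Finset.mem_univ _, (inferInstance : M.Normal).conj_mem w ?_ _⟩
      exact hKM (Subgroup.mem_subgroupOf.2 (T.hVK (Finset.mem_filter.1 hw).2))
    refine Finset.mem_powersetCard.2 ⟨Finset.erase_subset_erase _ (Finset.erase_subset_erase _ hsub),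
      ?_⟩
    have h1 : (1 : C) ∈ W.image fun w => q.out * w * q.out⁻¹ :=
      Finset.mem_image.2 ⟨1, Finset.mem_filter.2 ⟨Finset.mem_univ _, one_mem T.V⟩, by simp⟩
    have h2 : zC ∈ (W.image fun w => q.out * w * q.out⁻¹).erase (1 : C) :=
      Finset.mem_erase.2 ⟨fun e => T.hz1 (congrArg Subtype.val e),
        Finset.mem_image.2 ⟨zC, Finset.mem_filter.2 ⟨Finset.mem_univ _, hzV⟩, hcz⟩⟩
    rw [Finset.card_erase_of_mem h2, Finset.card_erase_of_mem h1,
      Finset.card_image_of_injective _ fun a b hab => mul_left_cancel (mul_right_cancel hab), hWc]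
  have hinj : Function.Injective img := by
    intro q q' he
    have hins : ∀ q : C ⧸ H,
        W.image (fun w => q.out * w * q.out⁻¹) = insert (1 : C) (insert zC (img q)) := by
      intro q
      have hcz : q.out * zC * q.out⁻¹ = zC := by
        apply Subtype.ext
        simp only [Subgroup.coe_mul, InvMemClass.coe_inv, hzC]
        exact mul_inv_eq_iff_eq_mul.2 (Subgroup.mem_centralizer_singleton_iff.1 q.out.2)
      have h1 : (1 : C) ∈ W.image fun w => q.out * w * q.out⁻¹ :=
        Finset.mem_image.2 ⟨1, Finset.mem_filter.2 ⟨Finset.mem_univ _, one_mem T.V⟩, by simp⟩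
      have h2 : zC ∈ (W.image fun w => q.out * w * q.out⁻¹).erase (1 : C) :=
        Finset.mem_erase.2 ⟨fun e => T.hz1 (congrArg Subtype.val e),
          Finset.mem_image.2 ⟨zC, Finset.mem_filter.2 ⟨Finset.mem_univ _, hzV⟩, hcz⟩⟩
      simp only [img]
      rw [Finset.insert_erase h2, Finset.insert_erase h1]
    have h1 : W.image (fun w => q.out * w * q.out⁻¹) = W.image fun w => q'.out * w * q'.out⁻¹ := by
      rw [hins, hins, he]
    have key : q.out⁻¹ * q'.out ∈ H → q = q' := fun hk =>
      (QuotientGroup.out_eq' q).symm.trans ((QuotientGroup.eq.2 hk).trans (QuotientGroup.out_eq' q'))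
    refine key ?_
    set a := q.out with ha
    set b := q'.out with hb
    show ((a⁻¹ * b : C) : G) ∈ L.N
    rw [← T.hNV, Subgroup.mem_normalizer_iff]
    intro v
    constructor
    · intro hv
      have h2 : b * ⟨v, hVC v hv⟩ * b⁻¹ ∈ W.image fun w => a * w * a⁻¹ :=
        h1 ▸ Finset.mem_image.2 ⟨_, Finset.mem_filter.2 ⟨Finset.mem_univ _, hv⟩, rfl⟩
      obtain ⟨w, hw, hwe⟩ := Finset.mem_image.1 h2
      have h3 := congrArg (fun x : C => (a : G)⁻¹ * (x : G) * a) hwe
      simp only [Subgroup.coe_mul, InvMemClass.coe_inv] at h3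
      have h4 : ((a⁻¹ * b : C) : G) * v * ((a⁻¹ * b : C) : G)⁻¹ = w := by
        simp only [Subgroup.coe_mul, InvMemClass.coe_inv]
        calc (a : G)⁻¹ * b * v * ((a : G)⁻¹ * b)⁻¹ = (a : G)⁻¹ * (b * v * (b : G)⁻¹) * a := by group
          _ = (a : G)⁻¹ * (a * w * (a : G)⁻¹) * a := h3.symm
          _ = w := by group
      rw [h4]
      exact (Finset.mem_filter.1 hw).2
    · intro hv
      have h2 : a * ⟨_, hVC _ hv⟩ * a⁻¹ ∈ W.image fun w => b * w * b⁻¹ :=
        h1.symm ▸ Finset.mem_image.2 ⟨_, Finset.mem_filter.2 ⟨Finset.mem_univ _, hv⟩, rfl⟩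
      obtain ⟨w, hw, hwe⟩ := Finset.mem_image.1 h2
      have h3 := congrArg (fun x : C => (x : G)) hwe
      simp only [Subgroup.coe_mul, InvMemClass.coe_inv] at h3
      have h4 : v = (w : G) := by
        have : (b : G) * v * (b : G)⁻¹ = b * w * (b : G)⁻¹ := by rw [h3]; group
        exact mul_left_cancel (mul_right_cancel this)
      rw [h4]
      exact (Finset.mem_filter.1 hw).2
  have h15 : (((S.erase (1 : C)).erase zC).powersetCard 2).card ≤ 15 := by
    rw [Finset.card_powersetCard]
    have h1 : (1 : C) ∈ S := Finset.mem_filter.2 ⟨Finset.mem_univ _, one_mem M⟩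
    have h2 : zC ∈ S.erase (1 : C) := Finset.mem_erase.2 ⟨fun e => T.hz1 (congrArg Subtype.val e),
      Finset.mem_filter.2 ⟨Finset.mem_univ _, hKM (Subgroup.mem_subgroupOf.2 (T.hVK hzV))⟩⟩
    rw [Finset.card_erase_of_mem h2, Finset.card_erase_of_mem h1]
    calc (S.card - 1 - 1).choose 2 ≤ (6 : ℕ).choose 2 := Nat.choose_le_choose 2 (by omega)
      _ = 15 := by decide
  have h24 : (Finset.univ.image img).card ≤ 15 :=
    le_trans (Finset.card_le_card fun x hx => by
      obtain ⟨q, -, rfl⟩ := Finset.mem_image.1 hx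
      exact himg q) h15
  rw [Finset.card_image_of_injective _ hinj, Finset.card_univ, ← Nat.card_eq_fintype_card,
    ← Subgroup.index_eq_card, hidx] at h24
  omega

/-- The Sylow 23-subgroups are self-centralizing with inertial index eleven. -/
theorem local_twenty_three :
    L.N.index = 40320 ∧ e L = 11 ∧ L.K = ⊥ := by
  rcases index_cases hG L with ⟨h1, h2, h3⟩ | ⟨hn, hm⟩
  · exact ⟨h1, h2, Subgroup.card_eq_one.1 h3⟩
  exfalso
  obtain ⟨T⟩ := exists_twoPart hG L hn hm
  set C := Subgroup.centralizer ({T.z} : Set G) with hC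
  have hne : C ≠ ⊤ := Small.centralizer_singleton_ne_top (not_comm hG) T.hz1
  have hPC : (L.P : Subgroup G) ≤ C := fun u hu => by
    rw [hC, Subgroup.mem_centralizer_singleton_iff]
    exact Subgroup.mem_centralizer_iff.1 (L.le_centralizer (T.hVK T.hzV)) u hu
  obtain ⟨t, ht, hcard, -⟩ := Small.exists_card_eq_mul_normalizer L.P hPC
  rw [inf_comm, show Nat.card (C ⊓ Subgroup.normalizer ((L.P : Subgroup G) : Set G) : Subgroup G)
    = 2024 from T.hCN] at hcard
  have h16 := T.h16
  rw [← hC, hcard] at h16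
  have hidx := Subgroup.index_mul_card C
  rw [hcard, hG] at hidx
  have hlt := lt_index hG hne
  have hd : t ∣ 5040 := ⟨C.index, by
    refine Nat.eq_of_mul_eq_mul_left (show 0 < 2024 by norm_num) ?_
    rw [← show C.index * (t * 2024) = 2024 * (t * C.index) by ring, hidx]⟩
  have hall : ∀ t ∈ Nat.divisors 5040, t % 23 = 1 → 16 ∣ t * 2024 → t = 24 ∨ t = 70 ∨ t = 1680 := by
    decide +kernel
  rcases hall t (Nat.mem_divisors.2 ⟨hd, by norm_num⟩) ht h16 with rfl | rfl | rfl
  · exact not_twenty_four hG L hn hm T hcard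
  · exact not_index_seventy_two hG L T (show C.index = 72 by omega)
  · omega

end CfsgLib.MTwentyThreeUnique
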