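import Cfsg.Agent.MTwentyThreeUnique.LocalCases
import Cfsg.Agent.LocalEven50.Basic

/-!
A simple group of order 10200960 does not have 1680 Sylow 23-subgroups: the subgroups of the
complement `K` invariant under the normalizer.
-/

set_option autoImplicit false
set_option linter.style.haveILetI false
set_option linter.unusedSectionVars false

open scoped Pointwise
open Cfsg CfsgLib.Characters CfsgLib.DefectOne CfsgLib.BrauerOrderP

namespace CfsgLib.MTwentyThreeUnique

universe u

/-- A permutation of a set smaller than the prime `q` whose `q`-th power is trivial is trivial. -/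
theorem smul_eq_of_small {G : Type*} [Group G] {X : Type*} [MulAction G X] [Finite X] {q : ℕ}
    (hq : q.Prime) (hX : Nat.card X < q) {x : G} (hx : x ^ q = 1) (a : X) : x • a = a := by
  have h1 : (MulAction.toPermHom G X x) ^ q = 1 := by rw [← map_pow, hx, map_one]
  have h2 := orderOf_dvd_of_pow_eq_one h1
  rcases (Nat.dvd_prime hq).1 h2 with h | h
  · rw [orderOf_eq_one_iff] at h
    exact congrArg (fun σ : Equiv.Perm X => σ a) h
  · have h3 := orderOf_dvd_natCard (MulAction.toPermHom G X x)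
    rw [h, Nat.card_perm, hq.dvd_factorial] at h3
    omega

variable {G : Type u} [Group G] [Fintype G]

/-- An element of prime order `q` normalizing a subgroup of order at most `q` centralizes it. -/
theorem commute_of_small {q : ℕ} (hq : q.Prime) {V : Subgroup G} (hV : Nat.card V ≤ q) {x : G}
    (hx : x ^ q = 1) (hn : ∀ v ∈ V, x * v * x⁻¹ ∈ V) {v : G} (hv : v ∈ V) :
    x * v * x⁻¹ = v := by
  classical
  by_cases hv1 : v = 1
  · simp [hv1]
  have hn' : ∀ j : ℕ, ∀ w ∈ V, x ^ j * w * (x ^ j)⁻¹ ∈ V := by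
    intro j
    induction j with
    | zero => simp
    | succ j ih =>
      intro w hw
      rw [pow_succ, mul_inv_rev, show x ^ j * x * w * (x⁻¹ * (x ^ j)⁻¹) =
        x ^ j * (x * w * x⁻¹) * (x ^ j)⁻¹ by group]
      exact ih _ (hn w hw)
  let W := {w : G // w ∈ V ∧ w ≠ 1}
  have hmem : ∀ c ∈ Subgroup.zpowers x, ∀ w : W, c * w.1 * c⁻¹ ∈ V ∧ c * w.1 * c⁻¹ ≠ 1 := by
    intro c hc w
    obtain ⟨j, rfl⟩ := (mem_powers_iff_mem_zpowers).2 hc
    exact ⟨hn' j _ w.2.1, fun h => w.2.2 (conj_eq_one_iff.1 h)⟩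
  letI : MulAction (Subgroup.zpowers x) W :=
    { smul := fun c w => ⟨(c : G) * w.1 * (c : G)⁻¹, hmem c c.2 w⟩
      one_smul := fun w => Subtype.ext (by
        show ((1 : Subgroup.zpowers x) : G) * w.1 * ((1 : Subgroup.zpowers x) : G)⁻¹ = w.1
        simp)
      mul_smul := fun a b w => Subtype.ext (by
        show ((a * b : Subgroup.zpowers x) : G) * w.1 * ((a * b : Subgroup.zpowers x) : G)⁻¹ =
          (a : G) * ((b : G) * w.1 * (b : G)⁻¹) * (a : G)⁻¹
        simp [mul_assoc]) }
  have hW : Nat.card W < q := by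
    have h1 : Nat.card W < Nat.card V := by
      haveI := Fintype.ofFinite W
      haveI := Fintype.ofFinite V
      rw [Nat.card_eq_fintype_card, Nat.card_eq_fintype_card]
      refine Fintype.card_lt_of_injective_of_notMem (fun w : W => (⟨w.1, w.2.1⟩ : V))
        (fun a b h => Subtype.ext (congrArg Subtype.val h :)) (b := 1) ?_
      rintro ⟨w, hw⟩
      exact w.2.2 (congrArg Subtype.val hw)
    omega
  have h := smul_eq_of_small hq hW
    (x := (⟨x, Subgroup.mem_zpowers x⟩ : Subgroup.zpowers x))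
    (Subtype.ext (by simpa using hx)) (⟨v, hv, hv1⟩ : W)
  exact congrArg Subtype.val h

variable [IsSimpleGroup G] (hG : Nat.card G = 10200960) [Fact (Nat.Prime 23)] (L : Local 23 G)
  (hn : L.N.index = 1680)
  (hm : e L = 11 ∧ Nat.card L.K = 24 ∨ e L = 22 ∧ Nat.card L.K = 12)
include hG hn hm

theorem card_N1680 : Nat.card L.N = 6072 := by
  have h := Subgroup.index_mul_card L.N
  rw [hn, hG] at h
  omega

/-- The normalizer of an invariant subgroup is the normalizer of `P`. -/
theorem normalizer_eq_of_invariant {T : Subgroup G} (h1 : 1 < Nat.card T)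
    (h2 : Nat.card T < 10200960) (hN : L.N ≤ Subgroup.normalizer (T : Set G)) :
    Subgroup.normalizer (T : Set G) = L.N := by
  obtain ⟨h3, h4, h5, h6⟩ := index_facts hG L (normalizer_ne_top_of_card hG h1 h2) hN
  rw [hn] at h3
  have hall : ∀ i ∈ Nat.divisors 1680, i % 23 = 1 → 22 < i → i = 24 ∨ i = 70 ∨ i = 1680 := by
    decide +kernel
  rcases hall _ (Nat.mem_divisors.2 ⟨h3, by norm_num⟩) h4 h5 with h | h | h
  · rw [h] at h6
    rcases hm with ⟨-, h'⟩ | ⟨-, h'⟩ <;> rw [h'] at h6 <;> norm_num [Nat.factorial] at h6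
  · rw [h] at h6
    rcases hm with ⟨-, h'⟩ | ⟨-, h'⟩ <;> rw [h'] at h6 <;> norm_num [Nat.factorial] at h6
  · refine (Subgroup.eq_of_le_of_card_ge hN ?_).symm
    have h7 := Subgroup.index_mul_card (Subgroup.normalizer (T : Set G))
    rw [h, hG] at h7
    rw [card_N1680 hG L hn hm]
    omega

/-- An element of order three in the normalizer lies in `K`. -/
theorem mem_K_of_three {t : G} (ht : t ∈ L.N) (h3 : orderOf t = 3) : t ∈ L.K := by
  set C := Subgroup.centralizer ((L.P : Subgroup G) : Set G) with hC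
  have hne : (C.subgroupOf L.N).Normal := ⟨fun c hc n => by
    rw [Subgroup.mem_subgroupOf] at hc ⊢
    simpa only [Subgroup.coe_mul, InvMemClass.coe_inv] using L.conj_mem_centralizer n.2 hc⟩
  haveI := hne
  have hidx : (C.subgroupOf L.N).index = e L := by
    have h1 := Subgroup.index_mul_card (C.subgroupOf L.N)
    rw [Nat.card_congr (Subgroup.subgroupOfEquivOfLe (Subgroup.centralizer_le_normalizer _)).toEquiv,
      L.card_centralizer, ← card_N L] at h1
    exact Nat.eq_of_mul_eq_mul_right (mul_pos (by norm_num) (Nat.card_pos (α := L.K))) h1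
  have htC : t ∈ C := by
    have h1 : (QuotientGroup.mk ⟨t, ht⟩ : L.N ⧸ C.subgroupOf L.N) = 1 := by
      rw [← orderOf_eq_one_iff]
      have h2 : orderOf (QuotientGroup.mk ⟨t, ht⟩ : L.N ⧸ C.subgroupOf L.N) ∣ 3 := by
        refine (orderOf_map_dvd (QuotientGroup.mk' _) (⟨t, ht⟩ : L.N)).trans ?_
        rw [← Subgroup.orderOf_coe, h3]
      have h4 := orderOf_dvd_natCard (QuotientGroup.mk ⟨t, ht⟩ : L.N ⧸ C.subgroupOf L.N)
      rw [← Subgroup.index_eq_card, hidx] at h4
      refine Nat.eq_one_of_dvd_coprimes ?_ h2 h4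
      rcases hm with ⟨h, -⟩ | ⟨h, -⟩ <;> rw [h] <;> decide
    rwa [QuotientGroup.eq_one_iff, Subgroup.mem_subgroupOf] at h1
  exact L.mem_K t htC (by rw [h3]; norm_num)

/-- The Sylow 3-subgroups of `K` are not normal. -/
theorem card_sylow_three_K [Fact (Nat.Prime 3)] : Nat.card (Sylow 3 L.K) = 4 := by
  obtain ⟨R⟩ : Nonempty (Sylow 3 L.K) := inferInstance
  have h1 := R.card_dvd_index
  have hR : Nat.card (R : Subgroup L.K) = 3 :=
    card_sylow_of_sq_not_dvd (by rcases hm with ⟨-, h⟩ | ⟨-, h⟩ <;> rw [h] <;> norm_num)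
      (by rcases hm with ⟨-, h⟩ | ⟨-, h⟩ <;> rw [h] <;> norm_num) R
  have h2 := Subgroup.index_mul_card (R : Subgroup L.K)
  rw [hR] at h2
  have h3 : (R : Subgroup L.K).index ∣ 8 := by
    rcases hm with ⟨-, h⟩ | ⟨-, h⟩ <;> rw [h] at h2
    · rw [show (R : Subgroup L.K).index = 8 by omega]
    · rw [show (R : Subgroup L.K).index = 4 by omega]; norm_num
  have h4 := card_sylow_modEq_one 3 L.K
  rw [Nat.ModEq] at h4
  have h5 := h1.trans h3
  have h6 := Nat.le_of_dvd (by norm_num) h5
  by_contra hne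
  have h7 : Nat.card (Sylow 3 L.K) = 1 := by
    interval_cases Nat.card (Sylow 3 L.K) <;> omega
  obtain ⟨T, -, hT, hNT⟩ := exists_invariant_sylow L 3 h7
  have hf : (Nat.card L.K).factorization 3 = 1 := by
    have h8 := R.card_eq_multiplicity
    rw [hR] at h8
    exact (Nat.pow_right_injective (le_refl 2 |>.trans (by norm_num))
      (h8.symm.trans (pow_one 3).symm))
  rw [hf, pow_one] at hT
  have hN' := normalizer_eq_of_invariant hG L hn hm (by rw [hT]; norm_num) (by rw [hT]; norm_num) hNT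
  obtain ⟨Q, hQc, hTQ⟩ := Sylow.exists_subgroup_card_pow_prime_le (p := 3) (n := 1) (m := 2)
    (by rw [hG]; norm_num) T (by rw [hT, pow_one]) (by norm_num)
  have hQN : Q ≤ L.N := by
    rw [← hN']
    refine le_normalizer_of_conj fun q hq t ht => ?_
    have hc := (IsPGroup.isMulCommutative_of_card_eq_prime_sq hQc).is_comm.comm
    have : q * t = t * q := congrArg Subtype.val (hc ⟨q, hq⟩ ⟨t, hTQ ht⟩)
    rw [this, mul_inv_cancel_right]
    exact ht
  have h8 := Subgroup.card_dvd_of_le hQN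
  rw [hQc, card_N1680 hG L hn hm] at h8
  norm_num at h8

/-- A subgroup of order three of `K` has normalizer of order `|K|/4` in `K`. -/
theorem card_normalizer_three [Fact (Nat.Prime 3)] {T : Subgroup G} (hT : T ≤ L.K)
    (hTc : Nat.card T = 3) :
    Nat.card (L.K ⊓ Subgroup.normalizer (T : Set G) : Subgroup G) * 4 = Nat.card L.K := by
  have hsq : ¬ 3 ^ 2 ∣ Nat.card L.K := by
    rcases hm with ⟨-, h⟩ | ⟨-, h⟩ <;> rw [h] <;> norm_num
  obtain ⟨S, hS⟩ : ∃ S : Sylow 3 L.K, (S : Subgroup L.K) = T.subgroupOf L.K := by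
    have hc : Nat.card (T.subgroupOf L.K) = 3 := by
      rw [Nat.card_congr (Subgroup.subgroupOfEquivOfLe hT).toEquiv, hTc]
    obtain ⟨R, hR⟩ := (IsPGroup.of_card (n := 1) (by rw [hc, pow_one]) :
      IsPGroup 3 (T.subgroupOf L.K)).exists_le_sylow
    exact ⟨R, (Subgroup.eq_of_le_of_card_ge hR (by
      rw [hc, card_sylow_of_sq_not_dvd (by
        rcases hm with ⟨-, h⟩ | ⟨-, h⟩ <;> rw [h] <;> norm_num) hsq R])).symm⟩
  have h1 : Nat.card (Sylow 3 L.K) =
      (Subgroup.normalizer ((S : Subgroup L.K) : Set L.K)).index := S.card_eq_index_normalizer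
  rw [card_sylow_three_K hG L hn hm, hS, ← Subgroup.subgroupOf_normalizer_eq hT] at h1
  have h2 := Subgroup.index_mul_card ((Subgroup.normalizer (T : Set G)).subgroupOf L.K)
  rw [← h1, ← Subgroup.inf_subgroupOf_right,
    Nat.card_congr (Subgroup.subgroupOfEquivOfLe inf_le_right).toEquiv] at h2
  rw [inf_comm, mul_comm]
  exact h2

/-- An element of order three of `K` centralizes only subgroups of order dividing `|K|/4`. -/
theorem card_dvd_of_centralizes {V : Subgroup G} (hV : V ≤ L.K) {t : G} (ht : orderOf t = 3)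
    (htK : t ∈ L.K) (hc : ∀ v ∈ V, t * v * t⁻¹ = v) : Nat.card V * 4 ∣ Nat.card L.K := by
  haveI : Fact (Nat.Prime 3) := ⟨by norm_num⟩
  have hTc : Nat.card (Subgroup.zpowers t) = 3 := by rw [Nat.card_zpowers, ht]
  have h := card_normalizer_three hG L hn hm (Subgroup.zpowers_le.2 htK) hTc
  have hle : V ≤ L.K ⊓ Subgroup.normalizer ((Subgroup.zpowers t : Subgroup G) : Set G) := by
    refine le_inf hV (le_normalizer_of_conj fun v hv s hs => ?_)
    obtain ⟨j, rfl⟩ := hs
    have hvt : Commute v t := by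
      have := hc v hv
      rw [mul_inv_eq_iff_eq_mul] at this
      exact this.symm
    show v * t ^ j * v⁻¹ ∈ Subgroup.zpowers t
    rw [(hvt.zpow_right j).eq, mul_inv_cancel_right]
    exact Subgroup.zpow_mem _ (Subgroup.mem_zpowers t) j
  rw [← h]
  exact Nat.mul_dvd_mul_right (Subgroup.card_dvd_of_le hle) 4

/-- The intersection of the Sylow 2-subgroups of `K`. -/
theorem exists_invariant_two : ∃ V : Subgroup G, V ≤ L.K ∧ L.N ≤ Subgroup.normalizer (V : Set G) ∧
    (Nat.card V = 4 ∨ Nat.card V = 8) := by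
  haveI : Fact (Nat.Prime 2) := ⟨by norm_num⟩
  haveI : Fact (Nat.Prime 3) := ⟨by norm_num⟩
  set a := Nat.card L.K / 3 with ha
  have ha3 : Nat.card L.K = a * 3 ∧ (a = 8 ∨ a = 4) := by
    rcases hm with ⟨-, h⟩ | ⟨-, h⟩ <;> simp only [ha, h] <;> norm_num
  let F : Set (Subgroup G) := {R | R ≤ L.K ∧ Nat.card R = a}
  let V : Subgroup G := sInf F ⊓ L.K
  have hinv : L.N ≤ Subgroup.normalizer (V : Set G) := by
    refine le_normalizer_of_conj fun n hn' v hv => ?_
    obtain ⟨hv1, hv2⟩ := Subgroup.mem_inf.1 hv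
    refine Subgroup.mem_inf.2 ⟨Subgroup.mem_sInf.2 fun R hR => ?_, L.conj_mem_K hn' hv2⟩
    have hR' : R.map (MulAut.conj n⁻¹).toMonoidHom ∈ F :=
      ⟨map_conj_le L (inv_mem hn') hR.1, (card_map_conj n⁻¹ R).trans hR.2⟩
    obtain ⟨r, hr, he⟩ := Subgroup.mem_sInf.1 hv1 _ hR'
    have : n * v * n⁻¹ = r := by
      rw [← he]
      simp [mul_assoc]
    rwa [this]
  have hpow : 2 ^ (Nat.card L.K).factorization 2 = a := by
    rw [ha3.1, Nat.factorization_mul (by omega) (by norm_num), Finsupp.add_apply,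
      Nat.factorization_eq_zero_of_not_dvd (show ¬ 2 ∣ 3 by norm_num), add_zero]
    rcases ha3.2 with h | h <;> rw [h]
    · rw [show (8 : ℕ) = 2 ^ 3 by norm_num, Nat.Prime.factorization_pow Nat.prime_two,
        Finsupp.single_eq_same]
    · rw [show (4 : ℕ) = 2 ^ 2 by norm_num, Nat.Prime.factorization_pow Nat.prime_two,
        Finsupp.single_eq_same]
  have hcardS : ∀ R : Sylow 2 L.K, Nat.card (R : Subgroup L.K) = a := fun R => by
    rw [R.card_eq_multiplicity, hpow]
  have hmem : ∀ R : Sylow 2 L.K, (R : Subgroup L.K).map L.K.subtype ∈ F := fun R =>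
    ⟨Subgroup.map_subtype_le _, by
      rw [Subgroup.card_map_of_injective L.K.subtype_injective, hcardS]⟩
  have hVV : ∀ x : L.K, (x : G) ∈ V ↔ ∀ T : Sylow 2 L.K, x ∈ (T : Subgroup L.K) := by
    refine fun x => ⟨fun hx T => ?_, fun hx => Subgroup.mem_inf.2 ⟨Subgroup.mem_sInf.2 fun R hR => ?_, x.2⟩⟩
    · obtain ⟨r, hr, hrx⟩ := Subgroup.mem_sInf.1 (Subgroup.mem_inf.1 hx).1 _ (hmem T)
      rwa [← Subtype.ext (show (r : G) = x from hrx)]
    · have hc : Nat.card (R.subgroupOf L.K) = 2 ^ (Nat.card L.K).factorization 2 := by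
        rw [Nat.card_congr (Subgroup.subgroupOfEquivOfLe hR.1).toEquiv, hR.2, hpow]
      exact hx (Sylow.ofCard (R.subgroupOf L.K) hc)
  have hVle : V ≤ L.K := inf_le_right
  refine ⟨V, hVle, hinv, ?_⟩
  obtain ⟨S⟩ : Nonempty (Sylow 2 L.K) := inferInstance
  have hcV : Nat.card (V.subgroupOf L.K) = Nat.card V :=
    Nat.card_congr (Subgroup.subgroupOfEquivOfLe hVle).toEquiv
  have hd : Nat.card V ∣ a := by
    rw [← hcV, ← hcardS S]
    exact Subgroup.card_dvd_of_le fun x hx => (hVV x).1 hx S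
  have hsq : Nat.card (Sylow 2 L.K) ∣ 3 := by
    have h1 := S.card_dvd_index
    have h2 := Subgroup.index_mul_card (S : Subgroup L.K)
    rw [hcardS, ha3.1, mul_comm a 3] at h2
    rwa [Nat.eq_of_mul_eq_mul_right (by omega : 0 < a) h2] at h1
  rcases (Nat.dvd_prime Nat.prime_three).1 hsq with h | h
  · have hsub := (Nat.card_eq_one_iff_unique.1 h).1
    have h1 : Nat.card V = a := by
      rw [← hcV, ← hcardS S]
      congr 2
      ext x
      exact ⟨fun hx => (hVV x).1 hx S, fun hx => (hVV x).2 fun T => hsub.elim S T ▸ hx⟩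
    omega
  · set f := MulAction.toPermHom L.K (Sylow 2 L.K) with hf
    have hkle : f.ker ≤ V.subgroupOf L.K := by
      intro x hx
      refine (hVV x).2 fun T => ?_
      have hxN : x ∈ Subgroup.normalizer ((T : Subgroup L.K) : Set L.K) :=
        Sylow.smul_eq_iff_mem_normalizer.1 (DFunLike.congr_fun (MonoidHom.mem_ker.1 hx) T)
      have h1 : Nat.card (Sylow 2 L.K) =
          (Subgroup.normalizer ((T : Subgroup L.K) : Set L.K)).index := T.card_eq_index_normalizer
      rw [h] at h1
      have h2 := Subgroup.index_mul_card (Subgroup.normalizer ((T : Subgroup L.K) : Set L.K))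
      rw [← h1] at h2
      have heq : (T : Subgroup L.K) = Subgroup.normalizer ((T : Subgroup L.K) : Set L.K) :=
        Subgroup.eq_of_le_of_card_ge Subgroup.le_normalizer (by rw [hcardS T]; omega)
      rwa [← heq] at hxN
    have h3 : f.ker.index ∣ 6 := by
      have h4 := Subgroup.card_subgroup_dvd_card f.range
      rw [Nat.card_perm, h, ← Subgroup.index_ker] at h4
      exact h4
    have h5 := Subgroup.index_mul_card f.ker
    obtain ⟨c, hc⟩ := Subgroup.card_dvd_of_le hkle
    rw [hcV] at hc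
    have h6 := Nat.le_of_dvd (by norm_num) h3
    have hpos : 0 < Nat.card V := Nat.card_pos
    have hge : a ≤ 2 * Nat.card V := by
      have h7 : Nat.card f.ker ≤ Nat.card V := Nat.le_of_dvd hpos ⟨c, hc⟩
      have h8 : Nat.card L.K ≤ 6 * Nat.card V := by
        rw [← h5]; exact Nat.mul_le_mul h6 h7
      omega
    rcases ha3.2 with h9 | h9 <;> rw [h9] at hd hge
    · have := Nat.le_of_dvd (by norm_num) hd
      interval_cases Nat.card V <;> omega
    · have := Nat.le_of_dvd (by norm_num) hd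
      by_contra hne
      have hV2 : Nat.card V = 2 := by
        interval_cases Nat.card V <;> omega
      obtain ⟨⟨t, htK⟩, ht⟩ := exists_prime_orderOf_dvd_card' (G := L.K) 3 (by rw [ha3.1]; exact dvd_mul_left 3 a)
      have ht3 : orderOf t = 3 := by rw [← ht, ← Subgroup.orderOf_coe]
      have htN : t ∈ L.N :=
        Subgroup.centralizer_le_normalizer _ (L.le_centralizer htK)
      have h10 := card_dvd_of_centralizes hG L hn hm hVle ht3 htK fun v hv =>
        commute_of_small Nat.prime_three (by omega) (by rw [← ht3]; exact pow_orderOf_eq_one t)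
          (fun w hw => (Subgroup.mem_normalizer_iff.1 (hinv htN) w).1 hw) hv
      rw [hV2, ha3.1, h9] at h10
      norm_num at h10

end CfsgLib.MTwentyThreeUnique
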