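import Cfsg.Agent.MTwentyThreeUnique.Lists
import Cfsg.Agent.MTwentyThreeUnique.FixedSpace

/-!
A simple group of order 10200960: the possible orders of the normalizer of a Sylow 23-subgroup, and
subgroups of its complement `K` invariant under the normalizer.
-/

set_option autoImplicit false
set_option linter.style.haveILetI false
set_option linter.unusedSectionVars false

open scoped Pointwise
open Cfsg CfsgLib.Characters CfsgLib.DefectOne CfsgLib.BrauerOrderP

namespace CfsgLib.MTwentyThreeUnique

universe u

variable {G : Type u} [Group G] [Fintype G]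

theorem order_factor {p : ℕ} [Fact p.Prime] (L : Local p G) :
    L.N.index * (e L * (p * Nat.card L.K)) = Nat.card G := by
  rw [card_N L]
  exact Subgroup.index_mul_card _

/-- A conjugation invariant family. -/
theorem le_normalizer_of_conj {N T : Subgroup G} (h : ∀ n ∈ N, ∀ t ∈ T, n * t * n⁻¹ ∈ T) :
    N ≤ Subgroup.normalizer (T : Set G) := fun n hn =>
  Subgroup.mem_normalizer_iff.2 fun t => ⟨h n hn t, fun ht => by
    have := h n⁻¹ (inv_mem hn) _ ht
    simpa [mul_assoc] using this⟩

variable {p : ℕ} [Fact p.Prime] (L : Local p G)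

/-- The conjugate by a normalizing element of a subgroup of `K` lies in `K`. -/
theorem map_conj_le {n : G} (hn : n ∈ L.N) {T : Subgroup G} (hT : T ≤ L.K) :
    T.map (MulAut.conj n).toMonoidHom ≤ L.K := by
  rintro _ ⟨t, ht, rfl⟩
  exact L.conj_mem_K hn (hT ht)

theorem card_map_conj (n : G) (T : Subgroup G) :
    Nat.card (T.map (MulAut.conj n).toMonoidHom) = Nat.card T :=
  Subgroup.card_map_of_injective (MulEquiv.injective _)

/-- The only subgroup of `K` of its order is invariant under the normalizer. -/
theorem le_normalizer_of_unique {T : Subgroup G} (hT : T ≤ L.K)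
    (huniq : ∀ U : Subgroup G, U ≤ L.K → Nat.card U = Nat.card T → U = T) :
    L.N ≤ Subgroup.normalizer (T : Set G) := by
  refine le_normalizer_of_conj fun n hn t ht => ?_
  rw [← huniq _ (map_conj_le L hn hT) (card_map_conj n T)]
  exact ⟨t, ht, rfl⟩

/-- A unique Sylow subgroup of `K` is invariant under the normalizer. -/
theorem exists_invariant_sylow (q : ℕ) [Fact q.Prime] (h : Nat.card (Sylow q L.K) = 1) :
    ∃ T : Subgroup G, T ≤ L.K ∧ Nat.card T = q ^ (Nat.card L.K).factorization q ∧
      L.N ≤ Subgroup.normalizer (T : Set G) := by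
  obtain ⟨R⟩ : Nonempty (Sylow q L.K) := inferInstance
  have hsub : Subsingleton (Sylow q L.K) := (Nat.card_eq_one_iff_unique.1 h).1
  have hc : Nat.card ((R : Subgroup L.K).map L.K.subtype) = q ^ (Nat.card L.K).factorization q := by
    rw [Subgroup.card_map_of_injective L.K.subtype_injective]
    exact R.card_eq_multiplicity
  refine ⟨_, Subgroup.map_subtype_le _, hc,
    le_normalizer_of_unique L (Subgroup.map_subtype_le _) fun U hU hUc => ?_⟩
  have hq : Nat.card (U.subgroupOf L.K) = q ^ (Nat.card L.K).factorization q := by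
    rw [Nat.card_congr (Subgroup.subgroupOfEquivOfLe hU).toEquiv, hUc, hc]
  have e : R = Sylow.ofCard (U.subgroupOf L.K) hq := hsub.elim _ _
  rw [e, Sylow.coe_ofCard, Subgroup.map_subgroupOf_eq_of_le hU]

variable [IsSimpleGroup G] (hG : Nat.card G = 10200960)
include hG

set_option maxRecDepth 4000 in
/-- The possible indices of normalizers of Sylow 23-subgroups. -/
theorem index_options [Fact (Nat.Prime 23)] (L : Local 23 G) :
    L.N.index * (e L * Nat.card L.K) = 443520 ∧ (e L = 2 ∨ e L = 11 ∨ e L = 22) ∧
      L.N.index ∈ [24, 70, 231, 576, 990, 1680, 3520, 5544, 40320] := by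
  have h1 := order_factor L
  rw [hG] at h1
  have h2 : L.N.index * (e L * Nat.card L.K) = 443520 := by
    refine Nat.eq_of_mul_eq_mul_left (show 0 < 23 by norm_num) ?_
    rw [show 23 * (L.N.index * (e L * Nat.card L.K)) = L.N.index * (e L * (23 * Nat.card L.K)) by
      ring, h1]
  have hN : L.N ≠ ⊤ := normalizer_ne_top_of_card hG (by rw [L.card_P]; norm_num)
    (by rw [L.card_P]; norm_num)
  obtain ⟨-, h3, h4, -⟩ := index_facts hG L hN le_rfl
  have he : e L ∣ 22 := e_dvd L
  have he2 := two_le_e L (perfect hG)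
  refine ⟨h2, ?_, ?_⟩
  · have hle := Nat.le_of_dvd (by norm_num) he
    interval_cases e L <;> omega
  · have hd : L.N.index ∣ 1152 * 385 := ⟨e L * Nat.card L.K, by rw [h2]⟩
    obtain ⟨a, b, ha, hb, hab⟩ := Nat.dvd_mul.1 hd
    have hall : ∀ a ∈ Nat.divisors 1152, ∀ b ∈ Nat.divisors 385, a * b % 23 = 1 → 22 < a * b →
        a * b ∈ [24, 70, 231, 576, 990, 1680, 3520, 5544, 40320, 443520] := by decide +kernel
    have h5 := hall a (Nat.mem_divisors.2 ⟨ha, by norm_num⟩) b (Nat.mem_divisors.2 ⟨hb, by norm_num⟩)
      (hab ▸ h3) (hab ▸ h4)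
    rw [hab] at h5
    simp only [List.mem_cons, List.not_mem_nil, or_false] at h5 ⊢
    rcases h5 with h | h | h | h | h | h | h | h | h | h
    any_goals tauto
    exfalso
    rw [h] at h2
    have h6 : e L * Nat.card L.K = 1 := by omega
    rw [(mul_eq_one.1 h6).1] at he2
    omega

end CfsgLib.MTwentyThreeUnique
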