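import Cfsg.Agent.MTwentyThreeUnique.LocalSixteenEighty

/-!
A simple group of order 10200960 with 1680 Sylow 23-subgroups: an involution of `K` whose centralizer
meets the normalizer in a subgroup of order 2024, and has order divisible by sixteen.
-/

set_option autoImplicit false
set_option linter.style.haveILetI false
set_option linter.unusedSectionVars false

open scoped Pointwise
open Cfsg CfsgLib.Characters CfsgLib.DefectOne CfsgLib.BrauerOrderP

namespace CfsgLib.MTwentyThreeUnique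

universe u

variable {G : Type u} [Group G] [Fintype G]

/-- The data attached to the intersection of two conjugates of `V`. -/
structure TwoPart [Fact (Nat.Prime 23)] (L : Local 23 G) where
  /-- The four-group. -/
  V : Subgroup G
  hVK : V ≤ L.K
  hV : Nat.card V = 4
  hNV : Subgroup.normalizer (V : Set G) = L.N
  /-- The involution. -/
  z : G
  hzV : z ∈ V
  hz1 : z ≠ 1
  hCN : Nat.card (Subgroup.centralizer ({z} : Set G) ⊓ L.N : Subgroup G) = 2024
  h16 : 16 ∣ Nat.card (Subgroup.centralizer ({z} : Set G))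

/-- A subgroup of index two is normalized. -/
theorem le_normalizer_of_double {R R' : Subgroup G} (h : R ≤ R')
    (hc : Nat.card R' = 2 * Nat.card R) : R' ≤ Subgroup.normalizer (R : Set G) := by
  have h1 := Subgroup.index_mul_card (R.subgroupOf R')
  rw [Nat.card_congr (Subgroup.subgroupOfEquivOfLe h).toEquiv, hc] at h1
  haveI : (R.subgroupOf R').Normal :=
    Subgroup.normal_of_index_eq_two (Nat.eq_of_mul_eq_mul_right Nat.card_pos h1)
  refine le_normalizer_of_conj fun g hg r hr => ?_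
  have := this.conj_mem ⟨r, h hr⟩ (Subgroup.mem_subgroupOf.2 hr) ⟨g, hg⟩
  simpa [Subgroup.mem_subgroupOf] using this

variable [IsSimpleGroup G] (hG : Nat.card G = 10200960) [Fact (Nat.Prime 23)] (L : Local 23 G)
  (hn : L.N.index = 1680)
  (hm : e L = 11 ∧ Nat.card L.K = 24 ∨ e L = 22 ∧ Nat.card L.K = 12)
include hG hn hm

theorem exists_twoPart : Nonempty (TwoPart L) := by
  classical
  haveI : Fact (Nat.Prime 2) := ⟨by norm_num⟩
  obtain ⟨V, hVK, hVN, hVc⟩ := exists_invariant_two hG L hn hm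
  have hN := card_N1680 hG L hn hm
  have hKN : L.K ≤ L.N := L.le_centralizer.trans (Subgroup.centralizer_le_normalizer _)
  have hNV := normalizer_eq_of_invariant hG L hn hm (T := V) (by omega) (by omega) hVN
  have hVN' : ∀ n ∈ L.N, ∀ v ∈ V, n * v * n⁻¹ ∈ V := fun n hn' v hv =>
    (Subgroup.mem_normalizer_iff.1 (hVN hn') v).1 hv
  -- a Sylow 2-subgroup of the normalizer
  obtain ⟨R, hVR, hRN, hR⟩ : ∃ R : Subgroup G, V ≤ R ∧ R ≤ L.N ∧ Nat.card R = 8 := by
    obtain ⟨j, hj, hj3⟩ : ∃ j : ℕ, Nat.card (V.subgroupOf L.N) = 2 ^ j ∧ j ≤ 3 := by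
      rw [Nat.card_congr (Subgroup.subgroupOfEquivOfLe (hVK.trans hKN)).toEquiv]
      rcases hVc with h | h
      · exact ⟨2, by rw [h]; norm_num, by norm_num⟩
      · exact ⟨3, by rw [h]; norm_num, le_rfl⟩
    obtain ⟨R0, hR0, hle⟩ := Sylow.exists_subgroup_card_pow_prime_le (p := 2) (m := 3)
      (by rw [hN]; norm_num) (V.subgroupOf L.N) hj hj3
    refine ⟨R0.map L.N.subtype, fun v hv => ⟨⟨v, hKN (hVK hv)⟩, hle hv, rfl⟩,
      Subgroup.map_subtype_le _, ?_⟩
    rw [Subgroup.card_map_of_injective L.N.subtype_injective, hR0]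
    norm_num
  obtain ⟨R', hR', hRR'⟩ := Sylow.exists_subgroup_card_pow_succ (p := 2) (n := 3)
    (by rw [hG]; norm_num) (H := R) (by rw [hR]; norm_num)
  rw [show (2 : ℕ) ^ (3 + 1) = 16 by norm_num] at hR'
  have hR'n := le_normalizer_of_double hRR' (by rw [hR', hR])
  have hinf : R' ⊓ L.N = R := by
    refine (Subgroup.eq_of_le_of_card_ge (le_inf hRR' hRN) ?_).symm
    have h1 := Subgroup.card_dvd_of_le (inf_le_left : R' ⊓ L.N ≤ R')
    have h2 := Subgroup.card_dvd_of_le (inf_le_right : R' ⊓ L.N ≤ L.N)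
    rw [hR'] at h1
    rw [hN] at h2
    rw [hR]
    exact Nat.le_of_dvd (by norm_num) (by simpa using Nat.dvd_gcd h1 h2)
  obtain ⟨g, hg, hgR⟩ : ∃ g, g ∈ R' ∧ g ∉ R := by
    by_contra hc
    push Not at hc
    have := Subgroup.card_dvd_of_le (show R' ≤ R from hc)
    rw [hR', hR] at this
    norm_num at this
  have hgN : g ∉ L.N := fun h => hgR (hinf ▸ Subgroup.mem_inf.2 ⟨hg, h⟩)
  have hg2 : g * g ∈ R := by
    by_contra hc
    haveI : (R.subgroupOf R').Normal := ⟨fun r hr h => by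
      rw [Subgroup.mem_subgroupOf] at hr ⊢
      simpa using (Subgroup.mem_normalizer_iff.1 (hR'n h.2) _).1 hr⟩
    have h1 := Subgroup.index_mul_card (R.subgroupOf R')
    rw [Nat.card_congr (Subgroup.subgroupOfEquivOfLe hRR').toEquiv, hR', hR] at h1
    have h2 : (R.subgroupOf R').index = 2 := by omega
    have := Subgroup.mul_self_mem_of_index_two h2 (⟨g, hg⟩ : R')
    exact hc (by simpa [Subgroup.mem_subgroupOf] using this)
  -- the conjugate of `V`
  set W := V.map (MulAut.conj g).toMonoidHom with hW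
  have hWc : Nat.card W = Nat.card V := card_map_conj g V
  have hWR : W ≤ R := by
    rintro _ ⟨v, hv, rfl⟩
    exact (Subgroup.mem_normalizer_iff.1 (hR'n hg) v).1 (hVR hv)
  have hne : W ≠ V := by
    intro h
    refine hgN (hNV ▸ Subgroup.mem_normalizer_iff.2 fun v => ⟨fun hv => ?_, fun hv => ?_⟩)
    · exact h ▸ ⟨v, hv, rfl⟩
    · rw [← SetLike.mem_coe, ← h] at hv
      obtain ⟨w, hw, he⟩ := hv
      have : w = v := (MulAut.conj g).injective he
      exact this ▸ hw
  have hV4 : Nat.card V = 4 := by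
    refine hVc.resolve_right fun h8 => hne ?_
    have hVeq : V = R := Subgroup.eq_of_le_of_card_ge hVR (by rw [hR, h8])
    exact (Subgroup.eq_of_le_of_card_ge hWR (by rw [hR, hWc, h8])).trans hVeq.symm
  have hZne : V ⊓ W ≠ ⊥ := by
    intro h
    have hinj : Function.Injective (fun x : V × W => (⟨(x.1 : G) * x.2,
        mul_mem (hVR x.1.2) (hWR x.2.2)⟩ : R)) := fun x y hxy => by
      have h1 : (x.1 : G) * x.2 = y.1 * y.2 := congrArg Subtype.val hxy
      have h2 : (y.1 : G)⁻¹ * x.1 ∈ V ⊓ W := by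
        refine Subgroup.mem_inf.2 ⟨mul_mem (inv_mem y.1.2) x.1.2, ?_⟩
        rw [show (y.1 : G)⁻¹ * x.1 = y.2 * (x.2 : G)⁻¹ by
          rw [inv_mul_eq_iff_eq_mul, ← mul_assoc, ← h1, mul_inv_cancel_right]]
        exact mul_mem y.2.2 (inv_mem x.2.2)
      rw [h, Subgroup.mem_bot, inv_mul_eq_one] at h2
      rw [← h2] at h1
      exact Prod.ext (Subtype.ext h2.symm) (Subtype.ext (mul_left_cancel h1))
    have h3 := Nat.card_le_card_of_injective _ hinj
    rw [Nat.card_prod, hWc, hV4, hR] at h3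
    omega
  obtain ⟨z, hz, hz1⟩ : ∃ z, z ∈ V ⊓ W ∧ z ≠ 1 := by
    by_contra hc
    push Not at hc
    exact hZne (eq_bot_iff.2 fun x hx => Subgroup.mem_bot.2 (hc x hx))
  have huniq : ∀ x ∈ V ⊓ W, x ≠ 1 → x = z := by
    intro x hx hx1
    have h1 := Subgroup.card_dvd_of_le (inf_le_left : V ⊓ W ≤ V)
    rw [hV4] at h1
    have h2 : Nat.card (V ⊓ W : Subgroup G) < 4 := by
      by_contra hc
      have e1 : V ⊓ W = V := Subgroup.eq_of_le_of_card_ge inf_le_left (by omega)
      exact hne (Subgroup.eq_of_le_of_card_ge (inf_eq_left.1 e1) (by omega)).symm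
    have h3 : Nat.card (V ⊓ W : Subgroup G) ≤ 2 := by
      interval_cases Nat.card (V ⊓ W : Subgroup G) <;> omega
    by_contra hxz
    haveI := Fintype.ofFinite (V ⊓ W : Subgroup G)
    have h4 : ({1, ⟨z, hz⟩, ⟨x, hx⟩} : Finset (V ⊓ W : Subgroup G)).card = 3 :=
      Finset.card_eq_three.2 ⟨_, _, _, fun e => hz1 (congrArg Subtype.val e).symm,
        fun e => hx1 (congrArg Subtype.val e).symm, fun e => hxz (congrArg Subtype.val e).symm, rfl⟩
    have h5 := Finset.card_le_univ ({1, ⟨z, hz⟩, ⟨x, hx⟩} : Finset (V ⊓ W : Subgroup G))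
    rw [h4, ← Nat.card_eq_fintype_card] at h5
    omega
  have hconj : ∀ h, (∀ w ∈ V ⊓ W, h * w * h⁻¹ ∈ V ⊓ W) → h * z * h⁻¹ = z := fun h hh =>
    huniq _ (hh z hz) fun e => hz1 (conj_eq_one_iff.1 e)
  have hzR : ∀ r ∈ R, r * z * r⁻¹ = z := by
    intro r hr
    refine hconj r fun w hw => Subgroup.mem_inf.2 ⟨hVN' r (hRN hr) w hw.1, ?_⟩
    obtain ⟨v, hv, rfl⟩ := hw.2
    refine ⟨g⁻¹ * r * g * v * (g⁻¹ * r * g)⁻¹, hVN' _ (hRN ?_) v hv, by simp [mul_assoc]⟩
    have := (Subgroup.mem_normalizer_iff.1 (hR'n (inv_mem hg)) r).1 hr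
    simpa using this
  have hzg : g * z * g⁻¹ = z := by
    refine hconj g fun w hw => Subgroup.mem_inf.2 ⟨?_, ⟨w, hw.1, rfl⟩⟩
    obtain ⟨v, hv, rfl⟩ := hw.2
    have := hVN' (g * g) (hRN hg2) v hv
    simpa [mul_assoc] using this
  set C := Subgroup.centralizer ({z} : Set G) with hC
  have hmemC : ∀ x : G, x * z * x⁻¹ = z → x ∈ C := fun x hx => by
    rw [hC, Subgroup.mem_centralizer_singleton_iff]
    exact mul_inv_eq_iff_eq_mul.1 hx
  have hRC : R ≤ C ⊓ L.N := le_inf (fun r hr => hmemC r (hzR r hr)) hRN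
  have hPC : (L.P : Subgroup G) ≤ C ⊓ L.N := le_inf (fun u hu => by
    rw [hC, Subgroup.mem_centralizer_singleton_iff]
    exact Subgroup.mem_centralizer_iff.1 (L.le_centralizer (hVK (Subgroup.mem_inf.1 hz).1)) u hu)
    Subgroup.le_normalizer
  obtain ⟨⟨b, hbN⟩, hb⟩ := exists_prime_orderOf_dvd_card' (G := L.N) 11 (hp := ⟨by norm_num⟩)
    (by rw [hN]; norm_num)
  have hb11 : orderOf b = 11 := by rw [← hb, ← Subgroup.orderOf_coe]
  have hbz : b ∈ C ⊓ L.N := Subgroup.mem_inf.2 ⟨hmemC b (commute_of_small (q := 11) (by norm_num) (by omega)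
    (by rw [← hb11]; exact pow_orderOf_eq_one b) (hVN' b hbN) (Subgroup.mem_inf.1 hz).1), hbN⟩
  have h3 : ¬ 3 ∣ Nat.card (C ⊓ L.N : Subgroup G) := by
    intro hd
    haveI : Fact (Nat.Prime 3) := ⟨by norm_num⟩
    obtain ⟨⟨t, htC, htN⟩, ht⟩ := exists_prime_orderOf_dvd_card' (G := (C ⊓ L.N : Subgroup G)) 3 hd
    have ht3 : orderOf t = 3 := by rw [← ht, ← Subgroup.orderOf_coe]
    have htK := mem_K_of_three hG L hn hm htN ht3
    have htp : t ^ 3 = 1 := by rw [← ht3]; exact pow_orderOf_eq_one t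
    have hfix : ∀ v ∈ V, t * v * t⁻¹ = v := by
      intro v hv
      by_cases hv' : v = 1 ∨ v = z
      · rcases hv' with rfl | rfl
        · simp
        · exact mul_inv_eq_iff_eq_mul.2 (Subgroup.mem_centralizer_singleton_iff.1 htC)
      push Not at hv'
      let X := {w : G // w ∈ V ∧ w ≠ 1 ∧ w ≠ z}
      have hpowX : ∀ c ∈ Subgroup.zpowers t, ∀ w : X,
          c * w.1 * c⁻¹ ∈ V ∧ c * w.1 * c⁻¹ ≠ 1 ∧ c * w.1 * c⁻¹ ≠ z := by
        intro c hc w
        have hcN : c ∈ L.N := (Subgroup.zpowers_le.2 htN) hc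
        have hcz : c * z * c⁻¹ = z := mul_inv_eq_iff_eq_mul.2
          (Subgroup.mem_centralizer_singleton_iff.1 ((Subgroup.zpowers_le.2 htC) hc))
        refine ⟨hVN' c hcN w.1 w.2.1, fun e => w.2.2.1 (conj_eq_one_iff.1 e), fun e => w.2.2.2 ?_⟩
        exact mul_left_cancel (mul_right_cancel (e.trans hcz.symm))
      letI : MulAction (Subgroup.zpowers t) X :=
        { smul := fun c w => ⟨(c : G) * w.1 * (c : G)⁻¹, hpowX c c.2 w⟩
          one_smul := fun w => Subtype.ext (by
            show ((1 : Subgroup.zpowers t) : G) * w.1 * ((1 : Subgroup.zpowers t) : G)⁻¹ = w.1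
            simp)
          mul_smul := fun a c w => Subtype.ext (by
            show ((a * c : Subgroup.zpowers t) : G) * w.1 * ((a * c : Subgroup.zpowers t) : G)⁻¹ =
              (a : G) * ((c : G) * w.1 * (c : G)⁻¹) * (a : G)⁻¹
            simp [mul_assoc]) }
      have hX : Nat.card X < 3 := by
        haveI := Fintype.ofFinite V
        have h1 : Nat.card X ≤ ((Finset.univ : Finset V).erase 1 |>.erase
            ⟨z, (Subgroup.mem_inf.1 hz).1⟩).card := by
          rw [← Nat.card_eq_finsetCard]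
          refine Nat.card_le_card_of_injective (fun w : X => ⟨⟨w.1, w.2.1⟩, ?_⟩) ?_
          · exact Finset.mem_erase.2 ⟨fun e => w.2.2.2 (congrArg Subtype.val e),
              Finset.mem_erase.2 ⟨fun e => w.2.2.1 (congrArg Subtype.val e), Finset.mem_univ _⟩⟩
          · intro a c hac
            exact Subtype.ext (congrArg (fun w => ((w.1 : V) : G)) hac :)
        rw [Finset.card_erase_of_mem (Finset.mem_erase.2 ⟨fun e => hz1 (congrArg Subtype.val e),
          Finset.mem_univ _⟩), Finset.card_erase_of_mem (Finset.mem_univ _), Finset.card_univ,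
          ← Nat.card_eq_fintype_card, hV4] at h1
        omega
      have h := smul_eq_of_small Nat.prime_three hX
        (x := (⟨t, Subgroup.mem_zpowers t⟩ : Subgroup.zpowers t)) (Subtype.ext (by simpa using htp))
        (⟨v, hv, hv'.1, hv'.2⟩ : X)
      exact congrArg Subtype.val h
    have h1 := card_dvd_of_centralizes hG L hn hm hVK ht3 htK hfix
    rw [hV4] at h1
    rcases hm with ⟨-, h⟩ | ⟨-, h⟩ <;> rw [h] at h1 <;> norm_num at h1
  have hCN : Nat.card (C ⊓ L.N : Subgroup G) = 2024 := by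
    have h1 := Subgroup.card_dvd_of_le (inf_le_right : C ⊓ L.N ≤ L.N)
    rw [hN] at h1
    have h8 := Subgroup.card_dvd_of_le hRC
    have h23 := Subgroup.card_dvd_of_le hPC
    have h11 := Subgroup.orderOf_dvd_natCard _ hbz
    rw [hR] at h8
    rw [L.card_P] at h23
    rw [hb11] at h11
    have h2024 : 8 * 23 * 11 ∣ Nat.card (C ⊓ L.N : Subgroup G) :=
      Nat.Coprime.mul_dvd_of_dvd_of_dvd (by norm_num)
        (Nat.Coprime.mul_dvd_of_dvd_of_dvd (by norm_num) h8 h23) h11
    obtain ⟨c, hc⟩ := h2024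
    rw [hc] at h1 h3 ⊢
    have hc3 : c ∣ 3 := Nat.dvd_of_mul_dvd_mul_left (by norm_num : 0 < 8 * 23 * 11) h1
    rcases (Nat.dvd_prime Nat.prime_three).1 hc3 with rfl | rfl
    · norm_num
    · exact absurd (dvd_mul_left 3 _) h3
  have h16 : 16 ∣ Nat.card C := by
    have hR'C : R' ≤ C := by
      intro x hx
      by_cases hxR : x ∈ R
      · exact (Subgroup.mem_inf.1 (hRC hxR)).1
      have h2 : g⁻¹ * x ∈ R := by
        by_contra hc
        haveI : (R.subgroupOf R').Normal := ⟨fun r hr h => by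
          rw [Subgroup.mem_subgroupOf] at hr ⊢
          simpa using (Subgroup.mem_normalizer_iff.1 (hR'n h.2) _).1 hr⟩
        have h1 := Subgroup.index_mul_card (R.subgroupOf R')
        rw [Nat.card_congr (Subgroup.subgroupOfEquivOfLe hRR').toEquiv, hR', hR] at h1
        have h4 := Subgroup.mul_mem_iff_of_index_two (show (R.subgroupOf R').index = 2 by omega)
          (a := (⟨g, hg⟩ : R')⁻¹) (b := (⟨x, hx⟩ : R'))
        simp only [Subgroup.mem_subgroupOf, inv_mem_iff, Subgroup.coe_mul,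
          InvMemClass.coe_inv] at h4
        exact hc (h4.2 ⟨fun h => absurd h hgR, fun h => absurd h hxR⟩)
      have := mul_mem (hmemC g hzg) (Subgroup.mem_inf.1 (hRC h2)).1
      simpa using this
    have := Subgroup.card_dvd_of_le hR'C
    rwa [hR'] at this
  exact ⟨⟨V, hVK, hV4, hNV, z, (Subgroup.mem_inf.1 hz).1, hz1, hCN, h16⟩⟩

end CfsgLib.MTwentyThreeUnique
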