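import Cfsg.Agent.MTwentyThreeUnique.Reduction
import Cfsg.Agent.MTwentyThreeUnique.Counts
import Cfsg.Agent.MTwentyThreeUnique.Endgame
import Cfsg.Agent.GolayConfig.SylowM23
import Cfsg.Agent.Mathieu.SmallSimple

/-!
The Mathieu group of degree 23 is determined by its order among simple groups, and by its order and
the numbers of elements of given orders among all finite groups.
-/

set_option autoImplicit false
set_option linter.style.haveILetI false

open Cfsg

namespace CfsgLib.MTwentyThreeUnique

/-- A simple group of order 10200960 is the Mathieu group of degree 23. -/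
theorem isoM23_of_simple {G : Type*} [Group G] [Finite G] [IsSimpleGroup G]
    (hG : Nat.card G = 10200960) : Spor.IsoM23 G := by
  haveI := Fintype.ofFinite G
  haveI : Fact (Nat.Prime 23) := ⟨by norm_num⟩
  haveI : Fact (Nat.Prime 11) := ⟨by norm_num⟩
  haveI : Fact (Nat.Prime 5) := ⟨by norm_num⟩
  obtain ⟨rho, a, b, c, hrho, ha, hb, hc, hab, hcb⟩ := exists_rho hG
  exact isoM23_of_rep hG rho hrho a b c ha hb hc hab hcb

/-- The order and the numbers of elements of given orders determine the group. -/
theorem isoM23_of_counts {G : Type*} [Group G] [Finite G]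
    (hcard : Nat.card G = Nat.card ↥Spor.M23)
    (hsub : ∀ c, 0 < c → (∃ n : ℕ, c = Nat.card {g : G // orderOf g = n}) →
      ∃ n : ℕ, c = Nat.card {g : ↥Spor.M23 // orderOf g = n}) : Spor.IsoM23 G := by
  have hG : Nat.card G = 10200960 := hcard.trans Mathieu.card_SporM23
  haveI : Finite ↥Spor.M23 := Nat.finite_of_card_ne_zero (by rw [Mathieu.card_SporM23]; norm_num)
  haveI : IsSimpleGroup ↥Spor.M23 := Mathieu.simple_SporM23
  haveI : IsSimpleGroup G :=
    isSimpleGroup_of_counts hG Mathieu.card_SporM23 GolayConfig.m23_norm11 hsub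
  exact isoM23_of_simple hG

end CfsgLib.MTwentyThreeUnique
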