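import Cfsg.Agent.MTwentyThreeUnique.Cross

/-!
A simple group of order 10200960: inertial indices and complements at the primes 5, 7 and 11.
-/

set_option autoImplicit false
set_option linter.style.haveILetI false
set_option linter.unusedSectionVars false

open Cfsg CfsgLib.Characters CfsgLib.DefectOne CfsgLib.BrauerOrderP

namespace CfsgLib.MTwentyThreeUnique

universe u

/-- The possible pairs `(e, |K|)` at 5. -/
def optsFive : List (ℕ × ℕ) :=
  [(2, 1), (2, 6), (2, 11), (2, 16), (2, 21), (2, 36), (2, 56), (2, 66), (2, 96), (2, 126),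
   (2, 176), (2, 231), (2, 336), (2, 396), (2, 576), (2, 616), (2, 1056), (2, 1386), (2, 2016),
   (2, 3696), (2, 6336), (2, 22176), (4, 3), (4, 8), (4, 18), (4, 28), (4, 33), (4, 48), (4, 63),
   (4, 88), (4, 168), (4, 198), (4, 288), (4, 308), (4, 528), (4, 693), (4, 1008), (4, 1848),
   (4, 3168), (4, 11088)]

/-- The possible pairs `(e, |K|)` at 7. -/
def optsSeven : List (ℕ × ℕ) :=
  [(2, 3), (2, 10), (2, 24), (2, 45), (2, 66), (2, 80), (2, 192), (2, 220), (2, 360), (2, 528),
   (2, 990), (2, 1760), (2, 2880), (2, 7920), (3, 2), (3, 16), (3, 30), (3, 44), (3, 128),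
   (3, 240), (3, 352), (3, 660), (3, 1920), (3, 5280), (6, 1), (6, 8), (6, 15), (6, 22), (6, 64),
   (6, 120), (6, 176), (6, 330), (6, 960), (6, 2640)]

/-- The possible pairs `(e, |K|)` at 11. -/
def optsEleven : List (ℕ × ℕ) :=
  [(2, 8), (2, 30), (2, 63), (2, 96), (2, 140), (2, 360), (2, 448), (2, 1680), (2, 20160),
   (5, 1), (5, 12), (5, 56), (5, 144), (5, 672), (5, 8064), (10, 6), (10, 28), (10, 72),
   (10, 336), (10, 4032)]

variable {G : Type u} [Group G] [Fintype G] [IsSimpleGroup G] (hG : Nat.card G = 10200960)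
  [Fact (Nat.Prime 23)] {p : ℕ} [Fact p.Prime] (L : Local p G)
include hG

theorem dvd_bound (χ : IrrCharacter G) (hχ : χ ∈ blk L) (hp2 : p ≠ 2) :
    deg χ ∣ 10200960 / (p * Nat.card L.K) := by
  obtain ⟨S⟩ := exists_shape L hp2
  refine (S.dvd χ hχ).trans (dvd_of_eq ?_)
  have h := order_factor L
  rw [hG] at h
  rw [← h, show L.N.index * (e L * (p * Nat.card L.K)) = e L * L.N.index * (p * Nat.card L.K) by ring,
    Nat.mul_div_cancel _ (mul_pos (Fact.out : p.Prime).pos (Nat.card_pos (α := L.K)))]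

theorem option_facts (hp : p < 23) :
    23 ∣ L.N.index ∧ L.N.index % p = 1 ∧
      L.N.index * (e L * Nat.card L.K) * p = 10200960 ∧ 2 ≤ e L ∧ e L ∣ p - 1 := by
  have hN : L.N ≠ ⊤ := normalizer_ne_top_of_card hG
    (by rw [L.card_P]; exact (Fact.out : p.Prime).one_lt) (by rw [L.card_P]; omega)
  refine ⟨dvd_index23 hG L hp, (index_facts hG L hN le_rfl).2.1, ?_, two_le_e L (perfect hG),
    e_dvd L⟩
  rw [← hG, ← order_factor L]
  ring

/-- The possible pairs `(e, |K|)`. -/
theorem options_of {a b : ℕ} {l : List (ℕ × ℕ)} (hp : p < 23) (hab : a * b * (23 * p) = 10200960)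
    (hall : ∀ x ∈ Nat.divisors a, ∀ y ∈ Nat.divisors b, ∀ ei ∈ Nat.divisors (p - 1),
      23 * (a * b / (x * y)) % p = 1 → 2 ≤ ei → x * y % ei = 0 → (ei, x * y / ei) ∈ l) :
    (e L, Nat.card L.K) ∈ l := by
  obtain ⟨⟨n, hn⟩, h1, h2, he2, hed⟩ := option_facts hG L hp
  have hp0 := (Fact.out : p.Prime).pos
  have he0 := e_pos L
  have hk0 := Nat.card_pos (α := L.K)
  have h3 : n * (e L * Nat.card L.K) = a * b := by
    refine Nat.eq_of_mul_eq_mul_right (show 0 < 23 * p by omega) ?_
    rw [hab, ← h2, hn]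
    ring
  have hd : e L * Nat.card L.K ∣ a * b := ⟨n, by rw [← h3, mul_comm]⟩
  have hab0 : a ≠ 0 ∧ b ≠ 0 := by
    constructor <;> rintro rfl <;> simp at hab
  obtain ⟨x, y, hx, hy, hxy⟩ := Nat.dvd_mul.1 hd
  have := hall x (Nat.mem_divisors.2 ⟨hx, hab0.1⟩) y (Nat.mem_divisors.2 ⟨hy, hab0.2⟩)
    (e L) (Nat.mem_divisors.2 ⟨hed, by have := (Fact.out : p.Prime).two_le; omega⟩)
    (by rw [hxy, ← h3, Nat.mul_div_cancel _ (mul_pos he0 hk0), ← hn]; exact h1) he2
    (by rw [hxy, Nat.mul_mod_right])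
  rwa [hxy, Nat.mul_div_cancel_left _ he0] at this

theorem optionsFive [Fact (Nat.Prime 5)] (L : Local 5 G) :
    (e L, Nat.card L.K) ∈ optsFive :=
  options_of hG L (by norm_num) (a := 1152) (b := 77) (by norm_num) (by decide +kernel)

theorem optionsSeven [Fact (Nat.Prime 7)] (L : Local 7 G) :
    (e L, Nat.card L.K) ∈ optsSeven :=
  options_of hG L (by norm_num) (a := 1152) (b := 55) (by norm_num) (by decide +kernel)

theorem optionsEleven [Fact (Nat.Prime 11)] (L : Local 11 G) :
    (e L, Nat.card L.K) ∈ optsEleven :=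
  options_of hG L (by norm_num) (a := 1152) (b := 35) (by norm_num) (by decide +kernel)

/-- The search applied to a block away from 23. -/
theorem Shape.search23 {L : Local p G} (S : Shape L) (hp : p < 23) (hp2 : p ≠ 2) {ei m : ℕ}
    (he : e L = ei) (hm : Nat.card L.K = m) {good : List ℕ → ℕ → Bool}
    (h : shapeCheck p ei (10200960 / (p * m)) okTwentyThree (((p : ℤ) - 1) * 22)
      (fun d => csign p d * s23 d) (fun d => esign p ei d * s23 d) good = true) :
    ∃ l : List ℕ, (l : Multiset ℕ) = S.C.val.map deg ∧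
      good l (if excCount p ei = 0 then 0 else S.y) = true := by
  obtain ⟨L'⟩ := exists_local' hG 23 (by norm_num) (by norm_num)
  refine S.search hG he (fun χ hχ => hm ▸ dvd_bound hG L χ hχ hp2)
    (fun χ _ => (res_mod hG L' χ).1) ?_ h
  rw [← he]
  exact orth_twenty_three hG L (by omega) S

end CfsgLib.MTwentyThreeUnique
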