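import Mathlib.GroupTheory.GroupAction.Quotient
import Mathlib.GroupTheory.Index
import Mathlib.Data.Finite.Perm
import Mathlib.SetTheory.Cardinal.Finite
import Mathlib.GroupTheory.Sylow
import Mathlib.Tactic

/-!
A subgroup centralizing a group of prime order `p`, itself of order prime to `p`, acts faithfully
on the orbits of length `p` as soon as it fixes the remaining points.
-/

set_option autoImplicit false
set_option linter.style.haveILetI false

namespace CfsgLib.MTwentyThreeUnique

variable {G : Type*} [Group G] {X : Type*} [MulAction G X] {p : ℕ} [Fact p.Prime]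

/-- An element of order prime to `p` commuting with `P` and preserving an orbit of `P` fixes it. -/
theorem smul_eq_of_mem_orbit {P : Subgroup G} (hP : Nat.card P = p) {k : G}
    (hk : ∀ u ∈ P, Commute u k) (hko : ¬ p ∣ orderOf k) {x : X}
    (hx : k • x ∈ MulAction.orbit P x) : k • x = x := by
  obtain ⟨⟨u, hu⟩, hux⟩ := hx
  replace hux : u • x = k • x := hux
  have hpow : ∀ j : ℕ, k ^ j • x = u ^ j • x := by
    intro j
    induction j with
    | zero => simp
    | succ j ih =>
      rw [pow_succ', mul_smul, ih, smul_smul, ← ((hk u hu).pow_left j).eq, mul_smul, ← hux,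
        smul_smul, ← pow_succ]
  have hkp : k ^ p • x = x := by
    rw [hpow, orderOf_dvd_iff_pow_eq_one.1 ((Subgroup.orderOf_dvd_natCard P hu).trans
      (dvd_of_eq hP)), one_smul]
  have hmem : k ∈ Subgroup.zpowers (k ^ p) :=
    (mem_zpowers_pow_iff).2 ((Fact.out : p.Prime).coprime_iff_not_dvd.2 hko)
  exact MulAction.mem_stabilizer_iff.1
    ((Subgroup.zpowers_le.2 (MulAction.mem_stabilizer_iff.2 hkp)) hmem)

variable (P : Subgroup G) (X)

/-- The orbits of `P` having more than one point. -/
abbrev MovedOrbit : Type _ :=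
  {ω : MulAction.orbitRel.Quotient P X //
    ∃ x : X, Quotient.mk _ x = ω ∧ x ∉ MulAction.fixedPoints P X}

variable {X P}

theorem card_moved [Finite X] (hP : Nat.card P = p) :
    p * Nat.card (MovedOrbit X P) + Nat.card (MulAction.fixedPoints P X) = Nat.card X := by
  classical
  haveI := Fintype.ofFinite X
  haveI := Fintype.ofFinite (MovedOrbit X P)
  haveI : Finite P := Nat.finite_of_card_ne_zero (by rw [hP]; exact (Fact.out : p.Prime).ne_zero)
  let g : {x : X // x ∉ MulAction.fixedPoints P X} → MovedOrbit X P :=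
    fun x => ⟨Quotient.mk _ x.1, x.1, rfl, x.2⟩
  have hfib : ∀ ω, Nat.card {x // g x = ω} = p := by
    rintro ⟨ω, x, rfl, hx⟩
    have e : {y : {x : X // x ∉ MulAction.fixedPoints P X} // g y = ⟨Quotient.mk _ x, x, rfl, hx⟩} ≃
        MulAction.orbit P x :=
      { toFun := fun y => ⟨y.1.1, MulAction.orbitRel_apply.1
          (Quotient.exact (congrArg Subtype.val y.2))⟩
        invFun := fun y => ⟨⟨y.1, fun hf => hx (by
          obtain ⟨u, hu⟩ := y.2
          have h1 : x = y.1 := by
            have h2 := hf u⁻¹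
            rw [← hu, show u⁻¹ • (fun m : P => m • x) u = x from inv_smul_smul u x] at h2
            exact h2.trans hu
          exact h1 ▸ hf)⟩, Subtype.ext (Quotient.sound (MulAction.orbitRel_apply.2 y.2))⟩
        left_inv := fun y => rfl
        right_inv := fun y => rfl }
    rw [Nat.card_congr e]
    have hd : Nat.card (MulAction.orbit P x) ∣ p := by
      rw [Nat.card_coe_set_eq, ← MulAction.index_stabilizer]
      exact (Subgroup.index_dvd_card _).trans (dvd_of_eq hP)
    refine ((Nat.dvd_prime (Fact.out : p.Prime)).1 hd).resolve_left fun h1 => hx fun u => ?_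
    have hs := (Nat.card_eq_one_iff_unique.1 h1).1
    exact congrArg Subtype.val
      (hs.elim ⟨u • x, MulAction.mem_orbit x u⟩ ⟨x, MulAction.mem_orbit_self x⟩)
  have h1 : Nat.card {x : X // x ∉ MulAction.fixedPoints P X} = p * Nat.card (MovedOrbit X P) := by
    rw [← Nat.card_congr (Equiv.sigmaFiberEquiv g), Nat.card_sigma, Finset.sum_congr rfl
      fun ω _ => hfib ω, Finset.sum_const, Finset.card_univ, smul_eq_mul, mul_comm,
      Nat.card_eq_fintype_card]
  rw [← h1, add_comm]
  simp only [Nat.card_eq_fintype_card]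
  rw [show Fintype.card (MulAction.fixedPoints P X) =
    Fintype.card {x : X // x ∈ MulAction.fixedPoints P X} from rfl, Fintype.card_subtype_compl]
  have := Fintype.card_subtype_le (fun x : X => x ∈ MulAction.fixedPoints P X)
  omega

/-- The permutations of the moved orbits induced by a centralizing subgroup. -/
theorem exists_moved_hom (hP : Nat.card P = p) (K : Subgroup G)
    (hK : ∀ u ∈ P, ∀ k ∈ K, Commute u k) (hKp : ∀ k ∈ K, ¬ p ∣ orderOf k)
    (hfix : ∀ k ∈ K, ∀ x ∈ MulAction.fixedPoints P X, k • x = x) :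
    ∃ f : K →* Equiv.Perm (MovedOrbit X P), ∀ k : K, f k = 1 → ∀ x : X, (k : G) • x = x := by
  have hcomm : ∀ (k : K) (u : P) (x : X), (k : G) • (u • x) = u • ((k : G) • x) := fun k u x => by
    show (k : G) • ((u : G) • x) = (u : G) • ((k : G) • x)
    rw [smul_smul, smul_smul, (hK u u.2 k k.2).eq]
  have hrel : ∀ (k : K) (x y : X), MulAction.orbitRel P X x y →
      MulAction.orbitRel P X ((k : G) • x) ((k : G) • y) := by
    rintro k x y ⟨u, rfl⟩
    exact ⟨u, (hcomm k u y).symm⟩
  have hnf : ∀ (k : K) (x : X), x ∉ MulAction.fixedPoints P X →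
      (k : G) • x ∉ MulAction.fixedPoints P X := fun k x hx h => hx fun u => by
    have := h u
    rwa [← hcomm, smul_left_cancel_iff] at this
  let m : K → MovedOrbit X P → MovedOrbit X P := fun k ω =>
    ⟨Quotient.map' (fun x => (k : G) • x) (hrel k) ω.1, by
      obtain ⟨x, hx, hxf⟩ := ω.2
      exact ⟨(k : G) • x, by rw [← hx]; rfl, hnf k x hxf⟩⟩
  have m1 : ∀ ω, m 1 ω = ω := by
    rintro ⟨ω, x, rfl, hx⟩
    refine Subtype.ext ?_
    show Quotient.mk _ (((1 : K) : G) • x) = Quotient.mk _ x
    rw [OneMemClass.coe_one, one_smul]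
  have mm : ∀ a b ω, m (a * b) ω = m a (m b ω) := by
    rintro a b ⟨ω, x, rfl, hx⟩
    refine Subtype.ext ?_
    show Quotient.mk _ (((a * b : K) : G) • x) = Quotient.mk _ ((a : G) • (b : G) • x)
    rw [Subgroup.coe_mul, mul_smul]
  letI : MulAction K (MovedOrbit X P) :=
    { smul := m, one_smul := m1, mul_smul := mm }
  refine ⟨MulAction.toPermHom K (MovedOrbit X P), fun k hk x => ?_⟩
  by_cases hx : x ∈ MulAction.fixedPoints P X
  · exact hfix k k.2 x hx
  refine smul_eq_of_mem_orbit hP (fun u hu => hK u hu k k.2) (hKp k k.2) ?_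
  have h := congrArg Subtype.val (DFunLike.congr_fun hk
    (⟨Quotient.mk _ x, x, rfl, hx⟩ : MovedOrbit X P))
  exact MulAction.orbitRel_apply.1 (Quotient.exact h)

/-- The order of a faithful centralizing subgroup divides the factorial of the number of moved
orbits. -/
theorem exists_orbits_card_dvd [Finite X] (hP : Nat.card P = p) (K : Subgroup G) [Finite K]
    (hK : ∀ u ∈ P, ∀ k ∈ K, Commute u k) (hKp : ∀ k ∈ K, ¬ p ∣ orderOf k)
    (hfix : ∀ k ∈ K, ∀ x ∈ MulAction.fixedPoints P X, k • x = x)
    (hfaith : ∀ k ∈ K, (∀ x : X, k • x = x) → k = 1) :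
    ∃ o, p * o + Nat.card (MulAction.fixedPoints P X) = Nat.card X ∧ Nat.card K ∣ o.factorial := by
  obtain ⟨f, hf⟩ := exists_moved_hom hP K hK hKp hfix
  refine ⟨_, card_moved hP, ?_⟩
  have hinj : Function.Injective f := by
    rw [← MonoidHom.ker_eq_bot_iff, eq_bot_iff]
    intro k hk
    exact Subgroup.mem_bot.2 (Subtype.ext (hfaith k k.2 (hf k hk)))
  have h := Subgroup.card_dvd_of_injective f hinj
  rwa [Nat.card_perm] at h

end CfsgLib.MTwentyThreeUnique
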