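import Cfsg.Agent.MTwentyThreeUnique.Tests

/-!
A simple group of order 10200960 has a character of degree eleven or the principal blocks at 11 and
at 5 of the Mathieu group.
-/

set_option autoImplicit false
set_option linter.style.haveILetI false
set_option linter.unusedSectionVars false

open Cfsg CfsgLib.Characters CfsgLib.DefectOne CfsgLib.BrauerOrderP

namespace CfsgLib.MTwentyThreeUnique

universe u

variable {G : Type u} [Group G] [Fintype G]

theorem Shape.mem_memberDegs {p : ℕ} [Fact p.Prime] {L : Local p G} (S : Shape L) {l : List ℕ}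
    (hl : (l : Multiset ℕ) = S.C.val.map deg) :
    ((memberDegs p (e L) l S.y : List ℕ) : Multiset ℕ) = (S.C ∪ S.E).val.map deg := by
  classical
  have h1 := congrArg (Multiset.map Prod.fst) (S.members_eq hl)
  rw [Multiset.map_map, Multiset.map_coe] at h1
  refine Eq.trans ?_ h1
  simp [members, memberDegs, Function.comp_def]

theorem Shape.exists_of_mem {p : ℕ} [Fact p.Prime] {L : Local p G} (S : Shape L) {l : List ℕ}
    (hl : (l : Multiset ℕ) = S.C.val.map deg) {d : ℕ} (hd : d ∈ memberDegs p (e L) l S.y) :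
    ∃ χ ∈ blk L, deg χ = d := by
  classical
  rw [← Multiset.mem_coe, S.mem_memberDegs hl] at hd
  obtain ⟨χ, hχ, rfl⟩ := Multiset.mem_map.1 hd
  refine ⟨χ, ?_, rfl⟩
  rw [S.blk_eq]
  exact Finset.mem_insert_of_mem hχ

/-- The recorded value of the exceptional degree. -/
theorem Shape.members_norm {p : ℕ} (ei : ℕ) (l : List ℕ) (y : ℕ) :
    members p ei l (if excCount p ei = 0 then 0 else y) = members p ei l y ∧
      memberDegs p ei l (if excCount p ei = 0 then 0 else y) = memberDegs p ei l y := by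
  by_cases h : excCount p ei = 0
  · simp [members, memberDegs, h]
  · simp [h]

variable [IsSimpleGroup G] (hG : Nat.card G = 10200960) [Fact (Nat.Prime 23)]
include hG

theorem shapeCheck_of {p : ℕ} [Fact p.Prime] {L : Local p G} (S : Shape L) (hp : p < 23)
    (hp2 : p ≠ 2) {c : ℤ} (hc : ((p : ℤ) - 1) * 22 = c) {good : List ℕ → ℕ → Bool}
    (h : shapeCheck p (e L) (degBound p (Nat.card L.K)) okTwentyThree c
      (fun d => csign p d * s23 d) (fun d => esign p (e L) d * s23 d) good = true) :
    ∃ l : List ℕ, (l : Multiset ℕ) = S.C.val.map deg ∧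
      good l (if excCount p (e L) = 0 then 0 else S.y) = true := by
  subst hc
  exact S.search23 hG hp hp2 rfl rfl h

/-- No element of order 77. -/
theorem not_eleven_dvd_K7 [Fact (Nat.Prime 7)] (L : Local 7 G) : ¬ 11 ∣ Nat.card L.K := by
  intro hd
  obtain ⟨S⟩ := exists_shape L (by norm_num)
  have h := List.all_eq_true.1 seven_check _ (optionsSeven hG L)
  simp only [Bool.or_eq_true, bne_iff_ne, ne_eq] at h
  have h' := h.resolve_left (fun h' => h' (Nat.mod_eq_zero_of_dvd hd))
  obtain ⟨l, hl, hg⟩ := shapeCheck_of hG S (by norm_num) (by norm_num) (by norm_num) h'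
  simp only [Bool.and_eq_true, beq_iff_eq, List.contains_iff_mem] at hg
  have hex : excCount 7 (e L) ≠ 0 := by rw [hg.1]; decide
  rw [if_neg hex] at hg
  exact not_badThree hG S hg.1 hl hg.2

theorem not_seven_dvd_K11 [Fact (Nat.Prime 7)] [Fact (Nat.Prime 11)] (L : Local 11 G) :
    ¬ 7 ∣ Nat.card L.K := fun h => by
  obtain ⟨L7⟩ := exists_local' hG 7 (by norm_num) (by norm_num)
  exact not_eleven_dvd_K7 hG L7 (dvd_K_of_dvd_K L L7 (by norm_num) h)

/-- The weak compatibility of a shape with the option at another prime. -/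
theorem weakCompat_of {p q : ℕ} [Fact p.Prime] [Fact q.Prime] {Lp : Local p G} {Lq : Local q G}
    (hpq : p ≠ q) (hq2 : q ≠ 2) (hK : ¬ q ∣ Nat.card Lp.K) (Sp : Shape Lp) {l : List ℕ}
    (hl : (l : Multiset ℕ) = Sp.C.val.map deg) :
    weakCompat p q ((e Lp, Nat.card Lp.K), l, if excCount p (e Lp) = 0 then 0 else Sp.y)
      (e Lq, Nat.card Lq.K) = true := by
  obtain ⟨Sq⟩ := exists_shape Lq hq2
  simp only [weakCompat]
  rw [(Shape.members_norm (p := p) (e Lp) l Sp.y).1]
  exact cross_canCancel hG hpq hK Sp Sq hl fun t ht =>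
    Sq.okWeak_of (two_le_e Lq (perfect hG)) (fun χ hχ => dvd_bound hG Lq χ hχ hq2) ht

/-- With a normal Sylow 7-subgroup in `K` the normalizers compare. -/
theorem eighty_dvd [Fact (Nat.Prime 7)] [Fact (Nat.Prime 5)] (L5 : Local 5 G) (L7 : Local 7 G)
    (he : e L5 = 4) (hm : Nat.card L5.K = 28) : 80 ∣ e L7 * Nat.card L7.K := by
  have h1 : Nat.card (Sylow 7 L5.K) = 1 := by
    obtain ⟨R⟩ : Nonempty (Sylow 7 L5.K) := inferInstance
    have h1 := R.card_dvd_index
    have h2 := card_sylow_modEq_one 7 L5.K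
    rw [Nat.ModEq] at h2
    have h3 : (R : Subgroup L5.K).index = 4 := by
      have h5 := Subgroup.index_mul_card (R : Subgroup L5.K)
      rw [card_sylow_of_sq_not_dvd (by rw [hm]; norm_num) (by rw [hm]; norm_num) R, hm] at h5
      omega
    rw [h3] at h1
    have := Nat.le_of_dvd (by norm_num) h1
    interval_cases Nat.card (Sylow 7 L5.K) <;> omega
  obtain ⟨T, -, hT, hN⟩ := exists_invariant_sylow L5 7 h1
  have hT7 : Nat.card T = 7 := by
    rw [hT, hm, show (28 : ℕ) = 4 * 7 by norm_num, Nat.factorization_mul (by norm_num) (by norm_num),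
      Finsupp.add_apply, Nat.factorization_eq_zero_of_not_dvd (show ¬ 7 ∣ 4 by norm_num),
      Nat.Prime.factorization_self (by norm_num), zero_add, pow_one]
  have hfac : (Nat.card G).factorization 7 = 1 := L7.factorization_card
  have hsyl : (Sylow.ofCard T (by rw [hT7, hfac, pow_one]) : Subgroup G) = T := rfl
  have h2 : (Subgroup.normalizer (T : Set G)).index = L7.N.index := by
    rw [← hsyl]
    exact ((Sylow.ofCard T _).card_eq_index_normalizer).symm.trans L7.P.card_eq_index_normalizer
  have h3 := Subgroup.card_dvd_of_le hN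
  have h4 : Nat.card (Subgroup.normalizer (T : Set G)) = Nat.card L7.N :=
    Nat.eq_of_mul_eq_mul_left (Nat.pos_of_ne_zero Subgroup.index_ne_zero_of_finite)
      ((Subgroup.index_mul_card _).trans (h2 ▸ (Subgroup.index_mul_card L7.N).symm))
  rw [h4, ← card_N L5, ← card_N L7, he, hm] at h3
  have h5 : 7 * 80 ∣ 7 * (e L7 * Nat.card L7.K) := by
    rw [show 7 * (e L7 * Nat.card L7.K) = e L7 * (7 * Nat.card L7.K) by ring]
    exact h3
  exact Nat.dvd_of_mul_dvd_mul_left (by norm_num) h5

/-- The pinned shapes, unless there is a degree 11. -/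
theorem eleven_or_pinned [Fact (Nat.Prime 5)] [Fact (Nat.Prime 11)] (L11 : Local 11 G)
    (L5 : Local 5 G) :
    (∃ χ : IrrCharacter G, deg χ = 11) ∨
      ((e L11 = 5 ∧ Nat.card L11.K = 1 ∧ ∃ S : Shape L11,
          S.C.val.map deg = ([1035, 230, 45, 45] : List ℕ) ∧ S.y = 896) ∧
        (e L5 = 4 ∧ Nat.card L5.K = 3 ∧ ∃ S : Shape L5,
          S.C.val.map deg = ([2024, 896, 896, 231] : List ℕ))) := by
  haveI : Fact (Nat.Prime 7) := ⟨by norm_num⟩
  by_cases h11 : ∃ χ : IrrCharacter G, deg χ = 11
  · exact Or.inl h11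
  obtain ⟨L7⟩ := exists_local' hG 7 (by norm_num) (by norm_num)
  obtain ⟨S11⟩ := exists_shape L11 (by norm_num)
  obtain ⟨S5⟩ := exists_shape L5 (by norm_num)
  obtain ⟨S7⟩ := exists_shape L7 (by norm_num)
  have hK11_7 := not_seven_dvd_K11 hG L11
  have hK7_11 := not_eleven_dvd_K7 hG L7
  have hxs : ∀ {p : ℕ} [Fact p.Prime] {L : Local p G} (S : Shape L) {l : List ℕ},
      (l : Multiset ℕ) = S.C.val.map deg → ∀ d ∈ memberDegs p (e L) l S.y,
        ∃ χ : IrrCharacter G, deg χ = d := fun S l hl d hd =>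
    (S.exists_of_mem hl hd).imp fun χ h => h.2
  -- the shape at 11
  have h1 := List.all_eq_true.1 eleven_check _ (optionsEleven hG L11)
  simp only [Bool.or_eq_true, beq_iff_eq] at h1
  have h1' := h1.resolve_left (fun h => hK11_7 (Nat.dvd_of_mod_eq_zero h))
  obtain ⟨lx, hlx, hgx⟩ := shapeCheck_of hG S11 (by norm_num) (by norm_num) (by norm_num) h1'
  rw [(Shape.members_norm (p := 11) (e L11) lx S11.y).2] at hgx
  simp only [Bool.or_eq_true, Bool.not_eq_true', List.all_eq_true, List.contains_iff_mem] at hgx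
  have hx : ((e L11, Nat.card L11.K), lx, if excCount 11 (e L11) = 0 then 0 else S11.y)
      ∈ candsEleven := by
    rcases hgx with (h | h) | h
    · rw [xsOk_of hG (hxs S11 hlx)] at h
      exact absurd h (by simp)
    · rcases h _ (optionsSeven hG L7) with h' | h'
      · exact absurd (Nat.dvd_of_mod_eq_zero (by simpa using h')) hK7_11
      · rw [weakCompat_of hG (by norm_num) (by norm_num) hK11_7 S11 hlx] at h'
        exact absurd h' (by simp)
    · exact h
  have hK11_5 : ¬ 5 ∣ Nat.card L11.K := fun h => by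
    have := List.all_eq_true.1 candsEleven_five _ hx
    simp [Nat.mod_eq_zero_of_dvd h] at this
  have hK5_11 : ¬ 11 ∣ Nat.card L5.K := fun h =>
    hK11_5 (dvd_K_of_dvd_K L5 L11 (by norm_num) h)
  -- the shape at 5
  have h2 := List.all_eq_true.1 five_check _ (optionsFive hG L5)
  simp only [Bool.or_eq_true, beq_iff_eq] at h2
  have h2' := h2.resolve_left (fun h => hK5_11 (Nat.dvd_of_mod_eq_zero h))
  obtain ⟨lz, hlz, hgz⟩ := shapeCheck_of hG S5 (by norm_num) (by norm_num) (by norm_num) h2'
  rw [(Shape.members_norm (p := 5) (e L5) lz S5.y).2] at hgz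
  simp only [Bool.or_eq_true, Bool.not_eq_true', List.contains_iff_mem] at hgz
  have hz : ((e L5, Nat.card L5.K), lz, if excCount 5 (e L5) = 0 then 0 else S5.y) ∈ candsFive := by
    rcases hgz with (h | h) | h
    · exact absurd (hxs S5 hlz 11 h) h11
    · rw [xsOk_of hG (hxs S5 hlz)] at h
      exact absurd h (by simp)
    · exact h
  set x := ((e L11, Nat.card L11.K), lx, if excCount 11 (e L11) = 0 then 0 else S11.y) with hxdef
  set z := ((e L5, Nat.card L5.K), lz, if excCount 5 (e L5) = 0 then 0 else S5.y) with hzdef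
  have hfive : fiveOk x z = true := by
    simp only [fiveOk, Bool.and_eq_true, hxdef, hzdef, (Shape.members_norm (p := 11) (e L11) lx S11.y).1,
      (Shape.members_norm (p := 11) (e L11) lx S11.y).2,
      (Shape.members_norm (p := 5) (e L5) lz S5.y).2]
    refine ⟨⟨xsOk_of hG fun d hd => ?_, ?_⟩, ?_⟩
    · rcases List.mem_append.1 hd with h | h
      · exact hxs S11 hlx d h
      · exact hxs S5 hlz d h
    · by_cases hm1 : Nat.card L11.K = 1
      · simp only [hm1, bne_self_eq_false, Bool.false_or, List.all_eq_true, Bool.or_eq_true,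
          beq_iff_eq, decide_eq_true_eq]
        intro d _
        by_cases h0 : d % 11 = 0
        · exact Or.inl h0
        right
        classical
        rw [← Multiset.coe_count, ← Multiset.coe_count, S5.mem_memberDegs hlz,
          S11.mem_memberDegs hlx, Multiset.count_map, Multiset.count_map, ← Finset.filter_val,
          ← Finset.filter_val, Finset.card_val, Finset.card_val]
        refine Finset.card_le_card fun χ hχ => ?_
        obtain ⟨h3, h4⟩ := Finset.mem_filter.1 hχ
        refine Finset.mem_filter.2 ⟨?_, h4⟩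
        have hin : χ ∈ blk L11 := by
          by_contra hn
          exact h0 (h4 ▸ Nat.mod_eq_zero_of_dvd (dvd_degree_out L11 (Subgroup.card_eq_one.1 hm1) hn))
        rw [S11.blk_eq, Finset.mem_insert] at hin
        refine hin.resolve_left fun he => ?_
        have := S5.two_le_deg (perfect hG) h3
        rw [he, deg_one S11.one_eq] at this
        omega
      · simp [hm1]
    · rw [show (40 : ℤ) = (((11 : ℕ) : ℤ) - 1) * (((5 : ℕ) : ℤ) - 1) by norm_num]
      exact cross_canCancel hG (by norm_num) hK11_5 S11 S5 hlx fun t ht => S5.okExact_of hlz ht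
  have h3 := List.all_eq_true.1 (List.all_eq_true.1 pairs_check x hx) z hz
  simp only [Bool.or_eq_true, Bool.not_eq_true', hfive, Bool.true_eq_false, false_or,
    beq_iff_eq] at h3
  rcases h3 with h3 | h3
  · right
    simp only [truePair, hxdef, hzdef, Prod.mk.injEq] at h3
    obtain ⟨⟨⟨a1, a2⟩, a3, a4⟩, ⟨⟨b1, b2⟩, b3, -⟩⟩ := h3
    rw [a3] at hlx
    rw [b3] at hlz
    rw [a1, if_neg (by decide)] at a4
    exact ⟨⟨a1, a2, S11, hlx.symm, a4⟩, b1, b2, S5, hlz.symm⟩
  exfalso
  have h4 := List.all_eq_true.1 h3 _ (optionsSeven hG L7)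
  simp only [Bool.or_eq_true, Bool.not_eq_true', List.any_eq_true, Bool.and_eq_true, beq_iff_eq,
    List.contains_iff_mem] at h4
  have hseven : sevenOk x z (e L7, Nat.card L7.K) = true := by
    simp only [sevenOk, Bool.and_eq_true, bne_iff_ne, ne_eq, Bool.or_eq_true, beq_iff_eq]
    refine ⟨⟨⟨⟨fun h => hK7_11 (Nat.dvd_of_mod_eq_zero h), ?_⟩,
      weakCompat_of hG (by norm_num) (by norm_num) hK11_7 S11 hlx⟩, ?_⟩, ?_⟩
    · have : (Nat.card L7.K % 5 == 0) = true ↔ (Nat.card L5.K % 7 == 0) = true := by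
        simp only [beq_iff_eq]
        exact ⟨fun h => Nat.mod_eq_zero_of_dvd
            (dvd_K_of_dvd_K L7 L5 (by norm_num) (Nat.dvd_of_mod_eq_zero h)),
          fun h => Nat.mod_eq_zero_of_dvd
            (dvd_K_of_dvd_K L5 L7 (by norm_num) (Nat.dvd_of_mod_eq_zero h))⟩
      exact Bool.eq_iff_iff.2 this
    · by_cases h : Nat.card L5.K % 7 = 0
      · exact Or.inl h
      · exact Or.inr (weakCompat_of hG (by norm_num) (by norm_num)
          (fun hd => h (Nat.mod_eq_zero_of_dvd hd)) S5 hlz)
    · by_cases h : Nat.card L5.K = 28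
      · right
        have he5 : e L5 = 4 := by
          have hopts := optionsFive hG L5
          rw [h] at hopts
          simpa [optsFive] using hopts
        exact Nat.mod_eq_zero_of_dvd (eighty_dvd hG L5 L7 he5 h)
      · exact Or.inl h
  rcases h4 with h4 | ⟨hp, hmem, h5, h6⟩
  · rw [hseven] at h4
    exact absurd h4 (by simp)
  have h7 := List.all_eq_true.1 (List.all_eq_true.1 hard_check hp hmem) _ h6
  obtain ⟨l7, hl7, hg7⟩ := shapeCheck_of hG S7 (by norm_num) (by norm_num) (by norm_num) h7
  simp only [h5, hxdef, (Shape.members_norm (p := 11) (e L11) lx S11.y).1,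
    (Shape.members_norm (p := 7) (e L7) l7 S7.y).2, Bool.or_eq_true, Bool.not_eq_true',
    Bool.and_eq_true, beq_iff_eq, List.contains_iff_mem] at hg7
  rcases hg7 with h8 | ⟨he7, hbad⟩
  · have h9 := cross_canCancel hG (by norm_num) hK11_7 S11 S7 hlx fun t ht => S7.okExact_of hl7 ht
    rw [show (((11 : ℕ) : ℤ) - 1) * (((7 : ℕ) : ℤ) - 1) = 60 by norm_num, h8] at h9
    exact Bool.noConfusion h9
  · rw [if_neg (by rw [he7]; decide)] at hbad
    exact not_badThree hG S7 he7 hl7 hbad

end CfsgLib.MTwentyThreeUnique
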