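import Cfsg.Agent.MTwentyThreeUnique.Basic

/-!
The shape of the principal block at a Sylow subgroup of prime order in a simple group of order
10200960: the non-trivial constant rows, and the exceptional rows, with the integers `sv` read off
from the degrees.
-/

set_option autoImplicit false
set_option linter.style.haveILetI false
set_option linter.unusedSectionVars false

open Cfsg CfsgLib.Characters CfsgLib.DefectOne CfsgLib.BrauerOrderP

namespace CfsgLib.MTwentyThreeUnique

universe u

variable {G : Type u} [Group G] [Fintype G] {p : ℕ} [Fact p.Prime]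

/-- The degree of a character. -/
noncomputable abbrev deg (χ : IrrCharacter G) : ℕ := Cfsg.charDegree (χ : G → ℂ)

/-- The sum of values of a constant row, by the degree. -/
def csign (p d : ℕ) : ℤ := if d % p = 1 then (p : ℤ) - 1 else 1 - (p : ℤ)

/-- The sum of values of an exceptional row, by the degree. -/
def esign (p e d : ℕ) : ℤ := if (d + e) % p = 0 then (e : ℤ) else -(e : ℤ)

/-- The residues of constant rows. -/
def cres (p d : ℕ) : Bool := d % p == 1 || d % p == p - 1

/-- The residues of exceptional rows. -/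
def eres (p e d : ℕ) : Bool := (d + e) % p == 0 || d % p == e

/-- The number of exceptional rows. -/
def excCount (p e : ℕ) : ℕ := if (p - 1) / e = 1 then 0 else (p - 1) / e

/-- The number of non-trivial constant rows. -/
def rowCount (p e : ℕ) : ℕ := if (p - 1) / e = 1 then e else e - 1

variable (L : Local p G)

/-- The decomposition of the block. -/
structure Shape where
  /-- The trivial character. -/
  one : IrrCharacter G
  one_eq : (one : G → ℂ) = fun _ => 1
  /-- The non-trivial constant rows. -/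
  C : Finset (IrrCharacter G)
  /-- The exceptional rows. -/
  E : Finset (IrrCharacter G)
  /-- The degree of the exceptional rows. -/
  y : ℕ
  /-- The sign of the exceptional rows. -/
  a : ℤ
  not_mem : one ∉ C ∪ E
  disj : Disjoint C E
  blk_eq : blk L = insert one (C ∪ E)
  card_C : C.card = rowCount p (e L)
  card_E : E.card = excCount p (e L)
  deg_E : ∀ χ ∈ E, deg χ = y
  sv_one : sv L one = (p : ℤ) - 1
  sv_C : ∀ χ ∈ C, sv L χ = csign p (deg χ)
  sv_E : ∀ χ ∈ E, sv L χ = esign p (e L) (deg χ)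
  res_C : ∀ χ ∈ C, cres p (deg χ) = true
  res_E : ∀ χ ∈ E, eres p (e L) (deg χ) = true
  dvd : ∀ χ ∈ blk L, deg χ ∣ e L * L.N.index
  const_C : ∀ χ ∈ C, IsConst L χ 1 ∨ IsConst L χ (-1)
  reg_E : ∀ χ ∈ E, ∀ ψ ∈ E, ∀ g : G, ¬ p ∣ orderOf g → (χ : G → ℂ) g = (ψ : G → ℂ) g

theorem card_sylow_eq : Nat.card (Sylow p G) = L.N.index :=
  L.P.card_eq_index_normalizer

theorem deg_one {χ : IrrCharacter G} (h : (χ : G → ℂ) = fun _ => 1) : deg χ = 1 := by
  apply Nat.cast_injective (R := ℂ)
  rw [Blocks.charDegree_cast, h, Nat.cast_one]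

private theorem emod_of_congr {d s : ℤ} {q : ℤ} {r : ℤ} (h : ∃ m : ℤ, d + s = q * m)
    (hr : 0 ≤ r) (hr' : r < q) (hs : ∃ k : ℤ, r + s = q * k) : d % q = r := by
  obtain ⟨m, hm⟩ := h
  obtain ⟨k, hk⟩ := hs
  rw [show d = r + q * (m - k) by rw [mul_sub]; omega, Int.add_mul_emod_self_left,
    Int.emod_eq_of_lt hr hr']

theorem const_sign {χ : IrrCharacter G} {a : ℤ} (h : IsConst L χ a) :
    sv L χ = ((p : ℤ) - 1) * a := by
  haveI := L.finite_lam
  letI := Fintype.ofFinite L.Lam
  rw [sv_eq, h.sum_coef, Nat.cast_sub (Fact.out : p.Prime).one_le, Nat.cast_one]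

theorem res_of_const (hp2 : p ≠ 2) {χ : IrrCharacter G} {a : ℤ} (h : IsConst L χ a) :
    sv L χ = csign p (deg χ) ∧ cres p (deg χ) = true := by
  obtain ⟨m, hm⟩ := h.congr
  have hp := (Fact.out : p.Prime).two_le
  rw [Nat.cast_sub (Fact.out : p.Prime).one_le, Nat.cast_one] at hm
  rw [const_sign L h]
  rcases h.1 with r | r <;> subst r
  · have h1 : (deg χ : ℤ) % p = 1 :=
      emod_of_congr ⟨m, hm⟩ (by norm_num) (by omega) ⟨1, by ring⟩
    have h2 : deg χ % p = 1 := by exact_mod_cast h1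
    simp [csign, cres, h2]
  · have h1 : (deg χ : ℤ) % p = (p : ℤ) - 1 :=
      emod_of_congr ⟨m, hm⟩ (by omega) (by omega) ⟨0, by ring⟩
    have h2 : deg χ % p = p - 1 := by
      have : ((deg χ % p : ℕ) : ℤ) = ((p - 1 : ℕ) : ℤ) := by
        push_cast [Nat.cast_sub (Fact.out : p.Prime).one_le]; exact h1
      exact_mod_cast this
    refine ⟨?_, by simp [cres, h2]⟩
    rw [csign, h2]
    split_ifs with h3
    · omega
    · ring

theorem res_of_unit {χ : IrrCharacter G} {q : L.ColOver (O0 L)} {a : ℤ} (h : IsUnit' L χ q a)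
    (h2e : 2 * e L < p) :
    sv L χ = esign p (e L) (deg χ) ∧ eres p (e L) (deg χ) = true := by
  haveI := L.finite_lam
  letI := Fintype.ofFinite L.Lam
  obtain ⟨m, hm⟩ := h.congr
  have he := e_pos L
  rw [sv_eq, h.sum_coef]
  rcases h.1 with r | r <;> subst r
  · have h1 : ((deg χ + e L : ℕ) : ℤ) % p = 0 := by
      push_cast
      rw [show (deg χ : ℤ) + e L = p * m by simpa using hm, Int.mul_emod_right]
    have h2 : (deg χ + e L) % p = 0 := by exact_mod_cast h1
    simp [esign, eres, h2]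
  · have h1 : (deg χ : ℤ) % p = e L :=
      emod_of_congr ⟨m, hm⟩ (by omega) (by omega) ⟨0, by ring⟩
    have h2 : deg χ % p = e L := by exact_mod_cast h1
    have h3 : (deg χ + e L) % p ≠ 0 := by
      rw [Nat.add_mod, h2, Nat.mod_eq_of_lt (e_lt L), ← two_mul, Nat.mod_eq_of_lt h2e]
      omega
    simp [esign, eres, h2, h3]

theorem exists_shape (hp2 : p ≠ 2) : Nonempty (Shape L) := by
  classical
  haveI := L.finite_lam
  letI := Fintype.ofFinite L.Lam
  haveI := L.finite_col
  haveI := Fintype.ofFinite (L.ColOver (O0 L))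
  obtain ⟨one, hone, hconst⟩ := one_isConst L
  have hmul := card_cols_mul L
  have he := e_pos L
  have htdiv : (p - 1) / e L = Nat.card (L.ColOver (O0 L)) := by
    rw [← hmul, Nat.mul_div_cancel _ he]
  have ht0 : 0 < Nat.card (L.ColOver (O0 L)) :=
    haveI := nonempty_cols L
    Nat.card_pos
  have hblk : one ∈ blk L := (mem_blk L).2 hconst.inB
  have hsv1 : sv L one = (p : ℤ) - 1 := by rw [const_sign L hconst, mul_one]
  have hdvdc : ∀ χ a, IsConst L χ a → deg χ ∣ e L * L.N.index := fun χ a h => by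
    rw [← card_sylow_eq]; exact h.dvd
  by_cases ht : Nat.card (L.ColOver (O0 L)) = 1
  · obtain ⟨hall, -, -⟩ := const_of_one_col L ht
    have hc : ∀ χ ∈ blk L, IsConst L χ 1 ∨ IsConst L χ (-1) := fun χ h => hall χ ((mem_blk L).1 h)
    refine ⟨⟨one, hone, (blk L).erase one, ∅, 0, 1, by simp, Finset.disjoint_empty_right _,
      by rw [Finset.union_empty, Finset.insert_erase hblk], ?_,
      by rw [Finset.card_empty, excCount, htdiv, ht, if_pos rfl], by simp, hsv1, ?_, by simp, ?_,
      by simp, ?_, fun χ h => hc χ (Finset.mem_of_mem_erase h), by simp⟩⟩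
    · rw [Finset.card_erase_of_mem hblk, card_blk, rowCount, htdiv, ht, if_pos rfl]
      rfl
    · intro χ h
      rcases hc χ (Finset.mem_of_mem_erase h) with h1 | h1 <;> exact (res_of_const L hp2 h1).1
    · intro χ h
      rcases hc χ (Finset.mem_of_mem_erase h) with h1 | h1 <;> exact (res_of_const L hp2 h1).2
    · intro χ h
      rcases hc χ h with h1 | h1 <;> exact hdvdc χ _ h1
  have ht1 : 1 < Nat.card (L.ColOver (O0 L)) := by omega
  obtain ⟨D⟩ := exists_exceptional L ht1
  have h2e : 2 * e L < p := by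
    have := Nat.mul_le_mul_right (e L) (show 2 ≤ Nat.card (L.ColOver (O0 L)) by omega)
    omega
  set E : Finset (IrrCharacter G) := Finset.univ.image D.f with hE
  have hmem : one ∉ E := fun h => by
    obtain ⟨q, -, hq⟩ := Finset.mem_image.1 h
    exact not_unit_of_const L ht1 hconst (hq ▸ D.unit q)
  have hEsub : ∀ χ ∈ E, χ ∈ blk L := fun χ h => by
    obtain ⟨q, -, rfl⟩ := Finset.mem_image.1 h
    exact (mem_blk L).2 (D.unit q).inB
  have hEc : E.card = Nat.card (L.ColOver (O0 L)) := by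
    rw [hE, Finset.card_image_of_injective _ D.inj, Finset.card_univ, Nat.card_eq_fintype_card]
  have hCc : ∀ χ ∈ (blk L).erase one \ E, IsConst L χ 1 ∨ IsConst L χ (-1) := by
    intro χ h
    obtain ⟨h1, h2⟩ := Finset.mem_sdiff.1 h
    rcases D.cover χ ((mem_blk L).1 (Finset.mem_of_mem_erase h1)) with r | r | ⟨q, rfl⟩
    · exact Or.inl r
    · exact Or.inr r
    · exact absurd (Finset.mem_image_of_mem _ (Finset.mem_univ q)) h2
  have hEe : E ⊆ (blk L).erase one := fun χ h =>
    Finset.mem_erase.2 ⟨fun hh => hmem (hh ▸ h), hEsub χ h⟩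
  refine ⟨⟨one, hone, (blk L).erase one \ E, E, D.y, D.a, ?_, Finset.sdiff_disjoint, ?_, ?_,
    by rw [hEc, excCount, htdiv, if_neg ht], ?_, hsv1, ?_, ?_, ?_, ?_, ?_, hCc, ?_⟩⟩
  · simp [hmem]
  · rw [Finset.sdiff_union_of_subset hEe, Finset.insert_erase hblk]
  · rw [Finset.card_sdiff_of_subset hEe, Finset.card_erase_of_mem hblk, card_blk, hEc, rowCount,
      htdiv, if_neg ht]
    omega
  · intro χ h
    obtain ⟨q, -, rfl⟩ := Finset.mem_image.1 h
    exact D.deg q
  · intro χ h
    rcases hCc χ h with h1 | h1 <;> exact (res_of_const L hp2 h1).1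
  · intro χ h
    obtain ⟨q, -, rfl⟩ := Finset.mem_image.1 h
    exact (res_of_unit L (D.unit q) h2e).1
  · intro χ h
    rcases hCc χ h with h1 | h1 <;> exact (res_of_const L hp2 h1).2
  · intro χ h
    obtain ⟨q, -, rfl⟩ := Finset.mem_image.1 h
    exact (res_of_unit L (D.unit q) h2e).2
  · intro χ h
    rcases D.cover χ ((mem_blk L).1 h) with r | r | ⟨q, rfl⟩
    · exact hdvdc χ _ r
    · exact hdvdc χ _ r
    · rw [← card_sylow_eq, deg, D.deg q]
      exact unit_dvd L D.unit D.deg
  · intro χ hχ ψ hψ g hg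
    obtain ⟨q, -, rfl⟩ := Finset.mem_image.1 hχ
    obtain ⟨q', -, rfl⟩ := Finset.mem_image.1 hψ
    exact D.regular q q' g hg

namespace Shape

variable {L} (S : Shape L)

theorem mem_of_C {χ : IrrCharacter G} (h : χ ∈ S.C) : χ ∈ blk L := by
  rw [S.blk_eq]; exact Finset.mem_insert_of_mem (Finset.mem_union_left _ h)

theorem mem_of_E {χ : IrrCharacter G} (h : χ ∈ S.E) : χ ∈ blk L := by
  rw [S.blk_eq]; exact Finset.mem_insert_of_mem (Finset.mem_union_right _ h)

theorem one_mem : S.one ∈ blk L := by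
  rw [S.blk_eq]; exact Finset.mem_insert_self _ _

theorem sum_blk {M : Type*} [AddCommMonoid M] (F : IrrCharacter G → M) :
    ∑ χ ∈ blk L, F χ = F S.one + (∑ χ ∈ S.C, F χ + ∑ χ ∈ S.E, F χ) := by
  rw [S.blk_eq, Finset.sum_insert S.not_mem, Finset.sum_union S.disj]

/-- Sums of functions of the degree and `sv`. -/
theorem sum_blk_deg {M : Type*} [AddCommMonoid M] (f : ℕ → ℤ → M) :
    ∑ χ ∈ blk L, f (deg χ) (sv L χ) = f 1 ((p : ℤ) - 1) +
      (∑ χ ∈ S.C, f (deg χ) (csign p (deg χ)) +
        excCount p (e L) • f S.y (esign p (e L) S.y)) := by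
  rw [S.sum_blk, S.sv_one, deg_one S.one_eq]
  congr 1
  congr 1
  · exact Finset.sum_congr rfl fun χ h => by rw [S.sv_C χ h]
  · rw [← S.card_E, ← Finset.sum_const]
    exact Finset.sum_congr rfl fun χ h => by rw [S.sv_E χ h, S.deg_E χ h]

/-- The degree relation. -/
theorem relation : ((p : ℤ) - 1) + (∑ χ ∈ S.C, (deg χ : ℤ) * csign p (deg χ) +
    (excCount p (e L) : ℤ) * ((S.y : ℤ) * esign p (e L) S.y)) = 0 := by
  have h := sum_deg L
  rw [S.sum_blk_deg (fun d s => (d : ℤ) * s)] at h
  simpa [nsmul_eq_mul] using h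

theorem squares : 1 + (∑ χ ∈ S.C, deg χ ^ 2 + excCount p (e L) * S.y ^ 2) ≤ Nat.card G := by
  have h := S.sum_blk_deg (fun d _ => d ^ 2)
  rw [← LargePrime.sum_charDegree_sq]
  simp only [one_pow, smul_eq_mul] at h
  rw [← h]
  exact Finset.sum_le_sum_of_subset (Finset.subset_univ _)

theorem two_le_deg (hperf : commutator G = ⊤) {χ : IrrCharacter G} (h : χ ∈ S.C ∪ S.E) :
    2 ≤ deg χ := by
  have h0 : deg χ ≠ 0 := Blocks.charDegree_ne_zero χ
  have h1 : deg χ ≠ 1 := fun h1 => by
    have := BrauerOrderP.eq_one_of_degree_one hperf h1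
    exact S.not_mem ((Subtype.ext (this.trans S.one_eq.symm) : χ = S.one) ▸ h)
  omega

end Shape

end CfsgLib.MTwentyThreeUnique
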