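import Cfsg.Agent.MTwentyThreeUnique.KnownBlocks
import Cfsg.Agent.SmallValue.Tools

/-!
The tensor square of the character of degree 22, with the degrees of the Mathieu group.
-/

set_option autoImplicit false
set_option linter.style.haveILetI false
set_option linter.unusedSectionVars false

open Cfsg CfsgLib.Characters CfsgLib.DefectOne CfsgLib.BrauerOrderP
open scoped ComplexConjugate

namespace CfsgLib.MTwentyThreeUnique

universe u

theorem eq_41_values : Nat.Coprime 41 10200960 ∧ Nat.Coprime 29 10200960 := by decide +kernel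

/-- The splittings of small totals into known degrees. -/
theorem split_check :
    ([252, 231, 230, 253].all fun D => (List.range 12).all fun a => (List.range 6).all fun b =>
      (List.range 2).all fun c => (List.range 2).all fun d => (List.range 2).all fun f =>
        22 * a + 45 * b + 230 * c + 231 * d + 253 * f != D ||
          [(252, 1, 0, 1, 0, 0), (231, 0, 0, 0, 1, 0), (230, 0, 0, 1, 0, 0), (253, 0, 0, 0, 0, 1),
            (253, 1, 0, 0, 1, 0)].contains (D, a, b, c, d, f)) = true := by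
  decide +kernel

variable {G : Type u} [Group G] [Fintype G]

/-- A character of degree at most 253 by its multiplicities on the small known degrees. -/
theorem small_expansion
    (hdegs : (Finset.univ : Finset (IrrCharacter G)).val.map deg = (trueDegs : Multiset ℕ))
    {θ : G → ℂ} (hθ : Cfsg.IsCharacter G θ) {D m : ℕ} (hD : θ 1 = ((D + m : ℕ) : ℂ))
    (hD' : D ≤ 253) (hD22 : 22 ≤ D) {one : IrrCharacter G} (hone : (one : G → ℂ) = fun _ => 1)
    (hm : Cfsg.classInner θ (fun _ => 1) = (m : ℂ)) :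
    ∃ n : IrrCharacter G → ℕ, (∀ g, θ g = ∑ χ, (n χ : ℂ) * (χ : G → ℂ) g) ∧ n one = m ∧
      (∀ χ, χ ≠ one → deg χ ∉ [22, 45, 230, 231, 253] → n χ = 0) ∧
      22 * (∑ χ with deg χ = 22, n χ) + 45 * (∑ χ with deg χ = 45, n χ) +
        230 * (∑ χ with deg χ = 230, n χ) + 231 * (∑ χ with deg χ = 231, n χ) +
        253 * (∑ χ with deg χ = 253, n χ) = D := by
  classical
  obtain ⟨n, hn⟩ := exists_nat_coeff hθ
  have hval : ∀ g, θ g = ∑ χ, (n χ : ℂ) * (χ : G → ℂ) g := fun g => by
    conv_lhs => rw [hn]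
    simp [Finset.sum_apply]
  have hn1 : n one = m := by
    have h := classInner_irr_coeff (fun χ => (n χ : ℂ)) one
    rw [← hn, hone, hm] at h
    exact_mod_cast h.symm
  have hdeg1 : ∀ χ : IrrCharacter G, deg χ = 1 → χ = one := fun χ h =>
    eq_of_deg hdegs (by decide +kernel) h (deg_one hone)
  have hsum : ∑ χ ∈ Finset.univ.erase one, n χ * deg χ = D := by
    have h := hval 1
    rw [hD] at h
    have h' : (((D + m : ℕ)) : ℂ) = ((∑ χ, n χ * deg χ : ℕ) : ℂ) := by
      rw [h]
      push_cast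
      exact Finset.sum_congr rfl fun χ _ => by rw [← Blocks.charDegree_cast]
    have h'' : D + m = ∑ χ, n χ * deg χ := by exact_mod_cast h'
    rw [← Finset.add_sum_erase _ _ (Finset.mem_univ one), hn1, deg_one hone, mul_one] at h''
    omega
  have hle : ∀ χ, χ ≠ one → n χ * deg χ ≤ D := fun χ h => hsum ▸
    Finset.single_le_sum (f := fun χ => n χ * deg χ) (fun _ _ => Nat.zero_le _)
      (Finset.mem_erase.2 ⟨h, Finset.mem_univ _⟩)
  have hbig : ∀ χ, χ ≠ one → deg χ ∉ [22, 45, 230, 231, 253] → n χ = 0 := by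
    intro χ h1 h2
    by_contra h0
    have h3 := hle χ h1
    have h4 : deg χ ≤ n χ * deg χ := Nat.le_mul_of_pos_left _ (Nat.pos_of_ne_zero h0)
    have h5 := deg_mem hdegs χ
    have key : trueDegs.all (fun d => d == 1 || [22, 45, 230, 231, 253].contains d ||
      decide (253 < d)) = true := by decide +kernel
    have h6 := List.all_eq_true.1 key _ h5
    simp only [Bool.or_eq_true, beq_iff_eq, List.contains_iff_mem, decide_eq_true_eq] at h6
    rcases h6 with (h6 | h6) | h6
    · exact h1 (hdeg1 χ h6)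
    · exact h2 h6
    · omega
  refine ⟨n, hval, hn1, hbig, ?_⟩
  set S : ℕ → ℕ := fun d => ∑ χ with deg χ = d, n χ with hS
  have hparts : 22 * S 22 + 45 * S 45 + 230 * S 230 + 231 * S 231 + 253 * S 253 = D := by
    rw [← hsum]
    have hd : ∀ d, d ≠ 1 → d * S d = ∑ χ ∈ Finset.univ.erase one,
        if deg χ = d then n χ * deg χ else 0 := fun d hd => by
      rw [← Finset.sum_filter, hS, Finset.mul_sum]
      refine Finset.sum_congr ?_ fun χ hχ => by rw [(Finset.mem_filter.1 hχ).2, mul_comm]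
      ext χ
      simp only [Finset.mem_filter, Finset.mem_univ, true_and, Finset.mem_erase, and_true]
      exact ⟨fun h => ⟨fun e => hd (by rw [← h, e, deg_one hone]), h⟩, fun h => h.2⟩
    rw [hd 22 (by norm_num), hd 45 (by norm_num), hd 230 (by norm_num), hd 231 (by norm_num),
      hd 253 (by norm_num), ← Finset.sum_add_distrib, ← Finset.sum_add_distrib,
      ← Finset.sum_add_distrib, ← Finset.sum_add_distrib]
    refine Finset.sum_congr rfl fun χ hχ => ?_
    by_cases h : deg χ ∈ [22, 45, 230, 231, 253]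
    · simp only [List.mem_cons, List.not_mem_nil, or_false] at h
      rcases h with h | h | h | h | h <;> simp [h]
    · rw [hbig χ (Finset.ne_of_mem_erase hχ) h, zero_mul]
      simp
  exact hparts

theorem split_cases {D a b c d f : ℕ}
    (h : 22 * a + 45 * b + 230 * c + 231 * d + 253 * f = D) (hD : D ∈ [252, 231, 230, 253]) :
    (D, a, b, c, d, f) ∈ [(252, 1, 0, 1, 0, 0), (231, 0, 0, 0, 1, 0), (230, 0, 0, 1, 0, 0),
      (253, 0, 0, 0, 0, 1), (253, 1, 0, 0, 1, 0)] := by
  have hb : D ≤ 253 := by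
    simp only [List.mem_cons, List.not_mem_nil, or_false] at hD
    omega
  have h1 := List.all_eq_true.1 (List.all_eq_true.1 (List.all_eq_true.1 (List.all_eq_true.1
    (List.all_eq_true.1 (List.all_eq_true.1 split_check D hD) a (List.mem_range.2 (by omega)))
    b (List.mem_range.2 (by omega))) c (List.mem_range.2 (by omega)))
    d (List.mem_range.2 (by omega))) f (List.mem_range.2 (by omega))
  simp only [Bool.or_eq_true, bne_iff_ne, ne_eq, List.contains_iff_mem] at h1
  exact h1.resolve_left fun hne => hne h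

/-- The only member of a set of characters with total multiplicity one. -/
theorem exists_sum_one {ι : Type*} [Fintype ι] (n : ι → ℕ) (P : ι → Prop) [DecidablePred P]
    (h : ∑ i with P i, n i = 1) : ∃ j, P j ∧ n j = 1 ∧ ∀ i, P i → i ≠ j → n i = 0 := by
  classical
  obtain ⟨j, hj, hj0⟩ := Finset.exists_ne_zero_of_sum_ne_zero (by rw [h]; exact one_ne_zero)
  have hpos : 1 ≤ n j := Nat.pos_of_ne_zero hj0
  have hle : n j ≤ 1 := h ▸ Finset.single_le_sum (fun _ _ => Nat.zero_le _) hj
  refine ⟨j, (Finset.mem_filter.1 hj).2, by omega, fun i hi hne => ?_⟩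
  have h2 : ∑ x ∈ ({i, j} : Finset ι), n x ≤ ∑ x with P x, n x :=
    Finset.sum_le_sum_of_subset fun x hx => by
      rcases Finset.mem_insert.1 hx with rfl | hx
      · exact Finset.mem_filter.2 ⟨Finset.mem_univ _, hi⟩
      · rw [Finset.mem_singleton.1 hx]; exact hj
  rw [Finset.sum_pair hne, h] at h2
  omega

theorem eq_zero_of_sum {ι : Type*} [Fintype ι] {n : ι → ℕ} {P : ι → Prop} [DecidablePred P]
    (h : ∑ i with P i, n i = 0) {i : ι} (hi : P i) : n i = 0 :=
  Finset.sum_eq_zero_iff.1 h i (Finset.mem_filter.2 ⟨Finset.mem_univ i, hi⟩)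

/-- Values at the products with the centralizer part of a character outside the block at 5. -/
theorem value_five_out [Fact (Nat.Prime 5)] (L5 : Local 5 G) (hK : Nat.card L5.K = 3)
    {χ : IrrCharacter G} (hnot : χ ∉ blk L5) {u : G} (hu : u ∈ pNe L5) {k : G} (hk : k ∈ L5.K)
    (hk1 : k ≠ 1) (hfix : (χ : G → ℂ) ((u * k) ^ 41) = (χ : G → ℂ) (u * k)) :
    (χ : G → ℂ) u + 2 * (χ : G → ℂ) (u * k) = 0 := by
  classical
  haveI := Fintype.ofFinite L5.K
  obtain ⟨hu', -⟩ := (mem_pNe L5).1 hu
  have hk3 : k ^ 3 = 1 := orderOf_dvd_iff_pow_eq_one.1 (hK ▸ Subgroup.orderOf_dvd_natCard _ hk)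
  have h41 : (u * k) ^ 41 = u * k ^ 2 := by
    rw [(L5.commute hu' hk).mul_pow, show 41 = 5 * 8 + 1 by norm_num, pow_succ, pow_mul,
      L5.pow_p hu', one_pow, one_mul, show 5 * 8 + 1 = 3 * 13 + 2 by norm_num, pow_add, pow_mul,
      hk3, one_pow, one_mul]
  rw [h41] at hfix
  set k' : L5.K := ⟨k, hk⟩ with hk'
  have hne : k' ≠ 1 := fun e => hk1 (congrArg Subtype.val e)
  have h21 : k' ^ 2 ≠ 1 := fun e => hk1 (by
    have e' : k ^ 2 = 1 := congrArg Subtype.val e
    rwa [pow_succ k 2, e', one_mul] at hk3)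
  have h2k : k' ^ 2 ≠ k' := fun e => hne (by rwa [sq, mul_eq_left] at e)
  have huniv : (Finset.univ : Finset L5.K) = {1, k', k' ^ 2} := by
    refine (Finset.eq_univ_of_card _ ?_).symm
    rw [Finset.card_insert_of_notMem (by simp [hne.symm, h21.symm]), Finset.card_pair h2k.symm,
      ← Nat.card_eq_fintype_card, hK]
  have h := sum_K_out L5 hnot hu
  rw [huniv, Finset.sum_insert (by simp [hne.symm, h21.symm]), Finset.sum_pair h2k.symm] at h
  simp only [OneMemClass.coe_one, mul_one, hk', SubmonoidClass.coe_pow, hfix] at h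
  linear_combination h

variable [IsSimpleGroup G] (hG : Nat.card G = 10200960)
include hG

variable [Fact (Nat.Prime 11)] [Fact (Nat.Prime 5)] {L11 : Local 11 G} {L5 : Local 5 G}
  (hP : Pinned L11 L5)
include hP

/-- The values of the character of degree 22 at the elements of orders 5 and 15. -/
theorem five_values {χ : IrrCharacter G} (hχ : deg χ = 22) :
    (∀ u ∈ pNe L5, (χ : G → ℂ) u = 2 ∧ ∀ k ∈ L5.K, k ≠ 1 → (χ : G → ℂ) (u * k) = -1) ∧
      ∀ ψ : IrrCharacter G, deg ψ = 253 → ∀ u ∈ pNe L5, (ψ : G → ℂ) u ≠ 3 := by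
  classical
  obtain ⟨Y, hY1, -, hY3, hYv⟩ := exists_column L5 hP.e5 hP.K5
  have hlow : ∀ T : Finset (IrrCharacter G), ∑ φ ∈ T, Y φ * Y φ ≤ 15 := fun T =>
    hY3 ▸ Finset.sum_le_sum_of_subset_of_nonneg (Finset.subset_univ _)
      fun φ _ _ => mul_self_nonneg _
  set w : ℕ → ℤ := fun d => if d % 5 = 0 then 0 else if d % 5 = 2 ∨ d % 5 = 3 then 4 else 1 with hw
  have hwY : ∀ φ, w (deg φ) ≤ Y φ * Y φ := by
    intro φ
    have h5 := hY1 φ
    simp only [hw]
    split_ifs with h1 h2
    · exact mul_self_nonneg _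
    · have : Y φ ≤ -2 ∨ 2 ≤ Y φ := by omega
      rcases this with h | h <;> nlinarith
    · have : Y φ ≤ -1 ∨ 1 ≤ Y φ := by omega
      rcases this with h | h <;> nlinarith
  have htot : ∑ φ : IrrCharacter G, w (deg φ) = 15 := by
    rw [Finset.sum_eq_multiset_sum, ← Function.comp_def, ← Multiset.map_map, hP.degs]
    decide +kernel
  have hsharp : ∀ φ, Y φ * Y φ = w (deg φ) := fun φ => by
    have h := Finset.sum_eq_sum_iff_of_le (s := Finset.univ) (fun φ _ => hwY φ)
    exact ((h.1 (htot.trans hY3.symm)) φ (Finset.mem_univ _)).symm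
  refine ⟨fun u hu => ?_, fun ψ hψ u hu h3 => ?_⟩
  · have h2 : Y χ = 2 := by
      have h4 := hsharp χ
      have h5 := hY1 χ
      simp only [hw, hχ] at h4
      rw [hχ] at h5
      norm_num at h4
      have h6 : Y χ ≤ 2 := by nlinarith
      have h7 : -2 ≤ Y χ := by nlinarith
      omega
    have hu2 : (χ : G → ℂ) u = 2 := by rw [hYv χ u hu, h2]; norm_num
    refine ⟨hu2, fun k hk hk1 => ?_⟩
    have hnot : χ ∉ blk L5 := by
      intro h
      obtain ⟨S⟩ := exists_shape L5 (by norm_num)
      obtain ⟨hC, hE⟩ := five_block hG hP S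
      rw [S.blk_eq, hE, Finset.union_empty, Finset.mem_insert] at h
      rcases h with h | h
      · rw [h, deg_one S.one_eq] at hχ; norm_num at hχ
      · have : deg χ ∈ (([231, 896, 896, 2024] : List ℕ) : Multiset ℕ) :=
          hC ▸ Multiset.mem_map_of_mem _ h
        rw [hχ] at this
        simp at this
    have h := value_five_out L5 hP.K5 hnot hu hk hk1
      (pow_value hP.degs hχ (by rw [hG]; exact eq_41_values.1) _)
    rw [hu2] at h
    linear_combination h / 2
  · have h4 := hsharp ψ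
    simp only [hw, hψ] at h4
    norm_num at h4
    have : Y ψ = 3 := by exact_mod_cast (hYv ψ u hu).symm.trans h3
    rw [this] at h4
    norm_num at h4

/-- The constituents of the tensor square. -/
theorem squares {χ : IrrCharacter G} (hχ : deg χ = 22) :
    ∃ φ ψ : IrrCharacter G, deg φ = 230 ∧ deg ψ = 231 ∧ ψ ∈ blk L5 ∧
      ∀ g : G, (χ : G → ℂ) (g * g) = (χ : G → ℂ) g →
        2 * (ψ : G → ℂ) g = (χ : G → ℂ) g ^ 2 - (χ : G → ℂ) g ∧
        (φ : G → ℂ) g + 1 = (ψ : G → ℂ) g := by
  classical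
  have hirr := χ.2
  have hchar := isCharacter_of_isIrr hirr
  set A : G → ℂ := fun g => ((χ : G → ℂ) g * (χ : G → ℂ) g - (χ : G → ℂ) (g * g)) / 2 with hA
  set S : G → ℂ := fun g => ((χ : G → ℂ) g * (χ : G → ℂ) g + (χ : G → ℂ) (g * g)) / 2 with hS
  have hAc : Cfsg.IsCharacter G A := SmallValue.isCharacter_alt hchar
  have hSc : Cfsg.IsCharacter G S := SmallValue.isCharacter_sym hchar
  have h1 : (χ : G → ℂ) 1 = 22 := by
    rw [← Blocks.charDegree_cast, show Cfsg.charDegree (χ : G → ℂ) = 22 from hχ]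
    norm_num
  obtain ⟨one, hone⟩ : ∃ one : IrrCharacter G, (one : G → ℂ) = fun _ => 1 :=
    ⟨⟨_, isIrr_one⟩, rfl⟩
  -- the multiplicity of the trivial character
  have hreal : ∀ g, conj ((χ : G → ℂ) g) = (χ : G → ℂ) g := fun g => by
    obtain ⟨z, hz⟩ := exists_int_value hP.degs hχ g
    rw [hz, map_intCast]
  have hN : (Nat.card G : ℂ) ≠ 0 := natCard_ne_zero
  have hsq : (Nat.card G : ℂ)⁻¹ * ∑ g, (χ : G → ℂ) g * (χ : G → ℂ) g = 1 := by
    rw [← classInner_isIrr_self hirr]
    simp [Cfsg.classInner, hreal]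
  have hA1 : Cfsg.classInner A (fun _ => 1) = (1 - SquareRoots.indicator (χ : G → ℂ)) / 2 := by
    simp only [hA, Cfsg.classInner, SquareRoots.indicator, finsum_eq_sum_of_fintype, map_one,
      mul_one]
    rw [← Finset.sum_div, Finset.sum_sub_distrib]
    linear_combination hsq / 2
  have hS1 : Cfsg.classInner S (fun _ => 1) = (1 + SquareRoots.indicator (χ : G → ℂ)) / 2 := by
    simp only [hS, Cfsg.classInner, SquareRoots.indicator, finsum_eq_sum_of_fintype, map_one,
      mul_one]
    rw [← Finset.sum_div, Finset.sum_add_distrib]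
    linear_combination hsq / 2
  have hnu := SquareRoots.indicator_of_real hirr fun g => Complex.conj_eq_iff_im.1 (hreal g)
  -- the elements of order five and fifteen
  obtain ⟨hv, hψ253⟩ := five_values hG hP hχ
  obtain ⟨u, hu⟩ : ∃ u, u ∈ pNe L5 := Finset.card_pos.1 (by rw [card_pNe]; norm_num)
  obtain ⟨hu', hu1⟩ := (mem_pNe L5).1 hu
  obtain ⟨k, hk, hk1⟩ : ∃ k ∈ L5.K, k ≠ 1 := by
    by_contra! h
    have h3 := hP.K5
    rw [(Subgroup.eq_bot_iff_forall L5.K).2 h, Subgroup.card_bot] at h3
    norm_num at h3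
  have hk3 : k ^ 3 = 1 :=
    orderOf_dvd_iff_pow_eq_one.1 (hP.K5 ▸ Subgroup.orderOf_dvd_natCard _ hk)
  have hu2 : u * u ∈ pNe L5 := (mem_pNe L5).2 ⟨mul_mem hu' hu', fun e => hu1 (by
    have h5 := L5.pow_p hu'
    rw [show u ^ 5 = (u * u) * (u * u) * u by simp only [pow_succ, pow_zero, one_mul, mul_assoc],
      e, one_mul, one_mul] at h5
    exact h5)⟩
  have hsqv : (χ : G → ℂ) (u * u) = 2 ∧ (χ : G → ℂ) ((u * k) * (u * k)) = -1 := by
    refine ⟨(hv _ hu2).1, ?_⟩
    rw [show (u * k) * (u * k) = (u * u) * (k * k) by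
      rw [mul_assoc, ← mul_assoc k, ← (L5.commute hu' hk).eq]; group]
    exact (hv _ hu2).2 _ (mul_mem hk hk) fun e => hk1 (by rwa [pow_succ k 2, sq, e, one_mul] at hk3)
  have hAu : A u = 1 ∧ A (u * k) = 1 ∧ S u = 3 ∧ S (u * k) = 0 := by
    simp only [hA, hS, hsqv.1, hsqv.2, (hv u hu).1, (hv u hu).2 k hk hk1]
    norm_num
  have hblk : ∀ ψ : IrrCharacter G, (ψ : G → ℂ) u = 1 → (ψ : G → ℂ) (u * k) = 1 →
      (ψ : G → ℂ) ((u * k) ^ 41) = (ψ : G → ℂ) (u * k) → ψ ∈ blk L5 := by
    intro ψ a b c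
    by_contra hn
    have h := value_five_out L5 hP.K5 hn hu hk hk1 c
    rw [a, b] at h
    norm_num at h
  have h41 : ∀ g, (χ : G → ℂ) (g ^ 41) = (χ : G → ℂ) g :=
    pow_value hP.degs hχ (by rw [hG]; exact eq_41_values.1)
  have hfix : ∀ g, A (g ^ 41) = A g ∧ S (g ^ 41) = S g := fun g => by
    have e : g ^ 41 * g ^ 41 = (g * g) ^ 41 := ((Commute.refl g).mul_pow 41).symm
    simp only [hA, hS, h41, e, and_self]
  have hdeg1 : ∀ φ : IrrCharacter G, deg φ = 22 → φ = χ := fun φ h =>
    eq_of_deg hP.degs (by decide +kernel) h hχ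
  have hval1 : (χ : G → ℂ) (1 * 1) = 22 := by rw [one_mul, h1]
  have hone1 : ∀ g, (one : G → ℂ) g = 1 := fun g => by rw [hone]
  -- evaluation of an expansion
  have key : ∀ (n : IrrCharacter G → ℕ) (θ : G → ℂ) (T : Finset (IrrCharacter G)),
      (∀ g, θ g = ∑ φ, (n φ : ℂ) * (φ : G → ℂ) g) → (∀ φ ∉ T, n φ = 0) →
      ∀ g, θ g = ∑ φ ∈ T, (n φ : ℂ) * (φ : G → ℂ) g := fun n θ T hθ hT g => by
    rw [hθ g, Finset.sum_subset (Finset.subset_univ T) fun φ _ h => by rw [hT φ h]; simp]
  rcases hnu with hν | hν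
  · -- orthogonal
    rw [hν] at hA1 hS1
    obtain ⟨nA, hnA, hnA1, hA0, hAs⟩ := small_expansion hP.degs hAc (D := 231) (m := 0)
      (by simp only [hA, h1, hval1]; norm_num) (by norm_num) (by norm_num) hone
      (by rw [hA1]; norm_num)
    obtain ⟨nS, hnS, hnS1, hS0, hSs⟩ := small_expansion hP.degs hSc (D := 252) (m := 1)
      (by simp only [hS, h1, hval1]; norm_num) (by norm_num) (by norm_num) hone
      (by rw [hS1]; norm_num)
    have cA := split_cases hAs (by simp)
    have cS := split_cases hSs (by simp)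
    simp only [List.mem_cons, List.not_mem_nil, or_false, Prod.mk.injEq, Nat.reduceEqDiff, false_and, true_and, false_or] at cA cS
    obtain ⟨a22, a45, a230, a231, a253⟩ := cA
    obtain ⟨s22, s45, s230, s231, s253⟩ := cS
    obtain ⟨ψ, hψ, hψ1, hψ0⟩ := exists_sum_one nA _ a231
    obtain ⟨φ, hφ, hφ1, hφ0⟩ := exists_sum_one nS _ s230
    obtain ⟨χ', hχ', hχ1, -⟩ := exists_sum_one nS _ s22
    obtain rfl := hdeg1 χ' hχ'
    have eA : ∀ g, A g = (ψ : G → ℂ) g := fun g => by
      rw [key nA A {ψ} hnA (fun ξ hξ => ?_), Finset.sum_singleton, hψ1, Nat.cast_one, one_mul]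
      rw [Finset.mem_singleton] at hξ
      by_cases h0 : ξ = one
      · rw [h0, hnA1]
      by_cases h : deg ξ ∈ [22, 45, 230, 231, 253]
      · simp only [List.mem_cons, List.not_mem_nil, or_false] at h
        rcases h with h | h | h | h | h
        · exact eq_zero_of_sum a22 h
        · exact eq_zero_of_sum a45 h
        · exact eq_zero_of_sum a230 h
        · exact hψ0 ξ h hξ
        · exact eq_zero_of_sum a253 h
      · exact hA0 ξ h0 h
    have hne : one ≠ χ' ∧ one ≠ φ ∧ χ' ≠ φ := by
      refine ⟨?_, ?_, ?_⟩ <;> intro e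
      · rw [← e, deg_one hone] at hχ; omega
      · rw [← e, deg_one hone] at hφ; omega
      · rw [← e, hχ] at hφ; omega
    have eS : ∀ g, S g = 1 + (χ' : G → ℂ) g + (φ : G → ℂ) g := fun g => by
      rw [key nS S {one, χ', φ} hnS (fun ξ hξ => ?_), Finset.sum_insert (by simp [hne.1, hne.2.1]),
        Finset.sum_pair hne.2.2, hnS1, hχ1, hφ1, hone1, Nat.cast_one, mul_one, one_mul, one_mul,
        add_assoc]
      simp only [Finset.mem_insert, Finset.mem_singleton, not_or] at hξ
      by_cases h : deg ξ ∈ [22, 45, 230, 231, 253]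
      · simp only [List.mem_cons, List.not_mem_nil, or_false] at h
        rcases h with h | h | h | h | h
        · exact absurd (hdeg1 ξ h) hξ.2.1
        · exact eq_zero_of_sum s45 h
        · exact hφ0 ξ h hξ.2.2
        · exact eq_zero_of_sum s231 h
        · exact eq_zero_of_sum s253 h
      · exact hS0 ξ hξ.1 h
    refine ⟨φ, ψ, hφ, hψ, hblk ψ (by rw [← eA, hAu.1]) (by rw [← eA, hAu.2.1])
      (by rw [← eA, ← eA, (hfix _).1]), fun g hg => ?_⟩
    have e1 := eA g
    have e2 := eS g
    simp only [hA, hS, hg] at e1 e2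
    constructor
    · linear_combination (-2 : ℂ) * e1
    · linear_combination e1 - e2
  · -- symplectic
    rw [hν] at hA1 hS1
    obtain ⟨nA, hnA, hnA1, hA0, hAs⟩ := small_expansion hP.degs hAc (D := 230) (m := 1)
      (by simp only [hA, h1, hval1]; norm_num) (by norm_num) (by norm_num) hone
      (by rw [hA1]; norm_num)
    obtain ⟨nS, hnS, hnS1, hS0, hSs⟩ := small_expansion hP.degs hSc (D := 253) (m := 0)
      (by simp only [hS, h1, hval1]; norm_num) (by norm_num) (by norm_num) hone
      (by rw [hS1]; norm_num)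
    have cA := split_cases hAs (by simp)
    have cS := split_cases hSs (by simp)
    simp only [List.mem_cons, List.not_mem_nil, or_false, Prod.mk.injEq, Nat.reduceEqDiff, false_and, true_and, false_or] at cA cS
    obtain ⟨a22, a45, a230, a231, a253⟩ := cA
    obtain ⟨φ, hφ, hφ1, hφ0⟩ := exists_sum_one nA _ a230
    have eA : ∀ g, A g = 1 + (φ : G → ℂ) g := fun g => by
      have hne : one ≠ φ := fun e => by rw [← e, deg_one hone] at hφ; omega
      rw [key nA A {one, φ} hnA (fun ξ hξ => ?_), Finset.sum_pair hne, hnA1, hφ1, hone1,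
        Nat.cast_one, mul_one, one_mul]
      simp only [Finset.mem_insert, Finset.mem_singleton, not_or] at hξ
      by_cases h : deg ξ ∈ [22, 45, 230, 231, 253]
      · simp only [List.mem_cons, List.not_mem_nil, or_false] at h
        rcases h with h | h | h | h | h
        · exact eq_zero_of_sum a22 h
        · exact eq_zero_of_sum a45 h
        · exact hφ0 ξ h hξ.2
        · exact eq_zero_of_sum a231 h
        · exact eq_zero_of_sum a253 h
      · exact hA0 ξ hξ.1 h
    rcases cS with ⟨s22, s45, s230, s231, s253⟩ | ⟨s22, s45, s230, s231, s253⟩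
    · exfalso
      obtain ⟨ψ, hψ, hψ1, hψ0⟩ := exists_sum_one nS _ s253
      refine hψ253 ψ hψ u hu ?_
      rw [← hAu.2.2.1, key nS S {ψ} hnS (fun ξ hξ => ?_), Finset.sum_singleton, hψ1, Nat.cast_one,
        one_mul]
      rw [Finset.mem_singleton] at hξ
      by_cases h0 : ξ = one
      · rw [h0, hnS1]
      by_cases h : deg ξ ∈ [22, 45, 230, 231, 253]
      · simp only [List.mem_cons, List.not_mem_nil, or_false] at h
        rcases h with h | h | h | h | h
        · exact eq_zero_of_sum s22 h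
        · exact eq_zero_of_sum s45 h
        · exact eq_zero_of_sum s230 h
        · exact eq_zero_of_sum s231 h
        · exact hψ0 ξ h hξ
      · exact hS0 ξ h0 h
    · obtain ⟨ψ, hψ, hψ1, hψ0⟩ := exists_sum_one nS _ s231
      obtain ⟨χ', hχ', hχ1, -⟩ := exists_sum_one nS _ s22
      obtain rfl := hdeg1 χ' hχ'
      have eS : ∀ g, S g = (χ' : G → ℂ) g + (ψ : G → ℂ) g := fun g => by
        have hne : χ' ≠ ψ := fun e => by rw [← e, hχ] at hψ; omega
        rw [key nS S {χ', ψ} hnS (fun ξ hξ => ?_), Finset.sum_pair hne, hχ1, hψ1, Nat.cast_one,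
          one_mul, one_mul]
        simp only [Finset.mem_insert, Finset.mem_singleton, not_or] at hξ
        by_cases h0 : ξ = one
        · rw [h0, hnS1]
        by_cases h : deg ξ ∈ [22, 45, 230, 231, 253]
        · simp only [List.mem_cons, List.not_mem_nil, or_false] at h
          rcases h with h | h | h | h | h
          · exact absurd (hdeg1 ξ h) hξ.1
          · exact eq_zero_of_sum s45 h
          · exact eq_zero_of_sum s230 h
          · exact hψ0 ξ h hξ.2
          · exact eq_zero_of_sum s253 h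
        · exact hS0 ξ h0 h
      have hψu : (ψ : G → ℂ) u = 1 := by
        have h := eS u
        rw [hAu.2.2.1, (hv u hu).1] at h
        linear_combination -h
      have hψuk : (ψ : G → ℂ) (u * k) = 1 := by
        have h := eS (u * k)
        rw [hAu.2.2.2, (hv u hu).2 k hk hk1] at h
        linear_combination -h
      refine ⟨φ, ψ, hφ, hψ, hblk ψ hψu hψuk ?_, fun g hg => ?_⟩
      · have e1 := eS ((u * k) ^ 41)
        have e2 := eS (u * k)
        rw [(hfix _).2, h41] at e1
        linear_combination e2 - e1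
      have e1 := eA g
      have e2 := eS g
      simp only [hA, hS, hg] at e1 e2
      constructor
      · linear_combination (-2 : ℂ) * e2
      · linear_combination e2 - e1

end CfsgLib.MTwentyThreeUnique
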