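import Cfsg.Agent.MTwentyThreeUnique.InvolutionThree

/-!
A simple group of order 10200960: the candidate shapes of the principal blocks at 11 and 5, and the
tests that eliminate all but one pair.
-/

set_option autoImplicit false

namespace CfsgLib.MTwentyThreeUnique

/-- The shapes at 11 left by the searches. -/
def candsEleven : List ((ℕ × ℕ) × List ℕ × ℕ) :=
  [((5, 1), [45, 45, 12, 12], 115),
   ((5, 1), [230, 45, 12, 12], 160),
   ((5, 1), [45, 23, 23, 23], 115),
   ((5, 1), [230, 23, 23, 23], 160),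
   ((5, 1), [252, 45, 23, 23], 160),
   ((5, 1), [276, 45, 23, 23], 368),
   ((5, 1), [736, 45, 23, 23], 644),
   ((5, 1), [1288, 45, 23, 23], 1380),
   ((5, 1), [483, 276, 23, 23], 160),
   ((5, 1), [252, 45, 45, 23], 138),
   ((5, 1), [276, 230, 45, 23], 115),
   ((5, 1), [483, 276, 45, 23], 138),
   ((5, 1), [1035, 276, 45, 23], 1380),
   ((5, 1), [1035, 736, 45, 23], 368),
   ((5, 1), [276, 230, 230, 23], 160),
   ((5, 1), [736, 276, 276, 23], 160),
   ((5, 1), [1035, 736, 483, 23], 160),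
   ((5, 1), [1288, 736, 736, 23], 160),
   ((5, 1), [1035, 230, 45, 45], 896),
   ((5, 1), [276, 252, 45, 45], 115),
   ((5, 1), [483, 252, 45, 45], 644),
   ((5, 1), [1288, 483, 45, 45], 896),
   ((5, 1), [276, 230, 230, 45], 138),
   ((5, 1), [276, 252, 230, 45], 160),
   ((5, 1), [276, 276, 230, 45], 368),
   ((5, 1), [736, 276, 230, 45], 644),
   ((5, 1), [1288, 276, 230, 45], 1380),
   ((5, 1), [1035, 483, 230, 45], 368),
   ((5, 1), [736, 736, 230, 45], 1656),
   ((5, 1), [1035, 736, 230, 45], 115),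
   ((5, 1), [1288, 736, 230, 45], 368),
   ((5, 1), [483, 276, 276, 45], 115),
   ((5, 1), [736, 276, 276, 45], 138),
   ((5, 1), [483, 483, 276, 45], 644),
   ((5, 1), [736, 483, 483, 45], 1656),
   ((5, 1), [1035, 483, 483, 45], 115),
   ((5, 1), [1035, 736, 483, 45], 138),
   ((5, 1), [1288, 736, 483, 45], 115),
   ((5, 1), [1288, 736, 736, 45], 138),
   ((5, 1), [1035, 1035, 736, 45], 1380),
   ((5, 1), [1035, 736, 230, 230], 160),
   ((5, 1), [483, 276, 276, 230], 160),
   ((5, 1), [1035, 483, 483, 230], 160),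
   ((5, 1), [1288, 736, 483, 230], 160),
   ((5, 1), [1035, 736, 736, 276], 160),
   ((5, 1), [1288, 483, 483, 483], 160),
   ((5, 12), [230, 23, 23, 23], 160),
   ((5, 12), [483, 276, 23, 23], 160),
   ((5, 12), [276, 230, 230, 23], 160),
   ((5, 12), [736, 276, 276, 23], 160),
   ((5, 12), [1288, 736, 736, 23], 160),
   ((5, 12), [483, 276, 276, 230], 160),
   ((5, 12), [1288, 736, 483, 230], 160),
   ((5, 12), [1288, 483, 483, 483], 160)]

/-- The shapes at 5, without a degree 11, left by the searches. -/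
def candsFive : List ((ℕ × ℕ) × List ℕ × ℕ) :=
  [((2, 1), [24], 23),
   ((2, 6), [24], 23),
   ((2, 16), [24], 23),
   ((2, 21), [24], 23),
   ((2, 56), [24], 23),
   ((2, 336), [24], 23),
   ((4, 3), [231, 184, 24, 24], 0),
   ((4, 3), [69, 46, 46, 24], 0),
   ((4, 3), [184, 161, 46, 24], 0),
   ((4, 3), [759, 736, 46, 24], 0),
   ((4, 3), [161, 69, 69, 24], 0),
   ((4, 3), [276, 184, 69, 24], 0),
   ((4, 3), [736, 644, 69, 24], 0),
   ((4, 3), [644, 506, 161, 24], 0),
   ((4, 3), [1104, 966, 161, 24], 0),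
   ((4, 3), [966, 759, 184, 24], 0),
   ((4, 3), [1104, 896, 231, 24], 0),
   ((4, 3), [759, 506, 276, 24], 0),
   ((4, 3), [2024, 1771, 276, 24], 0),
   ((4, 3), [1771, 1104, 644, 24], 0),
   ((4, 3), [1104, 896, 161, 46], 0),
   ((4, 3), [896, 759, 184, 46], 0),
   ((4, 3), [896, 759, 69, 69], 0),
   ((4, 3), [896, 644, 184, 69], 0),
   ((4, 3), [1104, 896, 276, 69], 0),
   ((4, 3), [2024, 966, 896, 161], 0),
   ((4, 3), [2024, 896, 896, 231], 0),
   ((4, 3), [896, 759, 644, 506], 0),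
   ((4, 3), [2024, 1771, 896, 644], 0),
   ((4, 3), [1104, 966, 896, 759], 0),
   ((4, 8), [231, 184, 24, 24], 0),
   ((4, 8), [69, 46, 46, 24], 0),
   ((4, 8), [184, 161, 46, 24], 0),
   ((4, 8), [161, 69, 69, 24], 0),
   ((4, 8), [276, 184, 69, 24], 0),
   ((4, 8), [506, 414, 69, 24], 0),
   ((4, 8), [414, 276, 161, 24], 0),
   ((4, 8), [644, 506, 161, 24], 0),
   ((4, 8), [1104, 966, 161, 24], 0),
   ((4, 8), [966, 759, 184, 24], 0),
   ((4, 8), [1656, 1449, 184, 24], 0),
   ((4, 8), [759, 506, 276, 24], 0),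
   ((4, 8), [2024, 1771, 276, 24], 0),
   ((4, 8), [1449, 966, 506, 24], 0),
   ((4, 8), [1771, 1104, 644, 24], 0),
   ((4, 8), [2576, 1449, 1104, 24], 0),
   ((4, 8), [184, 126, 126, 69], 0),
   ((4, 8), [414, 161, 126, 126], 0),
   ((4, 8), [759, 506, 126, 126], 0),
   ((4, 8), [2024, 1771, 126, 126], 0),
   ((4, 28), [69, 46, 46, 24], 0),
   ((4, 28), [759, 736, 46, 24], 0),
   ((4, 28), [276, 184, 69, 24], 0),
   ((4, 28), [506, 414, 69, 24], 0),
   ((4, 28), [759, 506, 276, 24], 0),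
   ((4, 48), [231, 184, 24, 24], 0),
   ((4, 48), [69, 46, 46, 24], 0),
   ((4, 48), [184, 161, 46, 24], 0),
   ((4, 48), [161, 69, 69, 24], 0),
   ((4, 48), [276, 184, 69, 24], 0),
   ((4, 48), [644, 506, 161, 24], 0),
   ((4, 48), [966, 759, 184, 24], 0),
   ((4, 48), [759, 506, 276, 24], 0),
   ((4, 48), [2024, 1771, 276, 24], 0),
   ((4, 168), [69, 46, 46, 24], 0),
   ((4, 168), [276, 184, 69, 24], 0),
   ((4, 168), [759, 506, 276, 24], 0)]

/-- The bound on the degrees. -/
def degBound (p m : ℕ) : ℕ := 10200960 / (p * m)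

/-- A shape at `p` tolerates the option `o` at `q` by the orthogonality of the blocks. -/
def weakCompat (p q : ℕ) (x : (ℕ × ℕ) × List ℕ × ℕ) (o : ℕ × ℕ) : Bool :=
  canCancel (members p x.1.1 x.2.1 x.2.2) (svOf q o.1) (okWeak q o.1 (degBound q o.2))
    (((p : ℤ) - 1) * ((q : ℤ) - 1))

/-- The option at 7 is compatible with shapes at 11 and 5. -/
def sevenOk (x z : (ℕ × ℕ) × List ℕ × ℕ) (o : ℕ × ℕ) : Bool :=
  o.2 % 11 != 0 && (o.2 % 5 == 0) == (z.1.2 % 7 == 0) && weakCompat 11 7 x o &&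
    (z.1.2 % 7 == 0 || weakCompat 5 7 z o) && (z.1.2 != 28 || (o.1 * o.2) % 80 == 0)

/-- A shape at 5 is compatible with one at 11. -/
def fiveOk (x z : (ℕ × ℕ) × List ℕ × ℕ) : Bool :=
  xsOk (memberDegs 11 x.1.1 x.2.1 x.2.2 ++ memberDegs 5 z.1.1 z.2.1 z.2.2) &&
    (x.1.2 != 1 || (memberDegs 5 z.1.1 z.2.1 z.2.2).all fun d => d % 11 == 0 ||
      decide ((memberDegs 5 z.1.1 z.2.1 z.2.2).count d ≤
        (memberDegs 11 x.1.1 x.2.1 x.2.2).count d)) &&
    canCancel (members 11 x.1.1 x.2.1 x.2.2) (svOf 5 z.1.1)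
      (okExact (memberDegs 5 z.1.1 z.2.1 z.2.2)) 40

/-- The shapes at 11 and 5 of the Mathieu group. -/
def truePair : ((ℕ × ℕ) × List ℕ × ℕ) × ((ℕ × ℕ) × List ℕ × ℕ) :=
  (((5, 1), [1035, 230, 45, 45], 896), ((4, 3), [2024, 896, 896, 231], 0))

/-- The pairs needing a look at 7. -/
def hardPairs : List ((((ℕ × ℕ) × List ℕ × ℕ) × ((ℕ × ℕ) × List ℕ × ℕ)) × List (ℕ × ℕ)) :=
  [((((5, 1), [1288, 483, 45, 45], 896), ((4, 3), [2024, 896, 896, 231], 0)), [(3, 2), (3, 16)]),
   ((((5, 12), [736, 276, 276, 23], 160), ((4, 28), [759, 736, 46, 24], 0)), [(3, 240)])]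

theorem pairs_check :
    candsEleven.all (fun x => candsFive.all fun z => !fiveOk x z || (x, z) == truePair ||
      optsSeven.all fun o => !sevenOk x z o ||
        hardPairs.any fun h => h.1 == (x, z) && h.2.contains o) = true := by
  decide +kernel

theorem hard_check :
    hardPairs.all (fun h => h.2.all fun o =>
      shapeCheck 7 o.1 (degBound 7 o.2) okTwentyThree 132 (fun d => csign 7 d * s23 d)
        (fun d => esign 7 o.1 d * s23 d)
        (fun l y => !canCancel (members 11 h.1.1.1.1 h.1.1.2.1 h.1.1.2.2) (svOf 7 o.1)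
            (okExact (memberDegs 7 o.1 l y)) 60 ||
          (o.1 == 3 && badThree.contains (l, y)))) = true := by
  decide +kernel

theorem eleven_check :
    optsEleven.all (fun o => o.2 % 7 == 0 ||
      shapeCheck 11 o.1 (degBound 11 o.2) okTwentyThree 220 (fun d => csign 11 d * s23 d)
        (fun d => esign 11 o.1 d * s23 d)
        (fun l y => !xsOk (memberDegs 11 o.1 l y) ||
          optsSeven.all (fun o' => o'.2 % 11 == 0 || !weakCompat 11 7 (o, l, y) o') ||
            candsEleven.contains (o, l, y))) = true := by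
  decide +kernel

theorem five_check :
    optsFive.all (fun o => o.2 % 11 == 0 ||
      shapeCheck 5 o.1 (degBound 5 o.2) okTwentyThree 88 (fun d => csign 5 d * s23 d)
        (fun d => esign 5 o.1 d * s23 d)
        (fun l y => (memberDegs 5 o.1 l y).contains 11 || !xsOk (memberDegs 5 o.1 l y) ||
          candsFive.contains (o, l, y))) = true := by
  decide +kernel

theorem seven_check :
    optsSeven.all (fun o => o.2 % 11 != 0 ||
      shapeCheck 7 o.1 (degBound 7 o.2) okTwentyThree 132 (fun d => csign 7 d * s23 d)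
        (fun d => esign 7 o.1 d * s23 d)
        (fun l y => o.1 == 3 && badThree.contains (l, y))) = true := by
  decide +kernel

theorem candsEleven_five :
    candsEleven.all (fun x => x.1.2 % 5 != 0) = true := by
  decide +kernel

end CfsgLib.MTwentyThreeUnique
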