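import Mathlib

/-!
In characteristic two the trace of an absolutely irreducible representation is not the sum of a
class function with values 0 and 1 (constant along a fixed power map) and its composite with
inversion.
-/

set_option autoImplicit false
set_option linter.style.haveILetI false
set_option linter.unusedSectionVars false

namespace CfsgLib.MTwentyThreeUnique

open MonoidAlgebra

universe u v w

variable {G : Type u} [Group G] {k : Type v} [Field k]

/-- The linear functional of a function on the group. -/
noncomputable def functional (f : G → k) : MonoidAlgebra k G →ₗ[k] k :=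
  (MonoidAlgebra.basis G k).constr k f

theorem functional_single (f : G → k) (g : G) (c : k) : functional f (single g c) = c * f g := by
  have h : single g c = c • (MonoidAlgebra.basis G k g : MonoidAlgebra k G) := by simp
  rw [h, map_smul, functional, Module.Basis.constr_basis, smul_eq_mul]

/-- The inversion of the group algebra. -/
noncomputable def bar : MonoidAlgebra k G →ₗ[k] MonoidAlgebra k G :=
  (MonoidAlgebra.basis G k).constr k fun g => single g⁻¹ 1

theorem bar_single (g : G) (c : k) : bar (single g c) = single g⁻¹ c := by
  have h : single g c = c • (MonoidAlgebra.basis G k g : MonoidAlgebra k G) := by simp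
  rw [h, map_smul, bar, Module.Basis.constr_basis, smul_single, smul_eq_mul, mul_one]

theorem bar_mul (x y : MonoidAlgebra k G) : bar (x * y) = bar y * bar x := by
  induction x using MonoidAlgebra.induction_linear with
  | zero => simp
  | add a b ha hb => rw [add_mul, map_add, ha, hb, map_add, mul_add]
  | single g c =>
    induction y using MonoidAlgebra.induction_linear with
    | zero => simp
    | add a b ha hb => rw [mul_add, map_add, ha, hb, map_add, add_mul]
    | single h d =>
      rw [single_mul_single, bar_single, bar_single, bar_single, single_mul_single, mul_inv_rev,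
        mul_comm c d]

theorem bar_bar (x : MonoidAlgebra k G) : bar (bar x) = x := by
  induction x using MonoidAlgebra.induction_linear with
  | zero => simp
  | add a b ha hb => rw [map_add, map_add, ha, hb]
  | single g c => rw [bar_single, bar_single, inv_inv]

theorem functional_bar (f : G → k) (x : MonoidAlgebra k G) :
    functional f (bar x) = functional (fun g => f g⁻¹) x := by
  induction x using MonoidAlgebra.induction_linear with
  | zero => simp
  | add a b ha hb => rw [map_add, map_add, ha, hb, map_add]
  | single g c => rw [bar_single, functional_single, functional_single]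

theorem functional_comm {f : G → k} (hf : ∀ g h, f (h * g * h⁻¹) = f g)
    (x y : MonoidAlgebra k G) : functional f (x * y) = functional f (y * x) := by
  induction x using MonoidAlgebra.induction_linear with
  | zero => simp
  | add a b ha hb => rw [add_mul, map_add, ha, hb, mul_add, map_add]
  | single g c =>
    induction y using MonoidAlgebra.induction_linear with
    | zero => simp
    | add a b ha hb => rw [mul_add, map_add, ha, hb, add_mul, map_add]
    | single h d =>
      rw [single_mul_single, single_mul_single, functional_single, functional_single, mul_comm c d,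
        ← hf (h * g) g, show g * (h * g) * g⁻¹ = g * h by group]

variable [CharP k 2]

theorem functional_sq {f : G → k} (hf : ∀ g h, f (h * g * h⁻¹) = f g)
    (h01 : ∀ g, f g = 0 ∨ f g = 1) (x : MonoidAlgebra k G) :
    functional f (x ^ 2) = functional (fun g => f (g ^ 2)) x ^ 2 := by
  induction x using MonoidAlgebra.induction_linear with
  | zero => simp
  | add a b ha hb =>
    have hexp : (a + b) ^ 2 = a ^ 2 + b ^ 2 + (a * b + b * a) := by
      simp only [sq, add_mul, mul_add]; abel
    rw [hexp, map_add, map_add, map_add, functional_comm hf b a, CharTwo.add_self_eq_zero, add_zero,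
      ha, hb, map_add, CharTwo.add_sq]
  | single g c =>
    rw [single_pow, functional_single, functional_single, mul_pow]
    rcases h01 (g ^ 2) with h | h <;> rw [h] <;> simp

theorem functional_pow (n : ℕ) : ∀ {f : G → k}, (∀ g h, f (h * g * h⁻¹) = f g) →
    (∀ g, f g = 0 ∨ f g = 1) → ∀ x : MonoidAlgebra k G,
      functional f (x ^ 2 ^ n) = functional (fun g => f (g ^ 2 ^ n)) x ^ 2 ^ n := by
  induction n with
  | zero => intro f _ _ x; simp
  | succ n ih =>
    intro f hf h01 x
    rw [pow_succ, pow_mul, functional_sq hf h01, ih
      (f := fun g => f (g ^ 2)) (fun g h => by rw [conj_pow, hf]) (fun g => h01 _), ← pow_mul]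
    simp only [← pow_mul]

variable {n : Type w} [Fintype n] [DecidableEq n]

/-- The key statement. -/
theorem trace_not_symmetrized [Finite G] [Nonempty n]
    (ρ : MonoidAlgebra k G →ₐ[k] Matrix n n k) (hsurj : Function.Surjective ρ) (f : G → k)
    (hf : ∀ g h, f (h * g * h⁻¹) = f g) (h01 : ∀ g, f g = 0 ∨ f g = 1) {N : ℕ} (hN0 : 0 < N)
    (hN : ∀ g, f (g ^ 2 ^ N) = f g)
    (ht : ∀ g, (ρ (single g 1)).trace = f g + f g⁻¹) : False := by
  classical
  haveI := Fintype.ofFinite G
  set U := functional f with hU
  set t : MonoidAlgebra k G →ₗ[k] k := (Matrix.traceLinearMap n k k).comp ρ.toLinearMap with ht'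
  have htap : ∀ x, t x = (ρ x).trace := fun x => rfl
  have hsplit : ∀ x, t x = U x + U (bar x) := by
    intro x
    induction x using MonoidAlgebra.induction_linear with
    | zero => simp
    | add a b ha hb => rw [map_add, ha, hb, map_add, map_add, map_add]; abel
    | single g c =>
      rw [bar_single, hU, functional_single, functional_single, ← mul_add, ← ht g,
        show single g c = c • (single g (1 : k) : MonoidAlgebra k G) by
          rw [smul_single, smul_eq_mul, mul_one], map_smul, htap, smul_eq_mul]
  have htbar : ∀ x, t (bar x) = t x := fun x => by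
    rw [hsplit, hsplit, bar_bar]; exact add_comm _ _
  -- the kernel is stable under inversion
  have hnd : ∀ M : Matrix n n k, (∀ P, (M * P).trace = 0) → M = 0 := by
    intro M hM
    ext i j
    have := hM (Matrix.single j i 1)
    simpa [Matrix.trace_mul_single] using this
  have hker : ∀ x, ρ x = 0 → ρ (bar x) = 0 := by
    intro x hx
    refine hnd _ fun P => ?_
    obtain ⟨y, rfl⟩ := hsurj P
    rw [← map_mul, ← htap, ← htbar, bar_mul, bar_bar, htap, map_mul, hx, Matrix.mul_zero,
      Matrix.trace_zero]
  let K : Submodule k (MonoidAlgebra k G) := LinearMap.ker ρ.toLinearMap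
  have hK : ∀ x, x ∈ K ↔ ρ x = 0 := fun x => LinearMap.mem_ker
  -- the orthogonal of the kernel
  let φ : MonoidAlgebra k G →ₗ[k] Module.Dual k K :=
    { toFun := fun x => (U.comp (LinearMap.mulLeft k x)).comp K.subtype
      map_add' := fun x y => by ext z; simp [add_mul]
      map_smul' := fun c x => by ext z; simp }
  have hφ : ∀ x, x ∈ LinearMap.ker φ ↔ ∀ z, ρ z = 0 → U (x * z) = 0 := fun x => by
    rw [LinearMap.mem_ker]
    refine ⟨fun h z hz => ?_, fun h => LinearMap.ext fun z => h z ((hK z).1 z.2)⟩
    exact LinearMap.congr_fun h ⟨z, (hK z).2 hz⟩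
  -- where the kernel meets its orthogonal the functional degenerates
  have hdeg : ∀ x, x ∈ LinearMap.ker φ → ρ x = 0 → ∀ y, U (x * y) = 0 := by
    intro x hx hx0 y
    have h1 : U ((x * y) ^ 2 ^ N) = 0 := by
      obtain ⟨m, hm⟩ := Nat.exists_eq_add_of_le (show 2 ≤ 2 ^ N from
        Nat.le_self_pow (Nat.pos_iff_ne_zero.1 hN0) 2)
      rw [hm, pow_add, sq, mul_assoc, mul_assoc]
      refine (hφ x).1 hx _ ?_
      rw [map_mul, map_mul, map_mul, hx0]
      simp
    rw [hU, functional_pow N hf h01] at h1
    rw [funext hN] at h1
    exact eq_zero_of_pow_eq_zero h1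
  obtain ⟨z, hz, hz1⟩ : ∃ z ∈ LinearMap.ker φ, ρ z = 1 := by
    by_cases hne : ∃ x ∈ LinearMap.ker φ, ρ x ≠ 0
    · obtain ⟨x, hx, hx0⟩ := hne
      obtain ⟨i, j, hij⟩ : ∃ i j, ρ x i j ≠ 0 := by
        by_contra! h
        exact hx0 (Matrix.ext h)
      -- the image of the orthogonal is a two-sided ideal
      have hleft : ∀ a, ∀ y ∈ LinearMap.ker φ, a * y ∈ LinearMap.ker φ := fun a y hy => by
        refine (hφ _).2 fun w hw => ?_
        rw [hU, mul_assoc, functional_comm hf, mul_assoc]
        exact (hφ y).1 hy _ (by rw [map_mul, hw, zero_mul])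
      have hright : ∀ a, ∀ y ∈ LinearMap.ker φ, y * a ∈ LinearMap.ker φ := fun a y hy => by
        refine (hφ _).2 fun w hw => ?_
        rw [mul_assoc]
        exact (hφ y).1 hy _ (by rw [map_mul, hw, mul_zero])
      choose pre hpre using fun M : Matrix n n k => hsurj M
      refine ⟨∑ l : n, pre (Matrix.single l i (ρ x i j)⁻¹) * x * pre (Matrix.single j l 1),
        Submodule.sum_mem _ fun l _ => hright _ _ (hleft _ _ hx), ?_⟩
      rw [map_sum]
      simp only [map_mul, hpre, Matrix.single_mul_mul_single, mul_one, inv_mul_cancel₀ hij]
      ext p q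
      by_cases hpq : p = q
      · subst hpq; simp [Matrix.sum_apply, Matrix.single_apply]
      · rw [Matrix.sum_apply, Matrix.one_apply_ne hpq]
        refine Finset.sum_eq_zero fun l _ => ?_
        rw [Matrix.single_apply, if_neg fun h => hpq (h.1.symm.trans h.2)]
    · exfalso
      push Not at hne
      have hsub : LinearMap.range φ ≤
          (((LinearMap.ker φ).comap K.subtype).dualAnnihilator : Submodule k (Module.Dual k K)) := by
        rintro _ ⟨x, rfl⟩
        rw [Submodule.mem_dualAnnihilator]
        intro w hw
        show U (x * w) = 0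
        rw [hU, functional_comm hf]
        exact hdeg _ hw ((hK _).1 w.2) x
      haveI : Module.Finite k (MonoidAlgebra k G) := Module.Finite.of_basis (MonoidAlgebra.basis G k)
      have h1 := Submodule.finrank_mono hsub
      have h2 := LinearMap.finrank_range_add_finrank_ker φ
      have h3 := Subspace.finrank_add_finrank_dualAnnihilator_eq ((LinearMap.ker φ).comap K.subtype)
      have h4 : Module.finrank k ((LinearMap.ker φ).comap K.subtype) =
          Module.finrank k (LinearMap.ker φ) := by
        refine LinearEquiv.finrank_eq (Submodule.comapSubtypeEquivOfLe ?_)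
        exact fun x hx => (hK x).2 (hne x hx)
      have h5 : K = ⊤ := Submodule.eq_top_of_finrank_eq (le_antisymm (Submodule.finrank_le K) (by omega))
      have h6 : ρ (1 : MonoidAlgebra k G) = 0 := (hK 1).1 (h5 ▸ Submodule.mem_top)
      rw [map_one] at h6
      exact one_ne_zero h6
  -- the functional transported to the matrix algebra
  choose pre hpre using fun M : Matrix n n k => hsurj M
  have hker0 : ∀ x, ρ x = 0 → U (z * x) = 0 := (hφ z).1 hz
  let ψ : Matrix n n k →ₗ[k] k :=
    { toFun := fun M => U (z * pre M)
      map_add' := fun M P => by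
        rw [← map_add, ← mul_add]
        refine sub_eq_zero.1 ?_
        rw [← map_sub, ← mul_sub]
        exact hker0 _ (by rw [map_sub, map_add, hpre, hpre, hpre, sub_self])
      map_smul' := fun c M => by
        rw [RingHom.id_apply, ← map_smul, ← mul_smul_comm]
        refine sub_eq_zero.1 ?_
        rw [← map_sub, ← mul_sub]
        exact hker0 _ (by rw [map_sub, map_smul, hpre, hpre, sub_self]) }
  have hψρ : ∀ x, ψ (ρ x) = U (z * x) := fun x => by
    show U (z * pre (ρ x)) = _
    refine sub_eq_zero.1 ?_
    rw [← map_sub, ← mul_sub]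
    exact hker0 _ (by rw [map_sub, hpre, sub_self])
  have hcentral : ∀ a b, U (z * (a * b)) = U (z * (b * a)) := by
    intro a b
    have hd : ρ (z * b - b * z) = 0 := by rw [map_sub, map_mul, map_mul, hz1, one_mul, mul_one, sub_self]
    have hdmem : z * b - b * z ∈ LinearMap.ker φ := by
      refine (hφ _).2 fun w hw => ?_
      rw [sub_mul, map_sub, mul_assoc, (hφ z).1 hz _ (by rw [map_mul, hw, mul_zero]), zero_sub,
        neg_eq_zero, mul_assoc, hU, functional_comm hf, mul_assoc]
      exact (hφ z).1 hz _ (by rw [map_mul, hw, zero_mul])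
    have h := hdeg _ hdmem hd a
    rw [sub_mul, map_sub, sub_eq_zero, mul_assoc, mul_assoc] at h
    rw [h, hU, functional_comm hf b (z * a), mul_assoc]
  obtain ⟨i0⟩ := (inferInstance : Nonempty n)
  set c := ψ (Matrix.single i0 i0 1) with hc
  have hψcomm : ∀ M P, ψ (M * P) = ψ (P * M) := fun M P => by
    rw [← hpre M, ← hpre P, ← map_mul, ← map_mul, hψρ, hψρ, hcentral]
  have hψtr : ∀ M, ψ M = c * M.trace := by
    intro M
    have hentry : ∀ i j, ψ (Matrix.single i j (M i j)) = if i = j then c * M i j else 0 := by
      intro i j
      rw [show Matrix.single i j (M i j) = M i j • (Matrix.single i j (1 : k)) by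
        rw [Matrix.smul_single, smul_eq_mul, mul_one], map_smul, smul_eq_mul]
      by_cases h : i = j
      · subst h
        rw [if_pos rfl, mul_comm]
        congr 1
        rw [hc, show Matrix.single i i (1 : k) = Matrix.single i i0 1 * Matrix.single i0 i 1 by simp,
          hψcomm]
        simp
      · rw [if_neg h, show Matrix.single i j (1 : k) = Matrix.single i i 1 * Matrix.single i j 1 by
          simp, hψcomm, Matrix.single_mul_single_of_ne _ _ _ _ (Ne.symm h), map_zero, mul_zero]
    conv_lhs => rw [Matrix.matrix_eq_sum_single M]
    rw [map_sum, Matrix.trace, Finset.mul_sum]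
    refine Finset.sum_congr rfl fun i _ => ?_
    rw [map_sum, Finset.sum_congr rfl fun j _ => hentry i j]
    simp
  -- evaluation at a lift of a rank one idempotent
  set x := pre (Matrix.single i0 i0 (1 : k)) with hx
  have hx1 : t x = 1 := by rw [htap, hx, hpre]; simp
  have hbz : ρ (bar z) = 1 := by
    have : ρ (bar z - 1) = 0 := by
      have h1 : bar (z - 1) = bar z - 1 := by
        rw [map_sub]
        congr 1
        rw [one_def, bar_single, inv_one]
      rw [← h1]
      exact hker _ (by rw [map_sub, hz1, map_one, sub_self])
    rwa [map_sub, map_one, sub_eq_zero] at this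
  have hbzmem : bar z ∈ LinearMap.ker φ := by
    refine (hφ _).2 fun w hw => ?_
    have h1 : ρ (bar w) = 0 := hker w hw
    have h2 : U (z * bar w) = 0 := hker0 _ h1
    have h3 : t (bar z * w) = 0 := by rw [htap, map_mul, hw, Matrix.mul_zero, Matrix.trace_zero]
    rw [hsplit, bar_mul, bar_bar, hU, functional_comm hf (bar w), ← hU, h2, add_zero] at h3
    exact h3
  have hA : U (z * x) = c * 1 := by
    rw [← hψρ, hψtr, ← htap, hx1]
  have hB : U (bar (z * x)) = c * 1 := by
    have hd : U ((bar z - z) * bar x) = 0 := hdeg _ (Submodule.sub_mem _ hbzmem hz)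
      (by rw [map_sub, hbz, hz1, sub_self]) _
    rw [sub_mul, map_sub, sub_eq_zero] at hd
    rw [bar_mul, hU, functional_comm hf, ← hU, hd, ← hψρ, hψtr, ← htap, htbar, hx1]
  have h := hsplit (z * x)
  rw [hA, hB, CharTwo.add_self_eq_zero, htap, map_mul, hz1, one_mul, ← htap, hx1] at h
  exact one_ne_zero h

end CfsgLib.MTwentyThreeUnique
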