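import Cfsg.Agent.MTwentyThreeUnique.TraceLemma

/-!
A representation of degree 22 in characteristic two in which an element of order 23 and an element
squaring it act as a diagonal matrix and a permutation matrix: either the group algebra maps onto
all matrices, or there is a representation of degree 11 over the field with two elements.
-/

set_option autoImplicit false
set_option linter.style.haveILetI false
set_option linter.unusedSectionVars false

namespace CfsgLib.MTwentyThreeUnique

open MonoidAlgebra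

universe u v

/-- The shift on eleven points. -/
def shiftFin : Fin 11 ≃ Fin 11 := Equiv.addRight 1

/-- The shift on two copies of eleven points. -/
def shiftSum : Fin 11 ⊕ Fin 11 ≃ Fin 11 ⊕ Fin 11 := Equiv.sumCongr shiftFin shiftFin

/-- The exponents of the eigenvalues. -/
def expo : Fin 11 ⊕ Fin 11 → ℕ := Sum.elim (fun i => 2 ^ i.val % 23) (fun i => 22 * 2 ^ i.val % 23)

theorem expo_shift : ∀ p, expo (shiftSum p) = 2 * expo p % 23 := by decide +kernel

theorem expo_inj : Function.Injective expo := by decide +kernel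

theorem expo_image : Finset.univ.image expo = (Finset.range 23).erase 0 := by decide +kernel

theorem expo_orbit : ∀ i j : Fin 11,
    expo (Sum.inl (i + j)) = expo (Sum.inl j) * 2 ^ i.val % 23 ∧
      expo (Sum.inr (i + j)) = expo (Sum.inr j) * 2 ^ i.val % 23 := by
  decide +kernel

variable {k : Type v} [Field k]

/-- The matrix of a permutation of the indices. -/
def permMat {n : Type*} [DecidableEq n] (s : n ≃ n) : Matrix n n k :=
  Matrix.of fun p q => if p = s q then 1 else 0

theorem mul_permMat {n : Type*} [Fintype n] [DecidableEq n] (s : n ≃ n) (X : Matrix n n k) (p q : n) :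
    (X * (permMat s : Matrix n n k)) p q = X p (s q) := by
  simp [Matrix.mul_apply, permMat]

theorem permMat_mul {n : Type*} [Fintype n] [DecidableEq n] (s : n ≃ n) (X : Matrix n n k) (p q : n) :
    ((permMat s : Matrix n n k) * X) p q = X (s.symm p) q := by
  rw [Matrix.mul_apply, Finset.sum_eq_single (s.symm p)]
  · simp [permMat]
  · intro b _ hb
    rw [permMat, Matrix.of_apply, if_neg fun h => hb (by rw [h, Equiv.symm_apply_apply]), zero_mul]
  · exact fun h => absurd (Finset.mem_univ _) h

section Subalgebra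

variable {n : Type*} [Fintype n] [DecidableEq n] (R : Subalgebra k (Matrix n n k))

theorem single_diag_mem {d : n → k} (hd : Function.Injective d) (hD : Matrix.diagonal d ∈ R) (p : n) :
    Matrix.single p p (1 : k) ∈ R := by
  have h1 : Polynomial.aeval (Matrix.diagonal d) (Lagrange.basis Finset.univ d p) ∈ R :=
    Algebra.adjoin_le (Set.singleton_subset_iff.2 hD)
      (Polynomial.aeval_mem_adjoin_singleton k (Matrix.diagonal d))
  have h2 : Polynomial.aeval (Matrix.diagonal d) (Lagrange.basis Finset.univ d p) =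
      Matrix.single p p (1 : k) := by
    rw [show Matrix.diagonal d = Matrix.diagonalAlgHom k d from rfl,
      Polynomial.aeval_algHom_apply]
    have h3 : Polynomial.aeval d (Lagrange.basis Finset.univ d p) =
        fun q => if q = p then 1 else 0 := by
      funext q
      rw [Polynomial.aeval_fn_apply, Polynomial.coe_aeval_eq_eval]
      by_cases h : q = p
      · subst h
        rw [if_pos rfl]
        exact Lagrange.eval_basis_self hd.injOn (Finset.mem_univ q)
      · rw [if_neg h]
        exact Lagrange.eval_basis_of_ne (Ne.symm h) (Finset.mem_univ q)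
    rw [h3]
    ext i j
    by_cases hij : i = j
    · subst hij
      simp [Matrix.single_apply, eq_comm]
    · simp only [Matrix.diagonalAlgHom_apply, Matrix.diagonal_apply_ne _ hij, Matrix.single_apply]
      rw [if_neg fun h => hij (h.1.symm.trans h.2)]
  exact h2 ▸ h1

theorem single_shift_mem {s : n ≃ n} (hdiag : ∀ p, Matrix.single p p (1 : k) ∈ R)
    (hs : (permMat s : Matrix n n k) ∈ R) (p : n) (m : ℕ) : Matrix.single (s^[m] p) p (1 : k) ∈ R := by
  induction m with
  | zero => exact hdiag p
  | succ m ih =>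
    have h : permMat s * Matrix.single (s^[m] p) p (1 : k) = Matrix.single (s (s^[m] p)) p 1 := by
      ext i j
      rw [permMat_mul, Matrix.single_apply, Matrix.single_apply]
      refine if_congr (and_congr_left fun _ => ?_) rfl rfl
      rw [Equiv.eq_symm_apply]
    rw [Function.iterate_succ_apply', ← h]
    exact mul_mem hs ih

theorem eq_top_of_singles (h : ∀ i j, Matrix.single i j (1 : k) ∈ R) : R = ⊤ := by
  refine eq_top_iff.2 fun M _ => ?_
  rw [Matrix.matrix_eq_sum_single M]
  refine Subalgebra.sum_mem _ fun i _ => Subalgebra.sum_mem _ fun j _ => ?_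
  rw [show Matrix.single i j (M i j) = M i j • Matrix.single i j (1 : k) by
    rw [Matrix.smul_single, smul_eq_mul, mul_one]]
  exact Subalgebra.smul_mem _ (h i j) _

end Subalgebra

theorem shiftFin_iterate : ∀ i j : Fin 11, shiftFin^[i.val] j = j + i := by decide +kernel

theorem shiftSum_iterate : ∀ i j : Fin 11, shiftSum^[i.val] (Sum.inl j) = Sum.inl (j + i) ∧
    shiftSum^[i.val] (Sum.inr j) = Sum.inr (j + i) := by decide +kernel

theorem eq_top_eleven (R : Subalgebra k (Matrix (Fin 11) (Fin 11) k)) {d : Fin 11 → k}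
    (hd : Function.Injective d) (hD : Matrix.diagonal d ∈ R) (hs : (permMat shiftFin : Matrix (Fin 11) (Fin 11) k) ∈ R) : R = ⊤ := by
  refine eq_top_of_singles R fun i j => ?_
  have h := single_shift_mem R (single_diag_mem R hd hD) hs j (i - j).val
  rwa [shiftFin_iterate, add_sub_cancel] at h

/-- The two diagonal blocks are invariant or the algebra is everything. -/
theorem two_blocks (R : Subalgebra k (Matrix (Fin 11 ⊕ Fin 11) (Fin 11 ⊕ Fin 11) k))
    {d : Fin 11 ⊕ Fin 11 → k} (hd : Function.Injective d) (hD : Matrix.diagonal d ∈ R)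
    (hs : (permMat shiftSum : Matrix (Fin 11 ⊕ Fin 11) (Fin 11 ⊕ Fin 11) k) ∈ R) :
    R = ⊤ ∨ (∀ M ∈ R, ∀ i j, M (Sum.inr i) (Sum.inl j) = 0) ∨
      ∀ M ∈ R, ∀ i j, M (Sum.inl i) (Sum.inr j) = 0 := by
  by_contra hc
  push Not at hc
  obtain ⟨hne, ⟨M, hM, i, j, hij⟩, ⟨M', hM', i', j', hij'⟩⟩ := hc
  have hdiag := single_diag_mem R hd hD
  have hl : ∀ x y : Fin 11, Matrix.single (Sum.inl x) (Sum.inl y) (1 : k) ∈ R := fun x y => by
    have h := single_shift_mem R hdiag hs (Sum.inl y) (x - y).val
    rwa [(shiftSum_iterate _ _).1, add_sub_cancel] at h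
  have hr : ∀ x y : Fin 11, Matrix.single (Sum.inr x) (Sum.inr y) (1 : k) ∈ R := fun x y => by
    have h := single_shift_mem R hdiag hs (Sum.inr y) (x - y).val
    rwa [(shiftSum_iterate _ _).2, add_sub_cancel] at h
  have hpick : ∀ (N : Matrix _ _ k), N ∈ R → ∀ p q, N p q ≠ 0 → Matrix.single p q (1 : k) ∈ R := by
    intro N hN p q hpq
    have h := Subalgebra.smul_mem R (mul_mem (mul_mem (hdiag p) hN) (hdiag q)) (N p q)⁻¹
    rwa [Matrix.single_mul_mul_single, one_mul, mul_one, Matrix.smul_single, smul_eq_mul,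
      inv_mul_cancel₀ hpq] at h
  have hrl : ∀ x y : Fin 11, Matrix.single (Sum.inr x) (Sum.inl y) (1 : k) ∈ R := fun x y => by
    have h := mul_mem (mul_mem (hr x i) (hpick M hM _ _ hij)) (hl j y)
    simpa using h
  have hlr : ∀ x y : Fin 11, Matrix.single (Sum.inl x) (Sum.inr y) (1 : k) ∈ R := fun x y => by
    have h := mul_mem (mul_mem (hl x i') (hpick M' hM' _ _ hij')) (hr j' y)
    simpa using h
  refine hne (eq_top_of_singles R ?_)
  rintro (x | x) (y | y)
  exacts [hl x y, hlr x y, hrl x y, hr x y]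

variable {G : Type u} [Group G]

/-- The extension to the group algebra. -/
noncomputable def ext' {n : Type*} [Fintype n] [DecidableEq n] (τ : G →* Matrix n n k) :
    MonoidAlgebra k G →ₐ[k] Matrix n n k := MonoidAlgebra.lift k (Matrix n n k) G τ

theorem ext'_single {n : Type*} [Fintype n] [DecidableEq n] (τ : G →* Matrix n n k) (g : G) :
    ext' τ (single g 1) = τ g := by
  rw [ext', MonoidAlgebra.lift_single, one_smul]

theorem ext'_mem {n : Type*} [Fintype n] [DecidableEq n] (τ : G →* Matrix n n k) (g : G) :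
    τ g ∈ (ext' τ).range := ⟨single g 1, ext'_single τ g⟩

variable [CharP k 2]

/-- Descent of a representation of degree eleven. -/
theorem descent (τ τ' : G →* Matrix (Fin 11) (Fin 11) k) {ζ : k} (hζ : IsPrimitiveRoot ζ 23)
    {a β : G} (ha : τ a = Matrix.diagonal fun i => ζ ^ expo (Sum.inl i))
    (hβ : τ β = permMat shiftFin)
    (ha' : τ' a = Matrix.diagonal fun i => ζ ^ expo (Sum.inr i))
    (htr : ∀ g, ((τ g).trace + (τ' g).trace) ^ 2 = (τ g).trace + (τ' g).trace) :
    ∃ rho : G →* GL (Fin 11) (ZMod 2), rho a ≠ 1 := by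
  classical
  haveI : Fact (Nat.Prime 2) := ⟨Nat.prime_two⟩
  set d : Fin 11 → k := fun i => ζ ^ expo (Sum.inl i) with hd
  have h23 : ∀ m, ζ ^ (m % 23) = ζ ^ m := fun m => (pow_eq_pow_mod m hζ.pow_eq_one).symm
  have hlt : ∀ p, expo p < 23 := by decide +kernel
  have hdinj : Function.Injective d := fun i j h =>
    Sum.inl.inj (expo_inj (hζ.pow_inj (hlt _) (hlt _) h))
  have hdshift : ∀ i, d (shiftFin i) = d i ^ 2 := fun i => by
    have h : expo (Sum.inl (shiftFin i)) = 2 * expo (Sum.inl i) % 23 := expo_shift (Sum.inl i)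
    simp only [hd, h, h23, ← pow_mul, mul_comm]
  -- the Frobenius twists
  set F : k →+* k := frobenius k 2 with hF
  have hFap : ∀ x, F x = x ^ 2 := fun x => rfl
  set τF : G →* Matrix (Fin 11) (Fin 11) k := F.mapMatrix.toMonoidHom.comp τ with hτF
  set τF' : G →* Matrix (Fin 11) (Fin 11) k := F.mapMatrix.toMonoidHom.comp τ' with hτF'
  have hFa : τF a = Matrix.diagonal fun i => d (shiftFin i) := by
    show (τ a).map F = _
    rw [ha, Matrix.diagonal_map (map_zero F)]
    congr 1
    funext i
    rw [hdshift]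
    rfl
  have hFβ : τF β = permMat shiftFin := by
    show (τ β).map F = _
    rw [hβ]
    ext i j
    simp only [Matrix.map_apply, permMat, Matrix.of_apply]
    split_ifs <;> simp
  have hsurjF : Function.Surjective (ext' τF) := (AlgHom.range_eq_top _).1
    (eq_top_eleven _ (hdinj.comp shiftFin.injective) (hFa ▸ ext'_mem τF a) (hFβ ▸ ext'_mem τF β))
  have hsurj : Function.Surjective (ext' τ) := (AlgHom.range_eq_top _).1
    (eq_top_eleven _ hdinj (ha ▸ ext'_mem τ a) (hβ ▸ ext'_mem τ β))
  -- the Gauss period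
  set m : MonoidAlgebra k G := ∑ i : Fin 11, single (a ^ 2 ^ i.val) 1 with hm
  set η := ∑ i : Fin 11, ζ ^ expo (Sum.inl i) with hη
  set η' := ∑ i : Fin 11, ζ ^ expo (Sum.inr i) with hη'
  have hsum : η + η' = 1 := by
    rw [hη, hη', ← Fintype.sum_sum_type (fun p => ζ ^ expo p),
      ← Finset.sum_image (f := fun e => ζ ^ e) expo_inj.injOn, expo_image]
    have h := hζ.geom_sum_eq_zero (by norm_num : 1 < 23)
    rw [← Finset.add_sum_erase _ _ (Finset.mem_range.2 (by norm_num : 0 < 23)), pow_zero] at h
    exact (CharTwo.add_eq_zero.1 h).symm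
  have hmval : ∀ (f : Fin 11 → Fin 11 ⊕ Fin 11), (∀ i j, expo (f (i + j)) = expo (f j) * 2 ^ i.val % 23) →
      ∀ σ : G →* Matrix (Fin 11) (Fin 11) k, (σ a = Matrix.diagonal fun i => ζ ^ expo (f i)) →
        ext' σ m = (∑ i, ζ ^ expo (f i)) • 1 := by
    intro f hf σ hσ
    rw [hm, map_sum]
    simp only [ext'_single, map_pow, hσ, Matrix.diagonal_pow]
    ext p q
    by_cases hpq : p = q
    · subst hpq
      rw [Matrix.sum_apply, Matrix.smul_apply, Matrix.one_apply_eq, smul_eq_mul, mul_one]
      simp only [Matrix.diagonal_apply_eq, Pi.pow_apply, ← pow_mul]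
      refine (Finset.sum_congr rfl fun i _ => ?_).trans (Equiv.sum_comp (Equiv.addRight p)
        fun j => ζ ^ expo (f j))
      rw [Equiv.coe_addRight, hf, h23]
    · rw [Matrix.sum_apply, Matrix.smul_apply, Matrix.one_apply_ne hpq, smul_zero]
      exact Finset.sum_eq_zero fun i _ => Matrix.diagonal_apply_ne _ hpq
  have hmτ : ext' τ m = η • 1 := hmval Sum.inl (fun i j => (expo_orbit i j).1) τ ha
  have hmτ' : ext' τ' m = η' • 1 := hmval Sum.inr (fun i j => (expo_orbit i j).2) τ' ha'
  have hFext : ∀ (σ : G →* Matrix (Fin 11) (Fin 11) k) (c : k), ext' σ m = c • 1 →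
      ext' (F.mapMatrix.toMonoidHom.comp σ) m = F c • 1 := by
    intro σ c hc
    rw [hm, map_sum] at hc ⊢
    simp only [ext'_single] at hc ⊢
    have h := congrArg F.mapMatrix hc
    rw [map_sum] at h
    rw [show (fun x : Fin 11 => (F.mapMatrix.toMonoidHom.comp σ) (a ^ 2 ^ x.val)) =
      fun x : Fin 11 => F.mapMatrix (σ (a ^ 2 ^ x.val)) from rfl, h]
    ext p q
    by_cases hpq : p = q
    · subst hpq; simp
    · simp [Matrix.one_apply_ne hpq]
  have hηsq : η ^ 2 = η := by
    have h : η = ∑ i, d i := rfl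
    rw [h, CharTwo.sum_sq]
    simp only [← hdshift]
    exact Equiv.sum_comp shiftFin d
  have hη'sq : η' ^ 2 = η' := by
    have h : η' = η + 1 := by
      rw [← hsum, ← add_assoc, CharTwo.add_self_eq_zero, zero_add]
    rw [h, CharTwo.add_sq, one_pow, hηsq]
  have hmF : ext' τF m = η • 1 := by
    rw [hτF, hFext τ η hmτ, hFap, hηsq]
  have hmF' : ext' τF' m = η' • 1 := by
    rw [hτF', hFext τ' η' hmτ', hFap, hη'sq]
  -- the kernels agree
  have hkey : ∀ w, ext' τ w = 0 → ext' τF w = 0 := by
    intro w hw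
    by_contra hne
    obtain ⟨i, j, hij⟩ : ∃ i j, ext' τF w i j ≠ 0 := by
      by_contra! h
      exact hne (Matrix.ext h)
    choose pre hpre using fun M => hsurjF M
    set x1 := pre (Matrix.single 0 i (ext' τF w i j)⁻¹) * w * pre (Matrix.single j 0 1) with hx1
    set x2 := m - η' • (1 : MonoidAlgebra k G) with hx2
    have hdiff : η - η' = 1 := by rw [CharTwo.sub_eq_add, hsum]
    have e1 : ext' τF (x1 * x2) = Matrix.single (0 : Fin 11) 0 (1 : k) := by
      rw [map_mul, hx2, map_sub, hmF, map_smul, map_one, ← sub_smul, hdiff, one_smul, mul_one, hx1,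
        map_mul, map_mul, hpre, hpre, Matrix.single_mul_mul_single, mul_one, inv_mul_cancel₀ hij]
    have e2 : ext' τ (x1 * x2) = 0 := by
      rw [map_mul, hx1, map_mul, map_mul, hw, mul_zero, zero_mul, zero_mul]
    have e3 : ext' τ' (x1 * x2) = 0 := by
      rw [map_mul (ext' τ') x1, hx2, map_sub, hmτ', map_smul, map_one, sub_self, mul_zero]
    have e4 : ext' τF' (x1 * x2) = 0 := by
      rw [map_mul (ext' τF') x1, hx2, map_sub, hmF', map_smul, map_one, sub_self, mul_zero]
    have hlin : ∀ x : MonoidAlgebra k G, (ext' τ x).trace + (ext' τ' x).trace + (ext' τF x).trace +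
        (ext' τF' x).trace = 0 := by
      intro x
      induction x using MonoidAlgebra.induction_linear with
      | zero => simp
      | add u v hu hv =>
        simp only [map_add, Matrix.trace_add]
        linear_combination hu + hv
      | single g c =>
        rw [show single g c = c • (single g (1 : k) : MonoidAlgebra k G) by
          rw [smul_single, smul_eq_mul, mul_one]]
        simp only [map_smul, Matrix.trace_smul, ext'_single, ← smul_add]
        have h1 : (τF g).trace = (τ g).trace ^ 2 := (AddMonoidHom.map_trace F.toAddMonoidHom (τ g)).symm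
        have h2 : (τF' g).trace = (τ' g).trace ^ 2 :=
          (AddMonoidHom.map_trace F.toAddMonoidHom (τ' g)).symm
        rw [h1, h2, add_assoc ((τ g).trace + (τ' g).trace), ← CharTwo.add_sq, htr,
          CharTwo.add_self_eq_zero, smul_zero]
    have h := hlin (x1 * x2)
    rw [e1, e2, e3, e4] at h
    simp at h
  -- the twist is the conjugate by the shift
  set Pm : Matrix (Fin 11) (Fin 11) k := permMat shiftFin with hPm
  set Pi' : Matrix (Fin 11) (Fin 11) k := permMat shiftFin.symm with hPi
  have hPP : Pm * Pi' = 1 ∧ Pi' * Pm = 1 := by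
    constructor <;>
    · ext i j
      rw [permMat_mul]
      simp [hPm, hPi, permMat, Matrix.one_apply]
  let E : Subalgebra k (MonoidAlgebra k G) :=
    { carrier := {x | Pm * ext' τF x = ext' τ x * Pm}
      mul_mem' := fun {x y} hx hy => by
        show Pm * ext' τF (x * y) = ext' τ (x * y) * Pm
        rw [map_mul, map_mul, ← Matrix.mul_assoc, hx, Matrix.mul_assoc, hy, Matrix.mul_assoc]
      one_mem' := by simp
      add_mem' := fun {x y} hx hy => by
        show Pm * ext' τF (x + y) = ext' τ (x + y) * Pm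
        rw [map_add, map_add, Matrix.mul_add, hx, hy, Matrix.add_mul]
      zero_mem' := by simp
      algebraMap_mem' := fun c => by
        show Pm * ext' τF (algebraMap k _ c) = ext' τ (algebraMap k _ c) * Pm
        rw [AlgHom.commutes, AlgHom.commutes, Algebra.commutes] }
  have hEa : single a (1 : k) ∈ E := by
    show Pm * ext' τF (single a 1) = ext' τ (single a 1) * Pm
    rw [ext'_single, ext'_single, hFa, ha]
    ext i j
    rw [permMat_mul, mul_permMat]
    by_cases h : i = shiftFin j
    · subst h; simp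
    · rw [Matrix.diagonal_apply_ne _ fun e => h (by rw [← e, Equiv.apply_symm_apply]),
        Matrix.diagonal_apply_ne _ h]
  have hEβ : single β (1 : k) ∈ E := by
    show Pm * ext' τF (single β 1) = ext' τ (single β 1) * Pm
    rw [ext'_single, ext'_single, hFβ, hβ]
  have htop : E.map (ext' τ) = ⊤ := eq_top_eleven _ hdinj
    ⟨single a 1, hEa, (ext'_single τ a).trans ha⟩ ⟨single β 1, hEβ, (ext'_single τ β).trans hβ⟩
  have hconj : ∀ g, Pm * τF g = τ g * Pm := by
    intro g
    obtain ⟨y, hy, hye⟩ : τ g ∈ E.map (ext' τ) := htop ▸ Algebra.mem_top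
    have h0 : ext' τ (single g 1 - y) = 0 := by
      rw [map_sub, ext'_single, show ext' τ y = τ g from hye, sub_self]
    have h1 := hkey _ h0
    rw [map_sub, ext'_single, sub_eq_zero] at h1
    rw [h1, show Pm * ext' τF y = ext' τ y * Pm from hy, show ext' τ y = τ g from hye]
  -- change of basis
  set Q : Matrix (Fin 11) (Fin 11) k := Matrix.vandermonde d with hQ
  have hQu : IsUnit Q.det := isUnit_iff_ne_zero.2 (Matrix.det_vandermonde_ne_zero_iff.2 hdinj)
  have hFQ : Q.map F = Pi' * Q := by
    ext i j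
    rw [permMat_mul, Matrix.map_apply, hQ, Matrix.vandermonde_apply, Matrix.vandermonde_apply,
      Equiv.symm_symm, hdshift, map_pow, hFap]
  have hFQinv : (Q⁻¹).map F = Q⁻¹ * Pm := by
    have h1 : (Q⁻¹).map F * Q.map F = 1 := by
      rw [← Matrix.map_mul, Matrix.nonsing_inv_mul _ hQu, Matrix.map_one _ (map_zero F) (map_one F)]
    have h2 : Q⁻¹ * Pm * Q.map F = 1 := by
      rw [hFQ, Matrix.mul_assoc, ← Matrix.mul_assoc Pm, hPP.1, Matrix.one_mul,
        Matrix.nonsing_inv_mul _ hQu]
    have h3 : Q.map F * (Q⁻¹).map F = 1 := by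
      rw [← Matrix.map_mul, Matrix.mul_nonsing_inv _ hQu, Matrix.map_one _ (map_zero F) (map_one F)]
    calc (Q⁻¹).map F = Q⁻¹ * Pm * Q.map F * (Q⁻¹).map F := by rw [h2, Matrix.one_mul]
      _ = Q⁻¹ * Pm := by rw [Matrix.mul_assoc, h3, Matrix.mul_one]
  set r : G → Matrix (Fin 11) (Fin 11) k := fun g => Q⁻¹ * τ g * Q with hr
  have hfix : ∀ g i j, r g i j = 0 ∨ r g i j = 1 := by
    intro g i j
    have hmap : (r g).map F = r g := by
      rw [hr]
      simp only [Matrix.map_mul]
      rw [hFQinv, hFQ, show (τ g).map F = τF g from rfl,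
        show Q⁻¹ * Pm * τF g * (Pi' * Q) = Q⁻¹ * (Pm * τF g) * (Pi' * Q) by
          simp only [Matrix.mul_assoc], hconj,
        show Q⁻¹ * (τ g * Pm) * (Pi' * Q) = Q⁻¹ * τ g * (Pm * Pi') * Q by
          simp only [Matrix.mul_assoc], hPP.1, Matrix.mul_one]
    have h : F (r g i j) = r g i j := congrFun (congrFun hmap i) j
    rw [hFap] at h
    rcases mul_eq_zero.1 (show r g i j * (r g i j - 1) = 0 by rw [mul_sub, mul_one, ← sq, h, sub_self])
      with h' | h'
    · exact Or.inl h'
    · exact Or.inr (sub_eq_zero.1 h')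
  letI : Algebra (ZMod 2) k := ZMod.algebra k 2
  let f : ZMod 2 →+* k := algebraMap (ZMod 2) k
  have hinj : Function.Injective f.mapMatrix (α := Matrix (Fin 11) (Fin 11) (ZMod 2)) :=
    fun A B h => Matrix.ext fun i j => f.injective (congrFun (congrFun h i) j)
  let r0 : G → Matrix (Fin 11) (Fin 11) (ZMod 2) := fun g => Matrix.of fun i j =>
    if r g i j = 1 then 1 else 0
  have hr0 : ∀ g, f.mapMatrix (r0 g) = r g := fun g => by
    ext i j
    rcases hfix g i j with h | h <;> simp [r0, h]
  have hrmul : ∀ g h, r (g * h) = r g * r h := fun g h => by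
    simp only [hr, map_mul]
    rw [show Q⁻¹ * τ g * Q * (Q⁻¹ * τ h * Q) = Q⁻¹ * τ g * (Q * Q⁻¹) * (τ h * Q) by
      simp only [Matrix.mul_assoc], Matrix.mul_nonsing_inv _ hQu, Matrix.mul_one]
    simp only [Matrix.mul_assoc]
  let R0 : G →* Matrix (Fin 11) (Fin 11) (ZMod 2) :=
    { toFun := r0
      map_one' := hinj (by
        rw [hr0, map_one]
        simp only [hr, map_one, Matrix.mul_one, Matrix.nonsing_inv_mul _ hQu])
      map_mul' := fun g h => hinj (by rw [map_mul, hr0, hr0, hr0, hrmul]) }
  refine ⟨R0.toHomUnits, fun h => ?_⟩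
  have h1 : r a = 1 := by
    rw [← hr0, show r0 a = 1 from congrArg Units.val h, map_one]
  have h2 : τ a = 1 := by
    calc τ a = Q * r a * Q⁻¹ := by
          simp only [hr, ← Matrix.mul_assoc, Matrix.mul_nonsing_inv _ hQu, Matrix.one_mul]
          rw [Matrix.mul_assoc, Matrix.mul_nonsing_inv _ hQu, Matrix.mul_one]
      _ = 1 := by rw [h1, Matrix.mul_one, Matrix.mul_nonsing_inv _ hQu]
  rw [ha, ← Matrix.diagonal_one, Matrix.diagonal_eq_diagonal_iff] at h2
  exact absurd (hdinj ((h2 0).trans (h2 1).symm)) (by decide)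

/-- A representation of degree 22 which is not onto yields a representation of degree 11 over the
field with two elements. -/
theorem exists_rho_of_not_onto (σ : G →* Matrix (Fin 11 ⊕ Fin 11) (Fin 11 ⊕ Fin 11) k) {ζ : k}
    (hζ : IsPrimitiveRoot ζ 23) {a β : G} (ha : σ a = Matrix.diagonal fun p => ζ ^ expo p)
    (hβ : σ β = permMat shiftSum) (hnot : ¬ Function.Surjective (ext' σ))
    (htr : ∀ g, (σ g).trace ^ 2 = (σ g).trace) :
    ∃ rho : G →* GL (Fin 11) (ZMod 2), rho a ≠ 1 := by
  have hlt : ∀ p, expo p < 23 := by decide +kernel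
  have hinj : Function.Injective fun p => ζ ^ expo p := fun p q h =>
    expo_inj (hζ.pow_inj (hlt _) (hlt _) h)
  have hblocks := two_blocks (ext' σ).range hinj (ha ▸ ext'_mem σ a) (hβ ▸ ext'_mem σ β)
  replace hblocks := hblocks.resolve_left fun h => hnot ((AlgHom.range_eq_top _).1 h)
  have hmul : ∀ g h, (σ (g * h)).toBlocks₁₁ = (σ g).toBlocks₁₁ * (σ h).toBlocks₁₁ ∧
      (σ (g * h)).toBlocks₂₂ = (σ g).toBlocks₂₂ * (σ h).toBlocks₂₂ := by
    intro g h
    rw [map_mul]
    rcases hblocks with hb | hb
    · constructor <;>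
      · ext i j
        simp [Matrix.mul_apply, Matrix.toBlocks₁₁, Matrix.toBlocks₂₂, Fintype.sum_sum_type,
          hb _ (ext'_mem σ g), hb _ (ext'_mem σ h)]
    · constructor <;>
      · ext i j
        simp [Matrix.mul_apply, Matrix.toBlocks₁₁, Matrix.toBlocks₂₂, Fintype.sum_sum_type,
          hb _ (ext'_mem σ g), hb _ (ext'_mem σ h)]
  let τ : G →* Matrix (Fin 11) (Fin 11) k :=
    { toFun := fun g => (σ g).toBlocks₁₁
      map_one' := by ext i j; simp [Matrix.toBlocks₁₁, Matrix.one_apply]
      map_mul' := fun g h => (hmul g h).1 }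
  let τ' : G →* Matrix (Fin 11) (Fin 11) k :=
    { toFun := fun g => (σ g).toBlocks₂₂
      map_one' := by ext i j; simp [Matrix.toBlocks₂₂, Matrix.one_apply]
      map_mul' := fun g h => (hmul g h).2 }
  refine descent τ τ' hζ (a := a) (β := β) ?_ ?_ ?_ fun g => ?_
  · ext i j
    simp [τ, ha, Matrix.toBlocks₁₁, Matrix.diagonal_apply]
  · ext i j
    simp [τ, hβ, Matrix.toBlocks₁₁, permMat, shiftSum]
  · ext i j
    simp [τ', ha, Matrix.toBlocks₂₂, Matrix.diagonal_apply]
  · have h : (σ g).trace = (τ g).trace + (τ' g).trace := by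
      simp [τ, τ', Matrix.trace, Matrix.toBlocks₁₁, Matrix.toBlocks₂₂, Fintype.sum_sum_type]
    rw [← h, htr]

end CfsgLib.MTwentyThreeUnique
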